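import Cfsg.Agent.FusU.B
import Mathlib.Algebra.QuadraticAlgebra.Basic

/-! A model of the Sylow `p`-subgroup of `SU₄(q)`. -/

set_option autoImplicit false
set_option linter.style.haveILetI false

namespace CF.FusV

open Cfsg Cfsg.FusionSystem Subgroup CF.Fus CF.FusD Function
open CF.FusU (cm mul_cm cm_eq_one Uf exists_theta exists_sk exists_sk_eq eq_zero_of_real)

/-- the model of the Sylow subgroup -/
@[ext] structure Sv (K : Type*) [Field K] [StarRing K] where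
  s : K
  c : K
  u : K
  z : K
  hc : star c = -c
  hz : star z = -z - s * star u - star s * u

attribute [simp] Sv.hc Sv.hz

namespace Sv

variable {K : Type*} [Field K] [StarRing K]

instance instMulSv : Mul (Sv K) := ⟨fun x y =>
  ⟨x.s + y.s, x.c + y.c, x.u + y.u + x.s * y.c, x.z + y.z - x.s * (star y.u + star y.s * y.c) - x.u * star y.s,
    by simp; ring, by simp; ring⟩⟩
instance instOneSv : One (Sv K) := ⟨⟨0, 0, 0, 0, by simp, by simp⟩⟩
instance instInvSv : Inv (Sv K) := ⟨fun x => ⟨-x.s, -x.c, x.s * x.c - x.u, -x.z - x.s * star x.u - star x.s * x.u,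
  by simp, by simp; ring⟩⟩

@[simp] theorem mul_s (x y : Sv K) : (x * y).s = x.s + y.s := rfl
@[simp] theorem mul_c (x y : Sv K) : (x * y).c = x.c + y.c := rfl
@[simp] theorem mul_u (x y : Sv K) : (x * y).u = x.u + y.u + x.s * y.c := rfl
@[simp] theorem mul_z (x y : Sv K) :
    (x * y).z = x.z + y.z - x.s * (star y.u + star y.s * y.c) - x.u * star y.s := rfl
@[simp] theorem one_s : (1 : Sv K).s = 0 := rfl
@[simp] theorem one_c : (1 : Sv K).c = 0 := rfl
@[simp] theorem one_u : (1 : Sv K).u = 0 := rfl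
@[simp] theorem one_z : (1 : Sv K).z = 0 := rfl
@[simp] theorem inv_s (x : Sv K) : x⁻¹.s = -x.s := rfl
@[simp] theorem inv_c (x : Sv K) : x⁻¹.c = -x.c := rfl
@[simp] theorem inv_u (x : Sv K) : x⁻¹.u = x.s * x.c - x.u := rfl
@[simp] theorem inv_z (x : Sv K) : x⁻¹.z = -x.z - x.s * star x.u - star x.s * x.u := rfl

instance instGroupSv : Group (Sv K) := Group.ofLeftAxioms
  (fun _ _ _ => by ext <;> simp <;> ring) (fun _ => by ext <;> simp) fun _ => by ext <;> simp <;> ring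

instance instFiniteSv [Finite K] : Finite (Sv K) :=
  Finite.of_injective (fun x => (x.s, x.c, x.u, x.z)) fun x y e => by
    simp only [Prod.mk.injEq] at e
    exact Sv.ext e.1 e.2.1 e.2.2.1 e.2.2.2

instance instDecEqSv [DecidableEq K] : DecidableEq (Sv K) := fun _ _ => decidable_of_iff _ Sv.ext_iff.symm

variable (x y : Sv K)

@[simp] theorem cm_s : (cm x y).s = 0 := by simp [cm]
@[simp] theorem cm_c : (cm x y).c = 0 := by simp [cm]
theorem cm_u : (cm x y).u = y.s * x.c - x.s * y.c := by simp [cm]; ring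
theorem cm_z : (cm x y).z = x.u * star y.s - y.s * star x.u + x.s * star y.u - y.u * star x.s +
    y.s * star y.s * x.c + x.s * star x.s * y.c - (x.s * star y.s + y.s * star x.s) * x.c := by
  simp [cm]; ring

end Sv

open Sv

variable {K : Type*} [Field K] [StarRing K] {x y z t a : Sv K} {α β γ δ ε d : K} {σ τ : K ≃+* K}

/-- the abelian subgroup of order `q ^ 4` -/
def sJ (K : Type*) [Field K] [StarRing K] : Subgroup (Sv K) where
  carrier := {x | x.s = 0}
  one_mem' := rfl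
  mul_mem' := fun {x y} h k => by simp_all
  inv_mem' := fun {x} h => by simp_all

/-- the special subgroup of order `q ^ 5` -/
def sQ (K : Type*) [Field K] [StarRing K] : Subgroup (Sv K) where
  carrier := {x | x.c = 0}
  one_mem' := rfl
  mul_mem' := fun {x y} h k => by simp_all
  inv_mem' := fun {x} h => by simp_all

/-- the second centre -/
def sA (K : Type*) [Field K] [StarRing K] : Subgroup (Sv K) where
  carrier := {x | x.s = 0 ∧ x.c = 0}
  one_mem' := ⟨rfl, rfl⟩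
  mul_mem' := fun {x y} h k => by simp_all
  inv_mem' := fun {x} h => by simp_all

/-- the centre -/
def sZ (K : Type*) [Field K] [StarRing K] : Subgroup (Sv K) where
  carrier := {x | x.s = 0 ∧ x.c = 0 ∧ x.u = 0}
  one_mem' := ⟨rfl, rfl, rfl⟩
  mul_mem' := fun {x y} h k => by simp_all
  inv_mem' := fun {x} h => by simp_all

/-- the subgroups of index `q` above `J` -/
def sE (a : K) : Subgroup (Sv K) where
  carrier := {x | x.s * star a = a * star x.s}
  one_mem' := by simp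
  mul_mem' := fun {x y} h k => by
    simp only [Set.mem_setOf_eq, mul_s, star_add] at h k ⊢; linear_combination h + k
  inv_mem' := fun {x} h => by simp only [Set.mem_setOf_eq, inv_s, star_neg] at h ⊢; linear_combination -h

theorem mem_sJ : x ∈ sJ K ↔ x.s = 0 := Iff.rfl
theorem mem_sQ : x ∈ sQ K ↔ x.c = 0 := Iff.rfl
theorem mem_sA : x ∈ sA K ↔ x.s = 0 ∧ x.c = 0 := Iff.rfl
theorem mem_sZ : x ∈ sZ K ↔ x.s = 0 ∧ x.c = 0 ∧ x.u = 0 := Iff.rfl
theorem mem_sE : x ∈ sE α ↔ x.s * star α = α * star x.s := Iff.rfl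

theorem Z_le : sZ K ≤ sA K := fun _ h => ⟨h.1, h.2.1⟩
theorem A_le_J : sA K ≤ sJ K := fun _ h => h.1
theorem A_le_Q : sA K ≤ sQ K := fun _ h => h.2
theorem J_le_E : sJ K ≤ sE α := fun _ h => by simp [mem_sE, mem_sJ.1 h]
theorem Z_of (h : x ∈ sA K) (e : x.u = 0) : x ∈ sZ K := ⟨h.1, h.2, e⟩

theorem Z_ext (h : x ∈ sZ K) (k : y ∈ sZ K) (e : x.z = y.z) : x = y :=
  Sv.ext (h.1.trans k.1.symm) (h.2.1.trans k.2.1.symm) (h.2.2.trans k.2.2.symm) e

theorem z_sk (h : x.s = 0) : star x.z = -x.z := by simp [h]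

theorem cm_A (x y : Sv K) : cm x y ∈ sA K := ⟨cm_s x y, cm_c x y⟩
theorem cm_Z (h : x ∈ sA K) (y : Sv K) : cm x y ∈ sZ K := Z_of (cm_A x y) (by simp [cm_u, h.1, h.2])
theorem cm_Z' (x : Sv K) (h : y ∈ sA K) : cm x y ∈ sZ K := Z_of (cm_A x y) (by simp [cm_u, h.1, h.2])
theorem cm_Q (h : x ∈ sQ K) (k : y ∈ sQ K) : cm x y ∈ sZ K :=
  Z_of (cm_A x y) (by simp [cm_u, mem_sQ.1 h, mem_sQ.1 k])
theorem cm_z2 (h : x ∈ sA K) (y : Sv K) : (cm x y).z = x.u * star y.s - y.s * star x.u := by simp [cm_z, h.1, h.2]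
theorem cm_z2' (x : Sv K) (h : y ∈ sA K) : (cm x y).z = x.s * star y.u - y.u * star x.s := by simp [cm_z, h.1, h.2]

theorem Z_comm (h : z ∈ sZ K) (x : Sv K) : x * z = z * x := by ext <;> simp [h.1, h.2.1, h.2.2, add_comm]
theorem cm_one (h : z ∈ sZ K) (x : Sv K) : cm z x = 1 := cm_eq_one.2 (Z_comm h x).symm
theorem J_comm (h : x ∈ sJ K) (k : y ∈ sJ K) : x * y = y * x := by ext <;> simp [mem_sJ.1 h, mem_sJ.1 k, add_comm]

theorem A_comm (h : a ∈ sA K) : x * a = a * x ↔ x.s * star a.u = a.u * star x.s := by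
  rw [← cm_eq_one, ← sub_eq_zero (a := x.s * _), ← cm_z2' x h]
  exact ⟨fun e => by rw [e]; rfl, Z_ext (cm_Z' x h) (one_mem _)⟩

theorem comm_u (h : x * y = y * x) : x.s * y.c = y.s * x.c := by
  have := congrArg Sv.u h
  simp only [mul_u] at this
  linear_combination this

theorem norm_of_A {P : Subgroup (Sv K)} (h : ∀ x ∈ P, ∀ y, cm x y ∈ P) (t : Sv K) : t ∈ normalizer (P : Set (Sv K)) :=
  have a : ∀ s : Sv K, ∀ x ∈ P, s * x * s⁻¹ ∈ P := fun s x hx => mul_cm x s ▸ mul_mem hx (h x hx s)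
  mem_normalizer_of (a t) fun x hx => by simpa using a t⁻¹ x hx

theorem norm_le {P : Subgroup (Sv K)} (h : sA K ≤ P) (t : Sv K) : t ∈ normalizer (P : Set (Sv K)) :=
  norm_of_A (fun x _ y => h (cm_A x y)) t
theorem norm_Q (t : Sv K) : t ∈ normalizer (sQ K : Set (Sv K)) := norm_le A_le_Q t
theorem norm_J (t : Sv K) : t ∈ normalizer (sJ K : Set (Sv K)) := norm_le A_le_J t
theorem norm_Z (t : Sv K) : t ∈ normalizer (sZ K : Set (Sv K)) := norm_of_A (fun _ h y => cm_Z (Z_le h) y) t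

/-- root elements -/
@[simps] def xs (s : K) : Sv K := ⟨s, 0, 0, 0, by simp, by simp⟩
/-- root elements -/
@[simps] def xu (u : K) : Sv K := ⟨0, 0, u, 0, by simp, by simp⟩
/-- root elements -/
@[simps] def xc (c : K) (h : star c = -c) : Sv K := ⟨0, c, 0, 0, h, by simp⟩
/-- root elements -/
@[simps] def xz (z : K) (h : star z = -z) : Sv K := ⟨0, 0, 0, z, by simp, by simp [h]⟩
/-- elements of `Q` -/
@[simps] def xq (s u : K) : Sv K := ⟨s, 0, u, -(s * star u), by simp, by simp⟩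

theorem xu_mem (u : K) : xu u ∈ sA K := ⟨rfl, rfl⟩
theorem xs_mem (s : K) : xs s ∈ sQ K := rfl
theorem xq_mem (s u : K) : xq s u ∈ sQ K := rfl
theorem xc_mem {c : K} (h : star c = -c) : xc c h ∈ sJ K := rfl
theorem xz_mem {c : K} (h : star c = -c) : xz c h ∈ sZ K := ⟨rfl, rfl, rfl⟩

/-- the Weyl element for `J` -/
@[simps] def nj (x : Sv K) : Sv K := ⟨0, x.z + x.s * star x.u, star x.u, x.c, by simp; ring, by simp⟩
/-- the Weyl element for `Q` -/
@[simps] def nq (ε : K) (h0 : ε ≠ 0) (h : star ε = -ε) (x : Sv K) : Sv K :=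
  ⟨ε * x.u, 0, -(x.s / ε), x.z, by simp, by simp [h]; field_simp; ring⟩

theorem nj_mem (x : Sv K) : nj x ∈ sJ K := rfl
theorem mulOn_nj : MulOn nj (sJ K) := fun x hx y hy => by ext <;> simp [mem_sJ.1 hx, mem_sJ.1 hy]
theorem nj_nj (h : x ∈ sJ K) : nj (nj x) = x := by ext <;> simp [mem_sJ.1 h]
theorem piso_nj : PIso nj (sJ K) (sJ K) :=
  .of_inverse mulOn_nj (fun x _ => nj_mem x) (fun x _ => nj_mem x) (fun _ => nj_nj) fun _ => nj_nj

theorem nq_mem (h0 : ε ≠ 0) (h : star ε = -ε) (x : Sv K) : nq ε h0 h x ∈ sQ K := rfl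
theorem mulOn_nq (h0 : ε ≠ 0) (h : star ε = -ε) : MulOn (nq ε h0 h) (sQ K) := fun x hx y hy => by
  ext <;> simp [mem_sQ.1 hy, h] <;> field_simp <;> ring
theorem nq_nq (h0 : ε ≠ 0) (h : star ε = -ε) (hx : x ∈ sQ K) :
    nq (-ε) (neg_ne_zero.2 h0) (by simp [h]) (nq ε h0 h x) = x := by
  ext <;> simp [mem_sQ.1 hx] <;> field_simp
theorem piso_nq (h0 : ε ≠ 0) (h : star ε = -ε) : PIso (nq ε h0 h) (sQ K) (sQ K) :=
  .of_inverse (g := nq (-ε) (neg_ne_zero.2 h0) (by simp [h])) (mulOn_nq h0 h) (fun x _ => nq_mem h0 h x)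
    (fun x _ => nq_mem _ _ x) (fun _ => nq_nq h0 h) fun _ hx => by simpa using nq_nq (neg_ne_zero.2 h0) (by simp [h]) hx

variable [Uf K]

theorem exists_cm_A (hx : x.s ≠ 0) (hz : z ∈ sZ K) : ∃ a ∈ sA K, cm x a = z :=
  let ⟨t, e⟩ := exists_sk_eq hx (z_sk hz.1)
  ⟨xu t, xu_mem t, Z_ext (cm_Z' x (xu_mem t)) hz ((cm_z2' x (xu_mem t)).trans e)⟩

theorem s_zero (h : ∀ a ∈ sA K, x * a = a * x) : x.s = 0 :=
  eq_zero_of_real fun t => (A_comm (xu_mem t)).1 (h _ (xu_mem t))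

theorem CS_J : CS ⊤ (sJ K) ≤ sJ K := fun _ h => s_zero fun a ha => (h.2 a ha.1).symm

omit [Uf K] in
theorem CS_Q : CS ⊤ (sQ K) ≤ sQ K := fun x h => by simpa [mem_sQ] using comm_u (h.2 _ (xs_mem 1))

theorem cen_Q (h : ∀ y ∈ sQ K, x * y = y * x) : x ∈ sZ K := by
  have a1 : x.c = 0 := CS_Q (x := x) ⟨trivial, fun y hy => (h y hy).symm⟩
  have a2 := s_zero fun a ha => h a (A_le_Q ha)
  exact Z_of ⟨a2, a1⟩ (eq_zero_of_real fun t => ((A_comm ⟨a2, a1⟩).1 (h _ (xs_mem t)).symm).symm)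

/-- diagonal and field automorphisms -/
def dg (α β : K) (τ : K ≃+* K) : Sv K →* Sv K := MonoidHom.mk' (fun x =>
  ⟨α * τ x.s, β * star β * τ x.c, α * β * star β * τ x.u, α * star α * β * star β * τ x.z,
    by simp [← Uf.aut τ, mul_comm], by simp [← Uf.aut τ]; simp [Uf.aut]; ring⟩)
  fun x y => by ext <;> simp [Uf.aut] <;> ring

@[simp] theorem dg_s : (dg α β τ x).s = α * τ x.s := rfl
@[simp] theorem dg_c : (dg α β τ x).c = β * star β * τ x.c := rfl
@[simp] theorem dg_u : (dg α β τ x).u = α * β * star β * τ x.u := rfl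
@[simp] theorem dg_z : (dg α β τ x).z = α * star α * β * star β * τ x.z := rfl

theorem dg_dg (x : Sv K) : dg α β σ (dg γ δ τ x) = dg (α * σ γ) (β * σ δ) (σ * τ) x := by
  ext <;> simp [Uf.aut, RingAut.mul_apply] <;> ring

theorem dg_one (x : Sv K) : dg 1 1 1 x = x := by ext <;> simp

theorem dg_inv (hα : α ≠ 0) (hβ : β ≠ 0) (x : Sv K) : dg (τ⁻¹ α⁻¹) (τ⁻¹ β⁻¹) τ⁻¹ (dg α β τ x) = x := by
  rw [dg_dg, ← map_mul, ← map_mul, inv_mul_cancel₀ hα, inv_mul_cancel₀ hβ, map_one, inv_mul_cancel, dg_one]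

theorem piso_dg (hα : α ≠ 0) (hβ : β ≠ 0) : PIso (dg α β τ) ⊤ ⊤ :=
  piso_self_of_maps (mulOn_hom _ ⊤) (fun _ _ _ _ e => LeftInverse.injective (dg_inv hα hβ) e) fun _ _ => trivial

/-- partial automorphisms which are induced by conjugation -/
def Rl {G : Type*} [Group G] (φ : Sv K →* G) (P : Subgroup (Sv K)) (f : Sv K → Sv K) : Prop :=
  ∃ g, ∀ x ∈ P, g * φ x * g⁻¹ = φ (f x)

/-- a finite group with the model as a Sylow subgroup, the normalizer of which induces the automorphisms in `W` -/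
structure Wt (p : ℕ) {G : Type*} [Group G] (φ : Sv K →* G) (W : K → K → (K ≃+* K) → Prop) : Prop where
  fin : Finite G
  inj : Injective φ
  syl : SylIn p φ.range ⊤
  nj : Rl φ (sJ K) nj
  w : ∀ α β τ, α ≠ 0 → β ≠ 0 → W α β τ → Rl φ ⊤ (dg α β τ)
  top : ∀ g, (∀ x, ∃ y, g * φ x * g⁻¹ = φ y) →
    ∃ t α β τ, α ≠ 0 ∧ β ≠ 0 ∧ W α β τ ∧ ∀ x, g * φ x * g⁻¹ = φ (t * dg α β τ x * t⁻¹)

/-- normalized systems -/
structure Nm (F : FusionSystem (⊤ : Subgroup (Sv K))) (p : ℕ) : Prop where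
  sat : Sat F p
  top : ∀ f, Mor F ⊤ f → ∃ t α β τ, α ≠ 0 ∧ β ≠ 0 ∧ Mor F ⊤ (dg α β τ) ∧ ∀ x, f x = t * dg α β τ x * t⁻¹

/-- Bruhat decomposition for the automizer of `P` -/
def Br (F : FusionSystem (⊤ : Subgroup (Sv K))) (P : Subgroup (Sv K)) (n : Sv K → Sv K) : Prop :=
  ∀ φ ∈ F.autGroup P, ∃ f g, Mor F ⊤ f ∧ Mor F ⊤ g ∧ ((∀ x ∈ P, fn φ x = f x) ∨ ∀ x ∈ P, fn φ x = f (n (g x)))

/-- the action of diagonal automorphisms on the parameters of Lagrangian planes -/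
def act (α β : K) (τ : K ≃+* K) (d : K) : K := β * star β * τ d * α / star α

/-- the field with nine elements -/
abbrev K9 := QuadraticAlgebra (ZMod 3) (-1) 0
instance factK9 : Fact (∀ r : ZMod 3, r ^ 2 ≠ -1 + 0 * r) := ⟨by decide⟩
instance finK9 : Fintype K9 := Fintype.ofEquiv _ (QuadraticAlgebra.equivProd (-1 : ZMod 3) 0).symm
theorem card_K9 : Fintype.card K9 = (3 ^ 1) ^ 2 := by decide +kernel
theorem star_K9 : ∀ t : K9, star t = t ^ 3 := by decide +kernel
instance ufK9 : Uf K9 := ⟨inferInstance, by decide +kernel, by decide +kernel, fun τ x => by simp [star_K9]⟩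
instance charK9 : CharP K9 3 := (CharP.charP_iff_prime_eq_zero Nat.prime_three).2 (by decide)

/-- the field with four elements -/
abbrev K4 := QuadraticAlgebra (ZMod 2) 1 1
instance factK4 : Fact (∀ r : ZMod 2, r ^ 2 ≠ 1 + 1 * r) := ⟨by decide⟩
instance finK4 : Fintype K4 := Fintype.ofEquiv _ (QuadraticAlgebra.equivProd (1 : ZMod 2) 1).symm
theorem card_K4 : Fintype.card K4 = (2 ^ 1) ^ 2 := by decide +kernel
theorem star_K4 : ∀ t : K4, star t = t ^ 2 := by decide +kernel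
instance ufK4 : Uf K4 := ⟨inferInstance, by decide +kernel, by decide +kernel, fun τ x => by simp [star_K4]⟩
instance charK4 : CharP K4 2 := (CharP.charP_iff_prime_eq_zero Nat.prime_two).2 (by decide)

theorem one_sk4 : star (1 : K4) = -1 := by decide
/-- the Weyl element for `Q` over the field with four elements -/
abbrev n4 : Sv K4 → Sv K4 := nq 1 one_ne_zero one_sk4

/-- a square root of `-1` -/
def ii : K9 := ⟨0, 1⟩
theorem ii_ne : ii ≠ 0 := by decide
theorem ii_sk : star ii = -ii := by decide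
theorem three9 : (3 : K9) = 0 := by decide

/-- shifts -/
def nu (d : K9) : Sv K9 →* Sv K9 := MonoidHom.mk' (fun x =>
  ⟨x.s, x.c, x.u + d * star x.s, x.z + (star d * x.s ^ 2 + d * star x.s ^ 2), x.hc, by
    simp; linear_combination (star d * x.s ^ 2 + d * star x.s ^ 2) * three9⟩)
  fun x y => by
    refine Sv.ext rfl rfl ?_ ?_ <;> simp
    · ring
    · linear_combination (star d * x.s * y.s + d * star x.s * star y.s) * three9

/-- shifted Weyl elements for `Q` -/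
def nd (d : K9) (x : Sv K9) : Sv K9 := nu d (nq ii ii_ne ii_sk (nu (-d) x))

/-- witnesses for the exceptional systems -/
def Wx (D : List K9) (W : K9 → K9 → (K9 ≃+* K9) → Prop) : Prop :=
  ∃ (G : Type) (_ : Group G) (φ : Sv K9 →* G), Wt 3 φ W ∧ ∀ d ∈ D, Rl φ (sQ K9) (nd d)

end CF.FusV
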