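import Cfsg.Agent.FusV.A

/-! Essential subgroups of a Sylow `p`-subgroup of `SU₄(q)`. -/

set_option autoImplicit false
set_option linter.style.haveILetI false

namespace CF.FusV

open Cfsg Cfsg.FusionSystem Subgroup CF.Fus CF.FusD Function Sv
open CF.FusU (cm mul_cm cm_eq_one Uf exists_theta exists_sk exists_sk_eq eq_zero_of_real Mn exists_mn fn_cm fn_comm
  le_stab stab_of_char le_stab_top le_stab_bot cm_mem')

variable {K : Type*} [Field K] [StarRing K] {x y z t a e : Sv K} {E : Subgroup (Sv K)} {p : ℕ}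
  {Y M : Subgroup (MulAut E)} {g α : MulAut E} {s r : K}

theorem stab_A [Uf K] (hJ : sJ K ≤ E) (hg : g ∈ stab E (sJ K)) (s0 : s ≠ 0) (r1 : star r = r) (r2 : r ≠ 0) (r3 : r ≠ 1)
    (h : ∀ l, star l = l → l ≠ 0 → ∃ x : Sv K, x.s ≠ 0 ∧ ∀ a ∈ sJ K, fn g (cm a x) = cm (fn g a) (xs (l * s))) :
    g ∈ stab E (sA K) := by
  have s1 := star_ne_zero.2 s0
  have l := A_le_J.trans hJ
  have j : ∀ a ∈ sA K, (fn g a).s = 0 := fun a ha => stab_maps hg ha.1
  have k : ∀ a ∈ sA K, ∀ l m : K, star l = l → star m = m → l ≠ 0 → m ≠ 0 → ∃ b ∈ sA K, m * (fn g b).c = l * (fn g a).c ∧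
      m * ((fn g b).u * star s - s * star (fn g b).u) + m ^ 2 * s * star s * (fn g b).c =
        l * ((fn g a).u * star s - s * star (fn g a).u) + l ^ 2 * s * star s * (fn g a).c := fun a ha l m l1 m1 l2 m2 => by
    obtain ⟨x, -, e1⟩ := h l l1 l2
    obtain ⟨y, y0, e2⟩ := h m m1 m2
    obtain ⟨w, e3⟩ := exists_sk_eq y0 (ζ := -(cm a x).z) (by simp)
    have e4 : cm (xu w) y = cm a x := Z_ext (cm_Z (xu_mem w) y) (cm_Z ha x) (by
      rw [cm_z2 (xu_mem w), xu_u]; linear_combination -e3)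
    have e5 := (e2 _ (xu_mem w).1).symm.trans (e4 ▸ e1 a ha.1)
    have e6 := congrArg Sv.u e5
    have e7 := congrArg Sv.z e5
    simp only [cm_u, cm_z, j a ha, j _ (xu_mem w), xs_s, xs_c, xs_u, star_mul', l1, m1, star_zero] at e6 e7
    exact ⟨_, xu_mem w, mul_left_cancel₀ s0 (by linear_combination e6), by linear_combination e7⟩
  have n : ∀ b ∈ sA K, b.u * star s - s * star b.u = 0 → fn g⁻¹ b ∈ sA K := fun b hb e => by
    obtain ⟨x, x0, e1⟩ := h 1 (star_one _) one_ne_zero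
    have m := stab_maps (inv_mem hg) hb.1
    have e2 := e1 _ m
    rw [fn_fn_inv, Z_ext (cm_Z hb _) (one_mem _) (by simpa [cm_z2 hb] using e)] at e2
    have e3 := congrArg (fun y => (fn g⁻¹ y).u) e2
    simp only [fn_inv_fn, (mulOn_fn g⁻¹).map_one, cm_u, mem_sJ.1 m] at e3
    exact ⟨m, by simpa [x0] using e3⟩
  refine mem_stab_of_maps l fun a ha => ⟨j a ha, by_contra fun c => ?_⟩
  obtain ⟨b, hb, b1, b2⟩ := k a ha r 1 r1 (star_one _) r2 one_ne_zero
  obtain ⟨d, hd, d1, d2⟩ := k a ha (r ^ 2) r (by simp [r1]) r1 (pow_ne_zero 2 r2) r2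
  have w0 := mul_mem (inv_mem hb) hd
  have w1 : (fn g (b⁻¹ * d)).c = 0 := by
    rw [(mulOn_fn g).map_inv_mul (l hb) (l hd), mul_c, inv_c]
    exact mul_left_cancel₀ r2 (by linear_combination d1 - r * b1)
  have w2 : (fn g (b⁻¹ * d)).u * star s - s * star (fn g (b⁻¹ * d)).u ≠ 0 := fun e => by
    rw [(mulOn_fn g).map_inv_mul (l hb) (l hd)] at e
    simp only [mul_u, inv_u, inv_s, j b hb, star_add, star_sub, zero_mul, neg_zero, star_zero] at e
    refine mul_ne_zero (mul_ne_zero (mul_ne_zero s0 s1) c) (mul_ne_zero (pow_ne_zero 2 r2)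
      (pow_ne_zero 2 (sub_ne_zero.2 r3))) ?_
    linear_combination r * e - d2 + r * b2 + r * s * star s * d1 - r * s * star s * b1
  generalize b⁻¹ * d = w at w0 w1 w2
  refine c (stab_maps ((Subgroup.inv_mem_iff _).1 (mem_stab_of_maps l fun v hv => ?_)) ha).2
  by_cases v0 : v.u * star s - s * star v.u = 0
  · exact n v hv v0
  obtain ⟨b, hb, b1, b2⟩ := k w w0 ((v.u * star s - s * star v.u) / ((fn g w).u * star s - s * star (fn g w).u)) 1
    (by
      simp only [star_div₀, star_sub, star_mul', star_star]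
      rw [← neg_div_neg_eq]; congr 1 <;> ring) (star_one _) (div_ne_zero v0 w2) one_ne_zero
  rw [w1, mul_zero, one_mul] at b1
  rw [b1, w1, div_mul_cancel₀ _ w2] at b2
  have m : fn g b ∈ sA K := ⟨j b hb, b1⟩
  have := mul_mem hb (n _ (mul_mem (inv_mem m) hv) (by
    simp only [mul_u, inv_u, inv_s, m.1, star_add, star_sub, zero_mul, neg_zero, star_zero]; linear_combination -b2))
  rwa [(mulOn_fn _).map_inv_mul (l m) (l hv), fn_inv_fn, mul_inv_cancel_left] at this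

section
variable (h : Mn p ⊤ E Y M)
include h

theorem leZ : sZ K ≤ E := fun _ hz => h.mem_of_comm trivial fun x _ => Z_comm hz x

theorem nA (ha : a ∈ sA K) : a ∈ NS ⊤ E := h.mem_NS trivial fun x _ => leZ h (cm_Z' x ha)

theorem fixZ (hz : z ∈ sZ K) (hg : g ∈ Y) (gn : g ∉ M) (ht : t ∈ NS ⊤ E) (tn : t ∉ E)
    (e : fn g z * t = t * fn g z) : ∀ α ∈ Y, fn α z = z :=
  h.fix (leZ h hz) (fun n _ => (Z_comm hz n).symm) hg gn ht tn e

theorem cenZ (hz : z ∈ sZ K) (α : MulAut E) (he : e ∈ E) : e * fn α z = fn α z * e :=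
  fn_comm α (leZ h hz) (fun e _ => Z_comm hz e) he

theorem fn_conj (hg : g ∈ Y) (ht : t ∈ NS ⊤ E) (hx : x ∈ E) :
    g⁻¹ * cA E t * g ∈ Y ∧ fn (g⁻¹ * cA E t * g) x = fn g⁻¹ (t * fn g x * t⁻¹) :=
  ⟨mul_mem (mul_mem (inv_mem hg) (h.cA_mem trivial)) hg, by rw [fn_mul, fn_mul, fn_cA ht.2 (fn_mem g hx)]⟩

theorem eq_J (hE : E ≤ sJ K) : E = sJ K :=
  le_antisymm hE fun _ ht => h.mem_of_comm trivial fun _ hx => J_comm (hE hx) ht

theorem stab_cen : Y ≤ stab E (CS E E) :=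
  stab_of_char CS_le (stab_self.ge.trans' le_top) le_stab_top le_stab_bot fun x _ =>
    and_congr_right fun _ => ⟨fun m y hy _ => mem_bot.2 (cm_eq_one.2 (m y hy).symm), fun m y hy =>
      (cm_eq_one.1 (m y hy trivial)).symm⟩

variable [Fact p.Prime] [Uf K]

theorem not_fix (ha : a ∈ sA K) (an : a ∉ E) (hz : z ∈ sZ K) (h1 : ∀ α ∈ Y, fn α z = z) : z = 1 := by
  by_contra z0
  obtain ⟨w, hw, β, hβ, n⟩ : ∃ w ∈ sZ K, ∃ α ∈ Y, fn α w ≠ w := by
    by_contra! c
    exact an (h.ch2 (le_stab (leZ h) fun α hα x hx => by rwa [c x hx α hα]) (nA h ha) (fun x _ => cm_Z' x ha)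
      fun x _ hx => cm_one hx a)
  obtain ⟨g, hg, gn⟩ := h.exg
  have s0 : (fn g w).s ≠ 0 := fun e => n (fixZ h hw hg gn (nA h ha) an ((A_comm ha).2 (by simp [e])) β hβ)
  obtain ⟨t, ht, e⟩ := exists_cm_A s0 hz
  have l : zpowers z ≤ sZ K := zpowers_le.2 hz
  have := h.key (D := zpowers z) (le_stab (l.trans (leZ h)) fun α hα x hx => by
    obtain ⟨k, rfl⟩ := mem_zpowers_iff.1 hx
    rw [(mulOn_fn α).map_zpow (leZ h hz), h1 α hα]
    exact hx) (leZ h hw) (fun n _ => by rw [cm_one hw]; exact one_mem _) hg gn (nA h ht)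
    (fun c => z0 (by rw [← e, cm_eq_one, cenZ h hw g c])) (e ▸ mem_zpowers z) g hg
  exact s0 (by simpa [hw.1] using (l this).1)

theorem leA : sA K ≤ E := fun a ha => by_contra fun an => by
  have k1 : ∀ g ∈ Y, g ∉ M → ∀ z ∈ sZ K, ∀ t ∈ NS ⊤ E, t ∉ E → fn g z * t = t * fn g z → z = 1 :=
    fun g hg gn z hz t ht tn e => not_fix h ha an hz (fixZ h hz hg gn ht tn e)
  obtain ⟨g, hg, gn⟩ := h.exg
  have k3 : ∀ z ∈ sZ K, ∃ w ∈ sZ K, cm (fn g⁻¹ w) a = z := fun z hz => by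
    have i : Injective fun w : sZ K => (⟨cm (fn g⁻¹ w) a, cm_Z' _ ha⟩ : sZ K) := fun v w e => by
      have e1 := congrArg (fun x : sZ K => x.1.z) e
      simp only [cm_z2' _ ha] at e1
      refine Subtype.ext (inv_mul_eq_one.1 (k1 _ (inv_mem hg) (by simpa using gn) _ (mul_mem (inv_mem v.2) w.2) a
        (nA h ha) an ((A_comm ha).2 ?_)))
      simp only [(mulOn_fn _).map_inv_mul (leZ h v.2) (leZ h w.2), mul_s, inv_s, star_add, star_neg]
      linear_combination -e1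
    obtain ⟨w, e⟩ := Finite.injective_iff_surjective.1 i ⟨z, hz⟩
    exact ⟨w, w.2, congrArg Subtype.val e⟩
  obtain ⟨c, c0, hc⟩ := exists_sk (K := K)
  have z1 := xz_mem hc
  have z0 : xz c hc ≠ 1 := fun e => c0 (congrArg Sv.z e)
  have w1 := fn_mem g (leZ h z1)
  have s0 : (fn g (xz c hc)).s ≠ 0 := fun e => z0 (k1 g hg gn _ z1 a (nA h ha) an ((A_comm ha).2 (by simp [e])))
  have k4 : ∀ t ∈ NS ⊤ E, ∃ b ∈ sA K, t * b ∈ E := fun t ht => by
    have m := conj_mem_of_norm ht.2 w1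
    obtain ⟨v, hv, e1⟩ := k3 _ (inv_mem (cm_Z' (fn g⁻¹ (t * fn g (xz c hc) * t⁻¹)) ha))
    obtain ⟨b, hb, e2⟩ := exists_cm_A s0 hv
    refine ⟨b, hb, by_contra fun n => ?_⟩
    have t1 := mul_mem ht (nA h hb)
    obtain ⟨g1, g2⟩ := fn_conj h hg t1 (leZ h z1)
    refine z0 (k1 _ g1 (h.nm hg gn t1 n) _ z1 a (nA h ha) an ((A_comm ha).2 ?_))
    rw [g2, show t * b * fn g (xz c hc) * (t * b)⁻¹ = t * (b * fn g (xz c hc) * b⁻¹) * t⁻¹ by group, ← mul_cm _ b, e2,
      ← mul_assoc, mul_assoc _ v, ← Z_comm hv, ← mul_assoc, mulOn_fn _ m (leZ h hv)]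
    have e3 := congrArg Sv.z e1
    simp only [inv_z, cm_s, cm_z2' _ ha, star_zero] at e3
    simp only [mul_s, star_add]
    linear_combination e3
  have c1 := fun e he => comm_u (cenZ h z1 g (e := e) he)
  have k2 : ∀ b ∈ sA K, b ∈ E → ∀ x ∈ E, x.s * star b.u = b.u * star x.s := fun b hb m x hx =>
    (A_comm hb).1 (cm_eq_one.1 (k1 g hg gn _ (cm_Z' x hb) a (nA h ha) an ((A_comm ha).2 (by simp [fn_cm g hx m]))))
  have k5 : ∀ b ∈ sA K, (fn g (xz c hc)).s * star b.u = b.u * star (fn g (xz c hc)).s → b ∈ E := fun b hb e =>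
    by_contra fun n => z0 (k1 g hg gn _ z1 b (nA h hb) n ((A_comm hb).2 e))
  generalize fn g (xz c hc) = w at w1 s0 c1 k5
  have k6 := k2 _ (xu_mem w.s) (k5 _ (xu_mem w.s) rfl)
  by_cases w0 : w.c = 0
  · refine s0 (eq_zero_of_real fun r => ?_)
    obtain ⟨b, hb, m⟩ := k4 (xs r) (h.mem_NS trivial fun x hx => leZ h (cm_Q (by simpa [w0, s0, mem_sQ] using c1 x hx) rfl))
    simpa [hb.1] using (k6 _ m).symm
  obtain ⟨b, hb, m⟩ := k4 (xs (w.s / w.c)) (h.mem_NS trivial fun x hx => k5 _ (cm_A ..) (by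
    rw [show (cm x (xs (w.s / w.c))).u = x.s by simp only [cm_u, xs_s, xs_c]; field_simp; linear_combination -c1 x hx]
    exact (k6 x hx).symm))
  exact s0 (by simpa [hb.1, hb.2, w0] using c1 _ m)

theorem nS (t : Sv K) : t ∈ NS ⊤ E := ⟨trivial, norm_le (leA h) t⟩

variable (he : e ∈ E) (e0 : e.s ≠ 0)
include he e0

theorem eq_Q (h1 : ∀ x ∈ E, ∀ y ∈ E, x.s * y.c = y.s * x.c) : E = sQ K := by
  have k : ∀ x ∈ E, ∀ y ∈ E, cm x y ∈ sZ K := fun x hx y hy =>
    Z_of (cm_A x y) (by rw [cm_u, h1 x hx y hy, sub_self])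
  have i : Y ≤ stab E (sZ K) := le_stab (leZ h) fun α _ z hz => by
    obtain ⟨a, ha, rfl⟩ := exists_cm_A e0 hz
    rw [fn_cm α he (leA h ha)]
    exact k _ (fn_mem α he) _ (fn_mem α (leA h ha))
  by_cases c0 : e.c = 0
  · have l : E ≤ sQ K := fun x hx => by simpa [c0, e0, mem_sQ] using h1 e he x hx
    exact le_antisymm l fun t ht => h.ch2 i (nS h t) (fun x hx => cm_Q (l hx) ht) fun x _ hx => cm_one hx t
  have m : ∀ y ∈ E, (cm y (xs (e.s / e.c))).u = y.s := fun y hy => by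
    simp only [cm_u, xs_s, xs_c]; field_simp; linear_combination h1 e he y hy
  have := h.ch3 i (stab_cen h) (nS h (xs (e.s / e.c)))
    (fun y hy => ⟨leA h (cm_A ..), fun v hv => (A_comm (cm_A ..)).2 (by
      have e1 := congrArg star (h1 y hy e he)
      have e2 := congrArg star (h1 v hv e he)
      simp only [star_mul', hc] at e1 e2
      rw [m y hy]
      refine mul_left_cancel₀ (mul_ne_zero c0 c0) ?_
      linear_combination -v.s * e.c * e1 + star e.s * y.c * h1 v hv e he + y.s * e.c * e2 -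
        star e.s * v.c * h1 y hy e he)⟩)
    (fun y hy m1 => Z_of (cm_A ..) ((m y hy).trans (s_zero fun b hb => (m1.2 b (leA h hb)).symm)))
    fun y _ hy => cm_one hy _
  exact (e0 (by simpa [c0] using h1 _ this e he)).elim

theorem eq_E (hx : x ∈ E) (hy : y ∈ E) (h1 : x.s * y.c ≠ y.s * x.c) :
    E = sE e.s ∧ ∀ r : K, star r = r → r = 0 ∨ r = 1 := by
  have n : ¬ Y ≤ stab E (sZ K) := fun i => by
    obtain ⟨t, ht, tn⟩ := h.ext
    refine tn (h.ch3 i (stab_of_char (leA h) le_stab_top le_stab_top i fun w hw =>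
      ⟨fun m => ⟨trivial, fun v _ _ => cm_Z m v⟩, fun m => ?_⟩) ht (fun x _ => cm_A x t) (fun x _ hx => cm_Z hx t)
      fun x _ hx => cm_one hx t)
    have a := (m.2 x hx trivial).2.2
    have b := (m.2 y hy trivial).2.2
    rw [cm_u] at a b
    have d := sub_ne_zero.2 h1
    exact ⟨mul_left_cancel₀ d (by linear_combination y.s * a - x.s * b),
      mul_left_cancel₀ d (by linear_combination y.c * a - x.c * b)⟩
  have c1 : ∀ w ∈ CS E E, w ∈ sA K ∧ ∀ v ∈ E, v.s * star w.u = w.u * star v.s := fun w hw =>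
    have a : w.s = 0 := s_zero fun b hb => (hw.2 b (leA h hb)).symm
    have b : w ∈ sA K := ⟨a, by simpa [a, e0] using comm_u (hw.2 e he)⟩
    ⟨b, fun v hv => (A_comm b).1 (hw.2 v hv)⟩
  obtain ⟨α, hα, z, hz, zn⟩ : ∃ α ∈ Y, ∃ z ∈ sZ K, fn α z ∉ sZ K := by
    by_contra! c
    exact n (le_stab (leZ h) c)
  obtain ⟨w1, w2⟩ := c1 _ (stab_maps (stab_cen h hα) (⟨leZ h hz, fun v _ => Z_comm hz v⟩ : z ∈ CS E E))
  have u0 : (fn α z).u ≠ 0 := fun c => zn (Z_of w1 c)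
  have u1 := star_ne_zero.2 u0
  have l : E ≤ sE e.s := fun v hv => mul_left_cancel₀ u1 (by linear_combination star e.s * w2 v hv - star v.s * w2 e he)
  have two : (2 : K) = 0 := by
    obtain ⟨a, ha, rfl⟩ := exists_cm_A e0 hz
    have m1 := fn_mem α he
    have m2 := fn_mem α (leA h ha)
    have e1 := congrArg Sv.u (fn_cm α he (leA h ha))
    have e2 := congrArg star e1
    rw [cm_u] at e1 e2
    simp only [star_sub, star_mul', hc] at e2
    refine (mul_eq_zero.1 (?_ : 2 * ((fn α (cm e a)).u * star (fn α (cm e a)).u) = 0)).resolve_right (mul_ne_zero u0 u1)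
    linear_combination star (fn α (cm e a)).u * e1 + (fn α (cm e a)).u * e2 + (fn α e).c * w2 _ m2 - (fn α a).c * w2 _ m1
  have sk : ∀ c : K, star c = -c ↔ star c = c := fun c => by rw [show -c = c by linear_combination -c * two]
  have e1 := star_ne_zero.2 e0
  have c2 : ∀ w ∈ sA K, e.s * star w.u = w.u * star e.s → ∀ v ∈ sE e.s, v * w = w * v := fun w hw q v hv =>
    (A_comm hw).2 (mul_left_cancel₀ (mul_ne_zero e0 e1) (by
      linear_combination e.s * star w.u * mem_sE.1 hv + e.s * star v.s * q))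
  have c3 : ∀ v ∈ sE e.s, ∀ t ∈ sE e.s, e.s * star (cm v t).u = (cm v t).u * star e.s := fun v hv t ht => by
    simp only [cm_u, star_sub, star_mul', (sk _).1 (hc _)]
    linear_combination t.c * mem_sE.1 hv - v.c * mem_sE.1 ht
  have q : E = sE e.s := le_antisymm l fun t ht => h.ch2 (stab_cen h) (nS h t)
    (fun v hv => ⟨leA h (cm_A ..), fun w hw => c2 _ (cm_A ..) (c3 v (l hv) t ht) w (l hw)⟩) fun v _ hv =>
      cm_eq_one.2 (c2 v (c1 v hv).1 ((c1 v hv).2 e he) t ht).symm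
  refine ⟨q, fun r r1 => by_contra fun c => n (le_stab (leZ h) fun β hβ z hz => ?_)⟩
  rw [not_or] at c
  have j : sJ K ≤ E := q.ge.trans' J_le_E
  have c4 : ∀ w ∈ sA K, e.s * star w.u = w.u * star e.s → w ∈ CS E E := fun w hw m =>
    ⟨leA h hw, fun v hv => c2 w hw m v (l hv)⟩
  have i : Y ≤ stab E (sJ K) := le_stab j fun γ hγ v hv => by_contra fun vn => by
    have k : ∀ w ∈ CS E E, ∃ t ∈ E, cm v t = w := fun w hw => by
      obtain ⟨a1, a2⟩ := c1 _ (stab_maps (stab_cen h hγ) hw)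
      have v1 := star_ne_zero.2 vn
      have a3 := a2 _ (fn_mem γ (j hv))
      have d : star (-(fn γ w).u / (fn γ v).s) = -(-(fn γ w).u / (fn γ v).s) := by
        rw [sk, star_div₀, star_neg, div_eq_div_iff v1 vn]; linear_combination -a3
      obtain ⟨u, e2⟩ := exists_sk_eq vn (ζ := (fn γ w).z + star (fn γ v).s * (fn γ w).u) (by
        simp only [star_add, z_sk a1.1, star_mul', star_star]; linear_combination a3 + star (fn γ v).s * (fn γ w).u * two)
      have m : xc _ d * xu u ∈ E := j (by simp [mem_sJ])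
      have e3 : cm (fn γ v) (xc _ d * xu u) = fn γ w := by
        refine Sv.ext ((cm_s ..).trans a1.1.symm) ((cm_c ..).trans a1.2.symm) ?_ ?_ <;> simp [cm_u, cm_z] <;>
          field_simp [show (fn γ v).s ≠ 0 from vn]
        linear_combination e2
      exact ⟨_, fn_mem γ⁻¹ m, by simpa only [fn_cm _ (fn_mem γ (j hv)) m, fn_inv_fn] using congrArg (fn γ⁻¹) e3⟩
    obtain ⟨t, -, t1⟩ := k _ (c4 _ (xu_mem e.s) rfl)
    obtain ⟨t', -, t2⟩ := k _ (c4 _ (Z_le (xz_mem ((sk 1).2 (star_one _)))) (by simp))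
    have a1 := congrArg Sv.u t1
    have a2 := congrArg Sv.u t2
    have a3 := congrArg Sv.z t2
    simp only [cm_u, cm_z, mem_sJ.1 hv, xu_u, xz_u, xz_z, zero_mul, sub_zero, mul_eq_zero] at a1 a2 a3
    rcases a2 with a2 | a2
    · simp [a2] at a3
    · simp [a2, e0.symm] at a1
  have k := stab_A j (i hβ) e0 r1 c.1 c.2 fun l l1 l2 => by
    have m : xs (l * e.s) ∈ E := q.ge (by simp [mem_sE, l1]; ring)
    refine ⟨fn β⁻¹ (xs (l * e.s)), fun s0 => mul_ne_zero l2 e0 ?_, fun a ha => by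
      rw [fn_cm β (j ha) (fn_mem _ m), fn_fn_inv]⟩
    simpa [mem_sJ] using stab_maps (i hβ) (show fn β⁻¹ (xs (l * e.s)) ∈ sJ K from s0)
  obtain ⟨a, ha, rfl⟩ := exists_cm_A e0 hz
  rw [fn_cm β he (leA h ha)]
  exact cm_Z' _ (stab_maps k ha)

end

theorem ess_three [Fact p.Prime] [Uf K] {F : FusionSystem (⊤ : Subgroup (Sv K))} (hF : Sat F p)
    (hE : F.IsEssential p E) :
    E = sQ K ∨ E = sJ K ∨ (∃ a ≠ 0, E = sE a) ∧ ∀ r : K, star r = r → r = 0 ∨ r = 1 := by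
  obtain ⟨Y, M, h⟩ := exists_mn hF hE
  by_cases c : E ≤ sJ K
  · exact .inr (.inl (eq_J h c))
  obtain ⟨e, he, e0⟩ := SetLike.not_le_iff_exists.1 c
  by_cases d : ∀ x ∈ E, ∀ y ∈ E, x.s * y.c = y.s * x.c
  · exact .inl (eq_Q h he e0 d)
  push Not at d
  obtain ⟨x, hx, y, hy, d⟩ := d
  exact .inr (.inr ⟨⟨_, e0, (eq_E h he e0 hx hy d).1⟩, (eq_E h he e0 hx hy d).2⟩)

end CF.FusV
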