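import Cfsg.Agent.FusV.B
import Cfsg.Agent.Coprime.Glauberman

/-! Automorphisms of a Sylow `p`-subgroup of `SU₄(q)`; normalized fusion systems. -/

set_option autoImplicit false
set_option linter.style.haveILetI false

namespace CF.FusV

open Cfsg Cfsg.FusionSystem Subgroup CF.Fus CF.FusD Function Sv
open CF.FusU (cm mul_cm cm_eq_one Uf exists_theta exists_sk exists_sk_eq eq_zero_of_real map_cm)

variable {K : Type*} [Field K] [StarRing K] [Uf K] {x y z t a : Sv K} {f : Sv K → Sv K} {α β γ δ : K}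
  {σ τ : K ≃+* K}

omit [Uf K] in
theorem exists_coord {s : K} (h : star s ≠ s) (t : K) : ∃ a b, star a = a ∧ star b = b ∧ t = a + b * s := by
  have h1 := sub_ne_zero.2 h
  have h2 := sub_ne_zero.2 h.symm
  refine ⟨(s * star t - star s * t) / (s - star s), (t - star t) / (s - star s), ?_, ?_, ?_⟩ <;>
    (try simp only [star_div₀, star_sub, star_mul', star_star]) <;> field_simp <;> ring

theorem exists_fld {A σ : K → K} (h1 : ∀ s t, A (s + t) = A s + A t) (h2 : ∀ l s, star l = l → A (l * s) = σ l * A s)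
    (h3 : ∀ l, star l = l → star (σ l) = σ l) (h4 : A 1 ≠ 0)
    (h5 : ∀ s, A s * star (A s) = A 1 * star (A 1) * σ (s * star s)) : ∃ τ : K ≃+* K, ∀ s, A s = A 1 * τ s := by
  have h6 := star_ne_zero.2 h4
  have a1 : ∀ l, star l = l → A l = σ l * A 1 := fun l e => by rw [← h2 l 1 e, mul_one]
  have a0 : A 0 = 0 := by simpa using h1 0 0
  have n : ∀ s : K, star (s * star s) = s * star s := fun s => by simp [mul_comm]
  have a2 : ∀ s, A 1 * A (s * s) = A s * A s := fun s => by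
    have r : star (s + star s) = s + star s := by simp [add_comm]
    have e1 := h5 (s + 1)
    have e2 := a1 _ (n (s + 1))
    rw [show (s + 1) * star (s + 1) = s * star s + (s + star s) + 1 by simp; ring] at e1 e2
    rw [h1, h1, a1 _ (n s), a1 _ r] at e2
    have e3 := h1 (s * s) (s * star s)
    rw [← mul_add, mul_comm s (s + _), h2 _ _ r, a1 _ (n s)] at e3
    rw [h1, star_add] at e1
    refine mul_left_cancel₀ h6 ?_
    linear_combination -A 1 * star (A 1) * e3 - A s * e1 + (A s + A 1) * h5 s + A s * star (A 1) * e2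
  let τ : K →+* K := ⟨⟨⟨fun s => A s / A 1, div_self h4⟩, fun s t => by
    field_simp
    by_cases e : star s = s
    · rw [h2 s t e, a1 s e]; ring
    obtain ⟨a, b, e1, e2, rfl⟩ := exists_coord e t
    rw [show s * (a + b * s) = a * s + b * (s * s) by ring, h1, h1, h2 _ _ e1, h2 _ _ e2, h2 _ _ e2, a1 _ e1]
    linear_combination σ b * a2 s⟩, by simp [a0], fun s t => by simp only [h1, add_div]⟩
  refine ⟨RingEquiv.ofBijective τ (Finite.injective_iff_bijective.1 τ.injective), fun s => ?_⟩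
  change _ = A 1 * (A s / A 1)
  field_simp

omit [Uf K] in
theorem A_of (h : ∀ y, cm x y ∈ sZ K) [Uf K] : x ∈ sA K := by
  obtain ⟨c, c0, hc⟩ := exists_sk (K := K)
  exact ⟨by simpa [cm_u, c0] using (h (xc c hc)).2.2, by simpa [cm_u] using (h (xs 1)).2.2⟩

section
variable (h : PIso f ⊤ ⊤)
include h

omit [Uf K] in
theorem pm (x y : Sv K) : f (x * y) = f x * f y := h.mul trivial trivial

omit [Uf K] in
theorem pc (x y : Sv K) : f (cm x y) = cm (f x) (f y) := map_cm h.mul trivial trivial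

omit [Uf K] in
theorem pi (x y : Sv K) : f (x⁻¹ * y) = (f x)⁻¹ * f y := h.mul.map_inv_mul trivial trivial

theorem map_Z (hz : z ∈ sZ K) : f z ∈ sZ K := cen_Q fun y _ => by
  obtain ⟨t, -, rfl⟩ := h.surj (mem_top y)
  rw [← pm h, ← pm h, Z_comm hz]

theorem map_A (hz : z ∈ sA K) : f z ∈ sA K := A_of fun y => by
  obtain ⟨t, -, rfl⟩ := h.surj (mem_top y)
  exact pc h z t ▸ map_Z h (cm_Z hz t)

theorem map_J (hz : z ∈ sJ K) : f z ∈ sJ K := s_zero fun a ha => by
  rw [← h.apply_pinv (mem_top a), ← pm h, ← pm h, J_comm hz (map_A h.symm ha).1]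

theorem map_Q (hz : z ∈ sQ K) : f z ∈ sQ K := by
  by_contra c
  have k : ∀ s, ∀ a ∈ sA K, (f z).s * star a.u = a.u * star (f z).s → s * star (pinv f ⊤ a).u = (pinv f ⊤ a).u * star s :=
    fun s a ha e => by
      have e1 := (map_Z h (cm_Q hz (xs_mem s))).2.2
      have e2 := congrArg star e1
      rw [pc h, cm_u] at e1 e2
      simp only [star_sub, star_mul', hc, star_zero] at e2
      refine (A_comm (x := xs s) (map_A h.symm ha)).1 (h.inj trivial trivial ?_)
      rw [pm h, pm h, h.apply_pinv trivial, A_comm ha]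
      exact mul_left_cancel₀ c (by linear_combination star a.u * e1 + a.u * e2 + (f (xs s)).c * e)
  obtain ⟨a, ha, a0, e⟩ : ∃ a ∈ sA K, a.u ≠ 0 ∧ (f z).s * star a.u = a.u * star (f z).s := by
    by_cases s0 : (f z).s = 0
    · exact ⟨_, xu_mem 1, one_ne_zero, by simp [s0]⟩
    · exact ⟨_, xu_mem _, s0, rfl⟩
  have := map_Z h (Z_of (map_A h.symm ha) (eq_zero_of_real fun s => (k s a ha e).symm))
  rw [h.apply_pinv trivial] at this
  exact a0 this.2.2

theorem exists_dg : ∃ (α β : K) (τ : K ≃+* K), α ≠ 0 ∧ β ≠ 0 ∧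
    ∀ x, (f x).s = α * τ x.s ∧ (f x).c = β * star β * τ x.c := by
  obtain ⟨ε, e0, he⟩ := exists_sk (K := K)
  obtain ⟨A, hA⟩ : ∃ A : K → K, ∀ x, (f x).s = A x.s := ⟨fun s => (f (xs s)).s, fun x => by
    simpa [pi h, neg_add_eq_zero] using mem_sJ.1 (map_J h (z := x⁻¹ * xs x.s) (by simp [mem_sJ]))⟩
  have hB : ∀ x y : Sv K, x.c = y.c → (f x).c = (f y).c := fun x y e => by
    simpa [pi h, neg_add_eq_zero] using mem_sQ.1 (map_Q h (z := x⁻¹ * y) (by simp [mem_sQ, e]))
  have hC : ∀ x ∈ sA K, ∀ y ∈ sA K, x.u = y.u → (f x).u = (f y).u := fun x hx y hy e => by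
    simpa [pi h, neg_add_eq_zero, (map_A h hx).1] using
      (map_Z h (z := x⁻¹ * y) (Z_of (mul_mem (inv_mem hx) hy) (by simp [hx.1, e]))).2.2
  have a0 : A 0 = 0 := by rw [← one_s, ← hA, h.mul.map_one]
  have q : ∀ s, (f (xs s)).c = 0 := fun s => map_Q h (xs_mem s)
  have j : ∀ c hc, (f (xc c hc)).s = 0 := fun c hc => map_J h (xc_mem hc)
  have k : ∀ s c hc s' c' hc', s * c = s' * c' → A s * (f (xc c hc)).c = A s' * (f (xc c' hc')).c :=
    fun s c hc s' c' hc' e => by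
      simpa [pc h, cm_u, hA, a0] using hC _ (cm_A (xc c hc) (xs s)) _ (cm_A (xc c' hc') (xs s')) (by simp [cm_u, e])
  have a1 : ∀ s, A s = 0 → s = 0 := fun s c => by
    have := map_J h.symm (z := f (xs s)) ((hA _).trans c)
    rwa [h.pinv_apply trivial] at this
  have b1 : ∀ c hc, (f (xc c hc)).c = 0 → c = 0 := fun c hc e => by
    have := map_Q h.symm (z := f (xc c hc)) e
    rwa [h.pinv_apply trivial] at this
  have b2 := mt (b1 ε he) e0
  have a2 : ∀ s t, A (s + t) = A s + A t := fun s t => by simpa [hA] using congrArg Sv.s (pm h (xs s) (xs t))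
  have sk : ∀ l : K, star l = l → star (l * ε) = -(l * ε) := fun l e => by simp [e, he]
  obtain ⟨σ, s1, s2⟩ : ∃ σ : K → K, (∀ l s, star l = l → A (l * s) = σ l * A s) ∧
      ∀ l (e : star l = l), (f (xc _ (sk l e))).c = σ l * (f (xc ε he)).c := by
    have a3 := mt (a1 1) one_ne_zero
    have a4 : ∀ l (e : star l = l), (f (xc _ (sk l e))).c = A l / A 1 * (f (xc ε he)).c := fun l e => by
      field_simp; linear_combination k 1 _ (sk l e) l ε he (by ring)
    exact ⟨fun l => A l / A 1, fun l s e => mul_right_cancel₀ b2 (by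
      linear_combination k (l * s) ε he s _ (sk l e) (by ring) + A s * a4 l e), a4⟩
  have s3 : ∀ l, star l = l → star (σ l) = σ l := fun l e => by
    have := congrArg star (s2 l e)
    rw [star_mul', hc, hc, s2 l e] at this
    exact mul_right_cancel₀ b2 (by linear_combination this)
  have a3 := mt (a1 1) one_ne_zero
  have s4 : ∀ l, star l = l → A l = σ l * A 1 := fun l e => by rw [← s1 l 1 e, mul_one]
  have n : ∀ s : K, star (s * star s) = s * star s := fun s => by simp [mul_comm]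
  obtain ⟨θ, hθ⟩ := exists_theta (K := K)
  have hD : ∀ s u, (f (cm (xu (u * ε)) (xs s))).z = (f (xc ε he)).c * (A u * star (A s) + A s * star (A u)) :=
    fun s u => by
      have := hC _ (xu_mem (u * ε)) _ (cm_A (xc ε he) (xs u)) (by simp [cm_u])
      rw [pc h, cm_z2 (map_A h (xu_mem _)), this, pc h]
      simp [cm_u, hA, a0]; ring
  obtain ⟨δ, hδ⟩ : ∃ δ, ∀ l (e : star l = l), (f (xz _ (sk l e))).z = δ * σ l * (f (xc ε he)).c :=
    ⟨A θ * star (A 1) + A 1 * star (A θ), fun l e => by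
      rw [show xz _ (sk l e) = cm (xu (l * θ * ε)) (xs 1) from Z_ext (xz_mem _) (cm_Z (xu_mem _) _) (by
        simp [cm_z2 (xu_mem _), e, he, hθ]; ring), hD, s1 _ _ e, star_mul', s3 l e]; ring⟩
  have hE : ∀ s u, A u * star (A s) + A s * star (A u) = δ * σ (u * star s + s * star u) := fun s u => by
    have r : star (u * star s + s * star u) = u * star s + s * star u := by simp; ring
    have := hD s u
    rw [show cm (xu (u * ε)) (xs s) = xz _ (sk _ r) from Z_ext (cm_Z (xu_mem _) _) (xz_mem _) (by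
      simp [cm_z2 (xu_mem _), he]; ring), hδ _ r] at this
    exact mul_left_cancel₀ b2 (by linear_combination -this)
  have s5 : ∀ l m, star l = l → star m = m → σ (l * m) = σ l * σ m := fun l m e e' =>
    mul_right_cancel₀ a3 (by rw [← s4 _ (by simp [e, e']), s1 _ _ e, s4 _ e', mul_assoc])
  have hF : ∀ l (e : star l = l) s, (f (xu (l * s * ε))).z + σ l * (δ * σ (s * star s) - A s * star (A s)) *
      (f (xc ε he)).c = (f (xc _ (sk l e))).u * star (A s) - A s * star (f (xc _ (sk l e))).u := fun l e s => by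
    have r : star (l * (s * star s)) = l * (s * star s) := by simp [e, mul_comm]
    have := congrArg Sv.z (pc h (xc _ (sk l e)) (xs s))
    rw [show cm (xc _ (sk l e)) (xs s) = xu (l * s * ε) * xz _ (sk _ r) by ext <;> simp [cm_u, cm_z] <;> ring, pm h,
      mul_z, hδ _ r, s5 _ _ e (n s), cm_z] at this
    simp only [(map_A h (xu_mem _)).1, (map_Z h (xz_mem _)).1, j, q, hA, xs_s, s2 l e, star_zero] at this
    linear_combination this
  have m : ∀ s, A s * star (A s) = δ * σ (s * star s) := fun s => by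
    by_cases c : ∀ r : K, star r = r → r = 0 ∨ r = 1
    · by_cases s0 : s = 0
      · have := s4 0 (star_zero _)
        rw [a0, eq_comm, mul_eq_zero] at this
        simp [s0, a0, this.resolve_right a3]
      have u : ∀ s : K, s ≠ 0 → s * star s = 1 := fun s s0 =>
        (c _ (n s)).resolve_left (mul_ne_zero s0 (star_ne_zero.2 s0))
      have e1 := hE 1 θ
      have e2 : σ 1 = 1 := mul_right_cancel₀ a3 (by rw [← s4 1 (star_one _), one_mul])
      rw [show θ * star 1 + 1 * star θ = 1 by simp [hθ], e2] at e1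
      have d0 : δ ≠ 0 := fun d => by
        have := hδ 1 (star_one _)
        rw [d, zero_mul, zero_mul] at this
        have e3 := h.inj trivial trivial ((Z_ext (map_Z h (xz_mem _)) (one_mem _) this).trans h.mul.map_one.symm)
        exact e0 (by simpa using congrArg Sv.z e3)
      rw [u _ (mt (a1 s) s0), u s s0, e2, (c δ (by rw [mul_one] at e1; rw [← e1]; simp; ring)).resolve_left d0, one_mul]
    push Not at c
    obtain ⟨r, r1, r2, r3⟩ := c
    have r4 : σ r ≠ 0 := fun c => r2 (a1 r (by rw [s4 r r1, c, zero_mul]))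
    have r5 : σ r - 1 ≠ 0 := fun c => r3 (sub_eq_zero.1 (a1 _ (by
      have := a2 (r - 1) 1
      rw [sub_add_cancel, s4 r r1, sub_eq_zero.1 c] at this
      linear_combination -this)))
    have e1 := hF r r1 s
    have e2 := hF 1 (star_one _) (r * s)
    have e3 := hF r r1 (r * s)
    have e4 := hF 1 (star_one _) (r * (r * s))
    have e5 : σ 1 = 1 := mul_right_cancel₀ a3 (by rw [← s4 1 (star_one _), one_mul])
    have e6 : ∀ s, σ (r * s * star (r * s)) = σ r * σ r * σ (s * star s) := fun s => by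
      rw [← s5 _ _ r1 r1, ← s5 _ _ (by simp [r1]) (n s)]; congr 1; simp [r1]; ring
    rw [s1 r _ r1] at e4
    simp only [one_mul, e5, e6, s1 r s r1, star_mul', s3 r r1, r1, ← mul_assoc r] at e1 e2 e3 e4
    rw [show r * s * (r * star s) = r * s * star (r * s) by simp [r1], e6] at e2 e3
    rw [show r * r * s * (r * r * star s) = r * (r * s) * star (r * (r * s)) by simp [r1]; ring, e6, e6] at e4
    refine mul_left_cancel₀ (mul_ne_zero (mul_ne_zero (pow_ne_zero 2 r4) (pow_ne_zero 2 r5)) b2) ?_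
    linear_combination -σ r * e1 + σ r * e2 + e3 - e4
  have d1 : δ = A 1 * star (A 1) := by
    have := m 1
    rw [star_one, mul_one, mul_right_cancel₀ a3 (show σ 1 * A 1 = 1 * A 1 by rw [← s4 1 (star_one _), one_mul])] at this
    rw [this, mul_one]
  obtain ⟨τ, hτ⟩ := exists_fld a2 s1 s3 a3 fun s => by rw [m, d1]
  have t0 : τ ε ≠ 0 := τ.map_ne_zero_iff.2 e0
  obtain ⟨β, hβ⟩ := Uf.nm ((f (xc ε he)).c / τ ε) (by rw [star_div₀, hc, ← Uf.aut, he, map_neg, neg_div_neg_eq])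
  refine ⟨A 1, β, τ, a3, by rintro rfl; exact div_ne_zero b2 t0 (by rw [← hβ, zero_mul]), fun x => ⟨by rw [hA, hτ], ?_⟩⟩
  have r : star (x.c / ε) = x.c / ε := by rw [star_div₀, hc, he, neg_div_neg_eq]
  have e1 := s4 _ r
  rw [hτ, map_div₀, mul_comm] at e1
  rw [hB x (xc _ (sk _ r)) (by simp [e0]), s2 _ r, hβ, ← mul_right_cancel₀ a3 e1]
  ring

variable (h1 : ∀ x, (f x).s = x.s ∧ (f x).c = x.c)
include h1

theorem triv2 (hx : x ∈ sA K) : x⁻¹ * f x ∈ sZ K := by
  obtain ⟨c, c0, hc⟩ := exists_sk (K := K)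
  have m := (map_Z h (z := (cm (xc c hc) (xs (x.u / c)))⁻¹ * x) (Z_of (mul_mem (inv_mem (cm_A ..)) hx) (by
    simp [cm_u, c0]))).2.2
  refine Z_of (mul_mem (inv_mem hx) (map_A h hx)) ?_
  simpa [pi h, pc h, cm_u, h1, c0, hx.1] using m

theorem triv1 (hx : x ∈ sZ K) : f x = x := by
  obtain ⟨a, ha, rfl⟩ := exists_cm_A (x := xs 1) one_ne_zero hx
  have e := (triv2 h h1 ha).2.2
  refine Z_ext (map_Z h hx) hx ?_
  simp only [mul_u, inv_u, inv_s, ha.1] at e
  rw [pc h, cm_z2' _ (map_A h ha), cm_z2' _ ha, (h1 _).1, show (f a).u = a.u by linear_combination e]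

end

variable {p : ℕ} [Fact p.Prime] {E F : FusionSystem (⊤ : Subgroup (Sv K))}

/-- automorphisms which are trivial modulo the derived subgroup -/
abbrev Tr (K : Type*) [Field K] [StarRing K] : Subgroup (MulAut (⊤ : Subgroup (Sv K))) := trivOn ⊤ ⊤ (sA K)

theorem mem_Tr {φ : MulAut (⊤ : Subgroup (Sv K))} : φ ∈ Tr K ↔ ∀ x, (fn φ x).s = x.s ∧ (fn φ x).c = x.c :=
  ⟨fun h x => by simpa [mem_sA, add_eq_zero_iff_eq_neg'] using h.2 x trivial trivial, fun h =>
    ⟨mem_stab_of_maps le_top fun _ => map_A (piso_fn φ), fun x _ _ => by simp [mem_sA, h]⟩⟩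

theorem pg_Tr (hS : IsPGroup p (⊤ : Subgroup (Sv K))) : IsPGroup p (Tr K) := by
  refine isPGroup_of_coprime fun φ hφ c => aut_ext fun x hx => (fix_of_chain hS c
    (fun j => match j with | 0 => sZ K | 1 => sA K | _ => ⊤)
    (fun x _ => triv1 (piso_fn φ) (mem_Tr.1 hφ)) 2 (fun j hj => ?_) x hx trivial).trans (fn_one x).symm
  interval_cases j
  exacts [fun x _ => triv2 (piso_fn φ) (mem_Tr.1 hφ), hφ.2]

theorem inn_of_triv (hF : Sat F p) (hf : Mor F ⊤ f) (h1 : ∀ x, (f x).s = x.s ∧ (f x).c = x.c) :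
    ∃ t, ∀ x, f x = t * x * t⁻¹ := by
  obtain ⟨φ, hφ, e⟩ := hf.iso_top.exists_aut
  obtain ⟨k, hk⟩ := isPGroup_iff_mem.1 (pg_Tr hF.pg) φ (mem_Tr.2 fun x => by rw [e x trivial]; exact h1 x)
  obtain ⟨t, -, rfl⟩ := mem_Inn.1 (hF.mem_Inn_top hφ hk)
  exact ⟨t, fun x => by rw [← e x trivial, fn_cA (le_normalizer (mem_top t)) trivial]⟩

/-- the group of diagonal and field automorphisms -/
def Dg (K : Type*) [Field K] [StarRing K] [Uf K] : Subgroup (MulAut (⊤ : Subgroup (Sv K))) where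
  carrier := {φ | ∃ α β τ, α ≠ 0 ∧ β ≠ 0 ∧ ∀ x, fn φ x = dg α β τ x}
  one_mem' := ⟨1, 1, 1, one_ne_zero, one_ne_zero, fun x => by rw [fn_one, dg_one]⟩
  mul_mem' := by
    rintro φ ψ ⟨α, β, σ, a0, b0, e⟩ ⟨γ, δ, τ, c0, d0, e'⟩
    exact ⟨_, _, _, mul_ne_zero a0 (σ.map_ne_zero_iff.2 c0), mul_ne_zero b0 (σ.map_ne_zero_iff.2 d0), fun x => by
      rw [fn_mul, e, e', dg_dg]⟩
  inv_mem' := by
    rintro φ ⟨α, β, τ, a0, b0, e⟩
    exact ⟨_, _, τ⁻¹, τ⁻¹.map_ne_zero_iff.2 (inv_ne_zero a0), τ⁻¹.map_ne_zero_iff.2 (inv_ne_zero b0), fun x => by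
      rw [← dg_inv a0 b0 (fn φ⁻¹ x), ← e, fn_fn_inv]⟩

theorem exists_nm (hF : Sat F p) :
    ∃ (E : FusionSystem (⊤ : Subgroup (Sv K))) (f : Sv K → Sv K), FIso F f E ∧ Nm E p := by
  obtain ⟨H, a1, -, a2, a3⟩ := CF.Solv.exists_complement_of_coprime (Inn_le_autGroup F le_rfl) (Inn_norm _)
    (CF.Coprime.coprime_card_of_isPGroup (isPGroup_Inn hF.pg) hF.syl_top.coprime_relIndex).symm
  haveI := (pg_Tr hF.pg).isNilpotent
  obtain ⟨k, -, hk⟩ := CF.Coprime.exists_conj_mem_of_mul H (Tr K) (fun φ _ => le_norm_trivOn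
    ⟨fun _ => Iff.rfl, mem_stab_of_maps le_top fun _ => map_A (piso_fn φ)⟩)
    (CF.Coprime.coprime_card_of_isPGroup (pg_Tr hF.pg) (a3 ▸ hF.syl_top.coprime_relIndex)) (.inr inferInstance) (Dg K)
    fun φ _ => by
      obtain ⟨α, β, τ, a0, b0, e⟩ := exists_dg (piso_fn φ)
      obtain ⟨ψ, e'⟩ := (piso_dg (τ := τ) a0 b0).exists_aut
      refine ⟨φ * ψ⁻¹, mem_Tr.2 fun x => ?_, α, β, τ, a0, b0, fun x => by simpa using e' x trivial⟩
      rw [fn_mul, (e _).1, (e _).2, ← dg_s (β := β), ← dg_c (α := α), ← e' _ trivial, fn_fn_inv]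
      exact ⟨rfl, rfl⟩
  obtain ⟨E, i⟩ := exists_fiso F (piso_fn k⁻¹)
  refine ⟨E, _, i, i.sat' hF, fun f hf => ?_⟩
  obtain ⟨g, g1, g2⟩ := i.pull le_rfl (f' := f) (by rwa [i.img_eq])
  obtain ⟨φ, hφ, e⟩ := g1.iso_top.exists_aut
  obtain ⟨_, c1, ψ, c2, rfl⟩ := (mem_sup_of_norm' (Inn_norm H)).1 (a2.ge hφ)
  obtain ⟨t, -, rfl⟩ := mem_Inn.1 c1
  obtain ⟨α, β, τ, a0, b0, d⟩ := hk ψ c2
  refine ⟨fn k⁻¹ t, α, β, τ, a0, b0, (i.symm' fun x _ => fn_fn_inv k x).mor_of le_rfl (fun _ _ => trivial)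
    ((mor_fn le_rfl (a1 c2)).mono le_top) fun x _ => by rw [← d, fn_mul, fn_mul, fn_fn_inv], fun x => ?_⟩
  rw [← fn_inv_fn k x, g2 _ trivial, ← e _ trivial, fn_mul, fn_cA (le_normalizer (mem_top t)) trivial,
    (mulOn_fn k⁻¹).map_conj trivial trivial, ← d, fn_mul, fn_mul, fn_fn_inv]

theorem img_Q (h : PIso f ⊤ ⊤) : img f (sQ K) = sQ K :=
  (piso_self_of_maps (h.mul.mono le_top) (fun _ _ _ _ => h.inj trivial trivial) fun _ => map_Q h).img_eq

theorem img_J (h : PIso f ⊤ ⊤) : img f (sJ K) = sJ K :=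
  (piso_self_of_maps (h.mul.mono le_top) (fun _ _ _ _ => h.inj trivial trivial) fun _ => map_J h).img_eq

end CF.FusV
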