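import Cfsg.Agent.FusV.C
import Mathlib.Analysis.Fourier.FiniteAbelian.PontryaginDuality

/-! The orthogonal module of minus type: counting and the action of the unipotent group. -/

set_option autoImplicit false
set_option linter.style.haveILetI false

namespace CF.FusV

open Subgroup CF.Fus CF.FusD Function
open CF.FusU (Uf exists_sk exists_sk_eq eq_zero_of_real exists_not_real exists_tr)

section
open Finset ComplexConjugate

variable {A Y : Type*} [AddCommGroup A] [AddCommGroup Y] [Fintype A] [Fintype Y] {P : A → Y} {B : A → A →+ Y}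
  {Z : AddSubgroup Y}

theorem cnt_aux (hA : Fintype.card A = Fintype.card Y ^ 2) (hP : ∀ s r, P (s + r) + P 0 = P s + P r + B r s)
    (h1 : ∀ r s, B r s ∈ Z) (h2 : ∀ r ≠ 0, ∀ z ∈ Z, ∃ s, B r s = z) (h0 : P 0 ∈ Z) (ψ : AddChar Y ℂ) :
    -(Fintype.card Y : ℝ) ≤ (∑ s, ψ (P s)).re ∧ ((∀ z ∈ Z, ψ z = 1) → 0 ≤ (∑ s, ψ (P s)).re) := by
  have k : (∀ z ∈ Z, ψ z = 1) → 0 ≤ (∑ s, ψ (P s)).re := fun h => by
    let χ : AddChar A ℂ := ⟨fun s => ψ (P s), h _ h0, fun s r => by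
      have := congrArg ψ (hP s r)
      rwa [ψ.map_add_eq_mul, ψ.map_add_eq_mul, ψ.map_add_eq_mul, h _ h0, h _ (h1 r s), mul_one, mul_one] at this⟩
    classical
    change 0 ≤ (∑ s, χ s).re
    rw [χ.sum_eq_ite]
    split_ifs <;> simp
  refine ⟨?_, k⟩
  by_cases h : ∀ z ∈ Z, ψ z = 1
  · exact (neg_nonpos.2 (Nat.cast_nonneg _)).trans (k h)
  push Not at h
  obtain ⟨z, hz, h⟩ := h
  have e : (∑ s, ψ (P s)) * conj (∑ s, ψ (P s)) = (Fintype.card Y : ℂ) ^ 2 := by
    have a : ∀ s, (∑ r, ψ (P r)) * conj (ψ (P s)) = ∑ r, ψ (P r - P 0) * ψ (B r s) := fun s => by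
      rw [← Equiv.sum_comp (Equiv.addLeft s), sum_mul]
      refine sum_congr rfl fun r _ => ?_
      rw [← ψ.map_neg_eq_conj, ← ψ.map_add_eq_mul, ← ψ.map_add_eq_mul, Equiv.coe_addLeft, eq_sub_of_add_eq (hP s r)]
      congr 1; abel
    rw [map_sum, mul_sum, sum_congr rfl fun s _ => a s, sum_comm, sum_eq_single 0 _ (by simp)]
    · have b : ∀ s, B 0 s = 0 := fun s => by simpa using (hP s 0).symm
      simp [b, hA]
    · intro r _ r0
      obtain ⟨s, rfl⟩ := h2 r r0 z hz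
      rw [← mul_sum, show ∑ s, ψ (B r s) = 0 from
        (ψ.compAddMonoidHom (B r)).sum_eq_zero_iff_ne_zero.2 fun c => h (DFunLike.congr_fun c s), mul_zero]
  rw [Complex.mul_conj, Complex.normSq_eq_norm_sq] at e
  have e1 : ‖∑ s, ψ (P s)‖ = Fintype.card Y := by
    refine (pow_left_inj₀ (norm_nonneg _) (Nat.cast_nonneg _) two_ne_zero).1 ?_
    exact_mod_cast e
  exact e1 ▸ (abs_le.1 (Complex.abs_re_le_norm _)).1

theorem cnt_sum [DecidableEq Y] (P : A → Y) : ∑ ψ : AddChar Y ℂ, ((∑ s, ψ (P s)).re + Fintype.card Y) =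
    Fintype.card Y * #{s | P s = 0} + (Fintype.card Y : ℝ) ^ 2 := by
  rw [sum_add_distrib, ← Complex.re_sum, sum_comm, sum_congr rfl fun s _ => AddChar.sum_apply_eq_ite (P s),
    ← sum_filter]
  simp [sq, mul_comm]

theorem cnt_zero (hA : Fintype.card A = Fintype.card Y ^ 2) (hP : ∀ s r, P (s + r) + P 0 = P s + P r + B r s)
    (h2 : ∀ r ≠ 0, Surjective (B r)) : ∃ s, P s = 0 := by
  classical
  by_contra! c
  have a := single_le_sum (f := fun ψ : AddChar Y ℂ => (∑ s, ψ (P s)).re + Fintype.card Y) (fun ψ _ =>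
    neg_le_iff_add_nonneg.1 (cnt_aux (Z := ⊤) hA hP (fun _ _ => trivial) (fun r h z _ => h2 r h z) trivial ψ).1)
    (mem_univ 0)
  rw [cnt_sum, filter_eq_empty_iff.2 fun s _ => c s] at a
  simp [hA, ← Complex.ofReal_natCast, ← Complex.ofReal_pow] at a

theorem cnt_one (hA : Fintype.card A = Fintype.card Y ^ 2) (hP : ∀ s r, P (s + r) + P 0 = P s + P r + B r s)
    (h1 : ∀ r s, B r s ∈ Z) (h2 : ∀ r ≠ 0, ∀ z ∈ Z, ∃ s, B r s = z) (h0 : P 0 = 0) (h3 : ∀ s, P s = 0 → s = 0) :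
    ∀ y, y ∈ Z := fun y => by
  classical
  by_contra c
  obtain ⟨χ, hχ⟩ := AddChar.exists_apply_ne_zero.2 (mt (QuotientAddGroup.eq_zero_iff y).1 c)
  have k := cnt_aux hA hP h1 h2 (h0 ▸ zero_mem Z)
  have n : χ.compAddMonoidHom (QuotientAddGroup.mk' Z) ≠ 0 := fun e => hχ (DFunLike.congr_fun e y)
  have a := sum_le_sum_of_subset_of_nonneg (f := fun ψ : AddChar Y ℂ => (∑ s, ψ (P s)).re + Fintype.card Y)
    (subset_univ {χ.compAddMonoidHom (QuotientAddGroup.mk' Z), 0}) fun ψ _ _ => neg_le_iff_add_nonneg.1 (k ψ).1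
  have b : (0 : ℝ) < Fintype.card Y := Nat.cast_pos.2 Fintype.card_pos
  have d := (k (χ.compAddMonoidHom (QuotientAddGroup.mk' Z))).2 fun z hz => by
    simp [(QuotientAddGroup.eq_zero_iff z).2 hz]
  rw [cnt_sum, sum_pair n, show ({s | P s = 0} : Finset A) = {0} from
    eq_singleton_iff_unique_mem.2 ⟨by simpa using h0, fun s hs => h3 s (by simpa using hs)⟩] at a
  simp only [card_singleton, AddChar.zero_apply, sum_const, card_univ, hA] at a
  simp [← Complex.ofReal_natCast, ← Complex.ofReal_pow] at a d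
  linarith

end

/-- the orthogonal module -/
@[ext] structure Vj (K : Type*) [Field K] [StarRing K] where
  c : K
  u : K
  z : K
  hc : star c = -c
  hz : star z = -z

attribute [simp] Vj.hc Vj.hz

variable {K : Type*} [Field K] [StarRing K] {a b c s r μ : K} {v w : Vj K}

namespace Vj

instance instAddVj : Add (Vj K) := ⟨fun x y => ⟨x.c + y.c, x.u + y.u, x.z + y.z, by simp; ring, by simp; ring⟩⟩
instance instZeroVj : Zero (Vj K) := ⟨⟨0, 0, 0, by simp, by simp⟩⟩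
instance instNegVj : Neg (Vj K) := ⟨fun x => ⟨-x.c, -x.u, -x.z, by simp, by simp⟩⟩

@[simp] theorem add_c : (v + w).c = v.c + w.c := rfl
@[simp] theorem add_u : (v + w).u = v.u + w.u := rfl
@[simp] theorem add_z : (v + w).z = v.z + w.z := rfl
@[simp] theorem zero_c : (0 : Vj K).c = 0 := rfl
@[simp] theorem zero_u : (0 : Vj K).u = 0 := rfl
@[simp] theorem zero_z : (0 : Vj K).z = 0 := rfl
@[simp] theorem neg_c : (-v).c = -v.c := rfl
@[simp] theorem neg_u : (-v).u = -v.u := rfl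
@[simp] theorem neg_z : (-v).z = -v.z := rfl

instance instAddCommGroupVj : AddCommGroup (Vj K) :=
  { AddGroup.ofLeftAxioms (fun _ _ _ => by ext <;> simp [add_assoc]) (fun _ => by ext <;> simp)
      fun _ => by ext <;> simp with add_comm := fun _ _ => by ext <;> simp [add_comm] }

@[simp] theorem sub_c : (v - w).c = v.c - w.c := by simp [sub_eq_add_neg]
@[simp] theorem sub_u : (v - w).u = v.u - w.u := by simp [sub_eq_add_neg]
@[simp] theorem sub_z : (v - w).z = v.z - w.z := by simp [sub_eq_add_neg]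

theorem p_smul {p : ℕ} [CharP K p] (v : Vj K) : p • v = 0 := by
  have : ∀ n : ℕ, (n • v).c = n * v.c ∧ (n • v).u = n * v.u ∧ (n • v).z = n * v.z := fun n => by
    induction n with
    | zero => simp
    | succ n ih => simp [succ_nsmul, ih, add_mul]
  ext <;> simp [this]

end Vj

/-- the unipotent group -/
@[simps] def tj (s : K) (v : Vj K) : Vj K :=
  ⟨v.c, v.u + s * v.c, v.z + (v.u * star s - s * star v.u) + s * star s * v.c, v.hc, by simp; ring⟩
/-- the opposite unipotent group -/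
@[simps] def tk (r : K) (v : Vj K) : Vj K :=
  ⟨v.c + (star v.u * star r - r * v.u) + r * star r * v.z, v.u - star r * v.z, v.z, by simp; ring, v.hz⟩
/-- monomial maps -/
@[simps] def mv (μ : K) (v : Vj K) : Vj K :=
  ⟨v.z / (μ * star μ), μ / star μ * star v.u, μ * star μ * v.c, by simp; ring, by simp [mul_comm]⟩
/-- vectors -/
@[simps] def vu (u : K) : Vj K := ⟨0, u, 0, by simp, by simp⟩
/-- vectors -/
@[simps] def vz (z : K) (h : star z = -z) : Vj K := ⟨0, 0, z, by simp, h⟩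
/-- vectors -/
@[simps] def vc (c : K) (h : star c = -c) : Vj K := ⟨c, 0, 0, h, by simp⟩

theorem tj_tj (a b : K) (v : Vj K) : tj a (tj b v) = tj (a + b) v := by ext <;> simp <;> ring
@[simp] theorem tj_zero (v : Vj K) : tj 0 v = v := by ext <;> simp
theorem tk_add (r : K) (v w : Vj K) : tk r (v + w) = tk r v + tk r w := by ext <;> simp <;> ring

/-- the fixed line -/
def jZ (K : Type*) [Field K] [StarRing K] : AddSubgroup (Vj K) where
  carrier := {v | v.c = 0 ∧ v.u = 0}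
  zero_mem' := ⟨rfl, rfl⟩
  add_mem' := fun {v w} h k => by simp_all
  neg_mem' := fun {v} h => by simp_all

/-- the fixed hyperplane -/
def jA (K : Type*) [Field K] [StarRing K] : AddSubgroup (Vj K) where
  carrier := {v | v.c = 0}
  zero_mem' := rfl
  add_mem' := fun {v w} h k => by simp_all
  neg_mem' := fun {v} h => by simp_all

theorem mem_jZ : v ∈ jZ K ↔ v.c = 0 ∧ v.u = 0 := Iff.rfl
theorem mem_jA : v ∈ jA K ↔ v.c = 0 := Iff.rfl
theorem vz_mem (h : star c = -c) : vz c h ∈ jZ K := ⟨rfl, rfl⟩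
theorem eq_vz (h : v ∈ jZ K) : v = vz v.z v.hz := Vj.ext h.1 h.2 rfl
theorem tj_Z (h : v ∈ jZ K) : tj s v = v := by ext <;> simp [h.1, h.2]

theorem card_sk [Uf K] : Nat.card K = Nat.card (skewAdjoint K) ^ 2 := by
  obtain ⟨e, he⟩ := Uf.nr (K := K)
  obtain ⟨ε, e0, hε⟩ := exists_sk (K := K)
  rw [sq, ← Nat.card_prod]
  refine (Nat.card_eq_of_bijective (fun x : skewAdjoint K × skewAdjoint K => (x.1 : K) + x.2 * e)
    ⟨fun x y h => ?_, fun t => ?_⟩).symm
  · have h' := congrArg star h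
    simp only [star_add, star_mul', skewAdjoint.star_val_eq] at h h'
    have a : (x.2 : K) = y.2 := mul_right_cancel₀ (sub_ne_zero.2 he) (by linear_combination -h - h')
    exact Prod.ext (Subtype.ext (by linear_combination h - e * a)) (Subtype.ext a)
  · obtain ⟨a, b, h1, h2, h3⟩ := exists_coord he (t / ε)
    exact ⟨(⟨a * ε, by simp [skewAdjoint.mem_iff, h1, hε]⟩, ⟨b * ε, by simp [skewAdjoint.mem_iff, h2, hε]⟩), by
      field_simp at h3; linear_combination -h3⟩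

variable {G : Type*} [Group G] {X T : Subgroup G} {ρ : G → Vj K →+ Vj K} {p : ℕ} {g k t : G}

/-- a faithful action with the unipotent group as a Sylow subgroup -/
structure Jm (p : ℕ) (X T : Subgroup G) (ρ : G → Vj K →+ Vj K) : Prop where
  rp : Rp X ρ
  syl : SylIn p T X
  ker : ∀ x ∈ X, (∀ v, ρ x v = v) → ∃ k, x ^ p ^ k = 1
  act : ∀ t ∈ T, ∃ s, ∀ v, ρ t v = tj s v
  onto : ∀ s, ∃ t ∈ T, ∀ v, ρ t v = tj s v

namespace Jm

variable (h : Jm p X T ρ)
include h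

theorem fixZ (ht : t ∈ T) (hw : w ∈ jZ K) : ρ t w = w := by
  obtain ⟨s, e⟩ := h.act t ht
  rw [e, tj_Z hw]

theorem subA (ht : t ∈ T) (v : Vj K) : ρ t v - v ∈ jA K := by
  obtain ⟨s, e⟩ := h.act t ht
  simp [e, mem_jA]

theorem subZ (ht : t ∈ T) (hv : v ∈ jA K) : ρ t v - v ∈ jZ K := by
  obtain ⟨s, e⟩ := h.act t ht
  simp [e, mem_jZ, mem_jA.1 hv]

theorem chn : T ≤ h.rp.chn (jZ K) (jA K) fun _ h => h.1 := fun _ ht =>
  ⟨h.syl.le ht, h.subA ht, fun _ => h.subZ ht, fun _ => h.fixZ ht⟩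

variable [Uf K]

theorem nZ (hg : g ∈ X) (hn : g ∈ normalizer (T : Set G)) (hw : w ∈ jZ K) : ρ g w ∈ jZ K := by
  have k : ∀ s, tj s (ρ g w) = ρ g w := fun s => by
    obtain ⟨t, ht, e⟩ := h.onto s
    have := h.fixZ (conj_mem_of_norm' hn ht) hw
    rw [h.rp.mul3 (inv_mem hg) (h.syl.le ht) hg, e] at this
    simpa only [h.rp.app_inv hg] using congrArg (ρ g) this
  have a : (ρ g w).c = 0 := by simpa using congrArg Vj.u (k 1)
  exact ⟨a, eq_zero_of_real fun s => by simpa [a, sub_eq_zero] using congrArg Vj.z (k s)⟩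

variable [Finite X] [Fact p.Prime] [CharP K p]

theorem normZ (hg : g ∈ X) (h1 : ∀ w ∈ jZ K, ρ g w ∈ jZ K) : g ∈ normalizer (T : Set G) := by
  have r := h.rp
  refine r.norm_of_chn h.syl Vj.p_smul h.ker _ h.chn hg h1 fun a ha => by_contra fun n => ?_
  have h2 := r.inv_maps hg h1
  let H : Subgroup G :=
    { carrier := {x | x ∈ X ∧ (∀ z ∈ jZ K, ρ x z = z) ∧ (∀ d ∈ jA K, ρ g⁻¹ d ∈ jA K → ρ x d - d ∈ jZ K) ∧
        ρ x (ρ g a) - ρ g a ∈ jA K ∧ ρ g⁻¹ (ρ x (ρ g a) - ρ g a) ∈ jA K}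
      one_mem' := ⟨one_mem _, fun z _ => r.one z, fun d _ _ => by simp [r.one], by simp [r.one], by simp [r.one]⟩
      mul_mem' := by
        rintro x y ⟨x0, x1, x2, x3, x4⟩ ⟨y0, y1, y2, y3, y4⟩
        have e := x2 _ y3 y4
        refine ⟨mul_mem x0 y0, fun z hz => by rw [r.mul _ x0 _ y0, y1 z hz, x1 z hz], fun d d1 d2 => ?_, ?_, ?_⟩
        · have := x1 _ (y2 d d1 d2)
          rw [map_sub, sub_eq_iff_eq_add] at this
          simpa [r.mul _ x0 _ y0, this, add_sub_assoc] using add_mem (y2 d d1 d2) (x2 d d1 d2)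
        · simpa [r.mul _ x0 _ y0] using add_mem (add_mem (show _ ∈ jA K from e.1) y3) x3
        · simpa [r.mul _ x0 _ y0] using add_mem (add_mem (show _ ∈ jA K from (h2 _ e).1) y4) x4
      inv_mem' := by
        rintro x ⟨x0, x1, x2, x3, x4⟩
        have k : ∀ d ∈ jA K, ρ g⁻¹ d ∈ jA K → ρ x⁻¹ d - d ∈ jZ K := fun d d1 d2 => by
          have := r.inv_fix x0 (x1 _ (x2 d d1 d2))
          rw [map_sub, r.inv_app x0] at this
          simpa [← this] using neg_mem (x2 d d1 d2)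
        have e := k _ x3 x4
        refine ⟨inv_mem x0, fun z hz => r.inv_fix x0 (x1 z hz), k, ?_, ?_⟩
        · simpa [r.inv_app x0] using neg_mem (add_mem (show _ ∈ jA K from e.1) x3)
        · simpa [r.inv_app x0] using neg_mem (add_mem (show _ ∈ jA K from (h2 _ e).1) x4) }
  have l : H ≤ X := fun _ h => h.1
  haveI := fin_of_le l
  obtain ⟨ε, e0, he⟩ := exists_sk (K := K)
  obtain ⟨u, u0, u1⟩ : ∃ u, u ≠ 0 ∧ (ρ g (vu u)).c = 0 := by
    by_contra! c
    obtain ⟨u, e⟩ := exists_not_real (f := fun u => ε * (ρ g (vu u)).c) fun u u' e => by_contra fun d =>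
      c _ (sub_ne_zero.2 d) (by
        rw [show vu (u - u') = vu u - vu u' by ext <;> simp, map_sub, Vj.sub_c, mul_left_cancel₀ e0 e, sub_self])
    exact e (by simp [he])
  have u2 : (ρ g (vu u)).u ≠ 0 := fun c => u0 (by simpa [r.inv_app hg] using (h2 _ ⟨u1, c⟩).2)
  obtain ⟨t, ht, et⟩ := h.onto ((ρ g (vu u)).u / (ρ g a).c)
  obtain ⟨j, hj⟩ := isPGroup_iff_mem.1 h.syl.pg t ht
  have q : ∀ x ∈ T, ∀ v, ρ (g * x * g⁻¹) v - v = ρ g (ρ x (ρ g⁻¹ v) - ρ g⁻¹ v) := fun x hx v => by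
    rw [r.mul3 hg (h.syl.le hx) (inv_mem hg), map_sub, r.app_inv hg]
  have q1 : ∀ x ∈ T, ρ (g * x * g⁻¹) (ρ g a) - ρ g a ∈ jZ K := fun x hx => by
    rw [q x hx, r.inv_app hg]; exact h1 _ (h.subZ hx ha)
  obtain ⟨b, ⟨b0, b1, b2, b3, b4⟩, b5⟩ := ((h.syl.cj (le_normalizer hg)).mono (C := H) (img_le_iff.2 fun x hx =>
    ⟨mul_mem (mul_mem hg (h.syl.le hx)) (inv_mem hg), fun z hz => sub_eq_zero.1 (by
      rw [cj_apply, q x hx, h.fixZ hx (h2 z hz), sub_self, map_zero]), fun d _ d2 => by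
      rw [cj_apply, q x hx]; exact h1 _ (h.subZ hx d2), (q1 x hx).1, (h2 _ (q1 x hx)).1⟩) l).exists_conj_elt (x := t)
    ⟨h.syl.le ht, fun _ => h.fixZ ht, fun d d1 _ => h.subZ ht d1, h.subA ht _, by
      have := add_mem (show _ ∈ jA K from (h2 (ρ t (ρ g a) - ρ g a - ρ g (vu u)) (by
        simp [et, mem_jZ, u1, mul_div_cancel₀, show (ρ g a).c ≠ 0 from n])).1) (show ρ g⁻¹ (ρ g (vu u)) ∈ jA K by
          rw [r.inv_app hg]; rfl)
      simpa using this⟩ hj
  obtain ⟨x, hx, e⟩ := (mulOn_cj g T).mem_img.1 b5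
  have m := q1 x hx
  rw [show g * x * g⁻¹ = b * t * b⁻¹ from e] at m
  have e2 := (congrArg Vj.u (r.inv_fix b0 (b1 _ m))).trans m.2
  have e3 := (H.inv_mem (⟨b0, b1, b2, b3, b4⟩ : b ∈ H)).2.2.2.1
  rw [map_sub, r.mul3 b0 (h.syl.le ht) (inv_mem b0), r.inv_app b0, et] at e2
  rw [mem_jA, Vj.sub_c, sub_eq_zero] at e3
  exact u2 (by simpa [e3, show (ρ g a).c ≠ 0 from n] using e2)

end Jm

end CF.FusV
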