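import Cfsg.Agent.FusV.D

/-! The orthogonal module of minus type: identification of the opposite unipotent group. -/

set_option autoImplicit false
set_option linter.style.haveILetI false

namespace CF.FusV

open Subgroup CF.Fus CF.FusD Function
open CF.FusU (Uf exists_sk exists_sk_eq eq_zero_of_real exists_tr real_zero exists_theta)

variable {K : Type*} [Field K] [StarRing K] [Uf K] {a b c s r μ : K} {v w : Vj K}

theorem semi {Ψ Φ : K → K} (h1 : ∀ u v, Ψ (u + v) = Ψ u + Ψ v) (h2 : ∀ u v, Φ (u + v) = Φ u + Φ v) (h3 : Surjective Ψ)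
    (h : ∀ u, ∃ l, star l = l ∧ Φ u = l * Ψ u) : ∃ l, star l = l ∧ ∀ u, Φ u = l * Ψ u := by
  obtain ⟨u1, e1⟩ := h3 1
  obtain ⟨l, l1, l2⟩ := h u1
  have k : ∀ u, star (Ψ u) ≠ Ψ u → Φ u = l * Ψ u := fun u n => by
    obtain ⟨m, m1, m2⟩ := h u
    obtain ⟨q, q1, q2⟩ := h (u1 + u)
    rw [h1, h2, l2, m2, e1] at q2
    have a : m - q = 0 := real_zero n (by simp [m1, q1]) (by
      rw [show Ψ u * (m - q) = q - l by linear_combination q2]; simp [q1, l1])
    rw [m2, show m = l by linear_combination (1 + Ψ u) * a - q2]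
  refine ⟨l, l1, fun u => by_contra fun n => ?_⟩
  obtain ⟨e, he⟩ := Uf.nr (K := K)
  obtain ⟨u2, rfl⟩ := h3 e
  have a := k (u + u2) (by simp [h1, not_not.1 (mt (k u) n), he])
  rw [h1, h2, k _ he] at a
  exact n (by linear_combination a)

theorem deriv_zero {D : K → K} (h : ∀ l m, star l = l → star m = m → D (l * m) = l * D m + m * D l) (e : star a = a) :
    D a = 0 := by
  have k : ∀ n : ℕ, a * D (a ^ n) = n * a ^ n * D a := fun n => by
    induction n with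
    | zero => simpa using (by simpa using h 1 1 (star_one _) (star_one _) : D 1 = 0) |> Or.inr
    | succ n ih => rw [pow_succ', h _ _ e (by simp [e])]; push_cast; linear_combination a * ih
  haveI := Fintype.ofFinite K
  have := k (Fintype.card K)
  rw [FiniteField.pow_card, FiniteField.cast_card_eq_zero, zero_mul, zero_mul, mul_eq_zero] at this
  rcases this with rfl | this
  · simpa using h 0 0 e e
  · exact this

omit [Uf K] in
theorem vu0 : vu (0 : K) = 0 := rfl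

variable {G : Type*} [Group G] {X T : Subgroup G} {ρ : G → Vj K →+ Vj K} {p : ℕ} {g k t x : G}

/-- the skew coordinate -/
def pc' (f : Vj K →+ Vj K) : Vj K →+ skewAdjoint K :=
  AddMonoidHom.mk' (fun v => ⟨(f v).c, (f v).hc⟩) fun _ _ => Subtype.ext (by simp)

/-- the polar form -/
def pol (v : Vj K) (r : K) : K →+ Vj K :=
  AddMonoidHom.mk' (fun s => vz ((s * star r + r * star s) * v.c) (by simp [add_comm, mul_comm])) fun _ _ => by ext <;> simp; ring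

omit [Uf K] in
theorem tj_pol (v : Vj K) (s r : K) : tj (s + r) v + tj 0 v = tj s v + tj r v + pol v r s := by
  ext <;> simp [pol] <;> ring

theorem exists_pol (h : v.c ≠ 0) (r0 : r ≠ 0) (hw : w ∈ jZ K) : ∃ s, pol v r s = w := by
  obtain ⟨x, e⟩ := exists_tr (a := w.z / v.c) (by simp [neg_div_neg_eq])
  have := star_ne_zero.2 r0
  refine ⟨x / star r, Vj.ext hw.1.symm hw.2.symm ?_⟩
  simp only [pol, AddMonoidHom.mk'_apply, vz_z, star_div₀, star_star]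
  field_simp at e ⊢
  exact e

/-- the Sylow subgroup is a trivial intersection subgroup -/
structure Jt (p : ℕ) (X T : Subgroup G) (ρ : G → Vj K →+ Vj K) : Prop extends Jm p X T ρ where
  ti : ∀ g ∈ X, ∀ t ∈ T, (∃ v, ρ t v ≠ v) → g * t * g⁻¹ ∈ T → g ∈ normalizer (T : Set G)

namespace Jt

variable [Finite X] [Fact p.Prime] (h : Jt p X T ρ)
include h

theorem perp (hg : g ∈ X) (hw : w ∈ jZ K) (e : (ρ g w).c = 0) : ρ g w ∈ jZ K := by
  have r := h.rp
  refine ⟨e, by_contra fun n => n ?_⟩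
  obtain ⟨c, c0, hc⟩ := exists_sk (K := K)
  obtain ⟨t, ht, et⟩ := h.onto (ρ g w).u
  have l : r.fixS {ρ g w} ≤ X := fun _ h => h.1
  haveI := fin_of_le l
  obtain ⟨j, hj⟩ := isPGroup_iff_mem.1 h.syl.pg t ht
  obtain ⟨b, ⟨b0, b1⟩, b2⟩ := ((h.syl.cj (le_normalizer hg)).mono (C := r.fixS {ρ g w}) (img_le_iff.2 fun x hx =>
    ⟨mul_mem (mul_mem hg (h.syl.le hx)) (inv_mem hg), by
      rintro _ rfl
      rw [cj_apply, r.mul3 hg (h.syl.le hx) (inv_mem hg), r.inv_app hg, h.fixZ hx hw]⟩) l).exists_conj_elt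
    (x := t) ⟨h.syl.le ht, by rintro _ rfl; rw [et]; ext <;> simp [e]⟩ hj
  have k0 := mul_mem (inv_mem hg) b0
  have := h.nZ (inv_mem k0) (inv_mem (h.ti _ k0 t ht ⟨vc c hc, fun q => n (by simpa [et, c0] using congrArg Vj.u q)⟩
    (by simpa [mul_assoc] using mem_img_cj.1 b2))) hw
  rw [mul_inv_rev, inv_inv, r.mul _ (inv_mem b0) _ hg, r.inv_fix b0 (b1 _ rfl)] at this
  exact this.2

variable [CharP K p]

theorem onto_c (hg : g ∈ X) (gn : g ∉ normalizer (T : Set G)) (hc : star c = -c) : ∃ w ∈ jZ K, (ρ g w).c = c := by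
  have r := h.rp
  obtain ⟨w, hw, n⟩ : ∃ w ∈ jZ K, (ρ g⁻¹ w).c ≠ 0 := by
    by_contra! q
    exact gn ((Subgroup.inv_mem_iff _).1 (h.normZ (inv_mem hg) fun w hw => h.perp (inv_mem hg) hw (q w hw)))
  haveI := Fintype.ofFinite K
  haveI := Fintype.ofFinite (skewAdjoint K)
  obtain ⟨y, hy, e⟩ := cnt_one (P := fun s => pc' (ρ g) (tj s (ρ g⁻¹ w))) (B := fun r => (pc' (ρ g)).comp (pol (ρ g⁻¹ w) r))
    (Z := (jZ K).map (pc' (ρ g))) (by simpa using card_sk (K := K))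
    (fun s r => by simp only [← map_add, tj_pol, AddMonoidHom.comp_apply]) (fun r s => ⟨_, vz_mem _, rfl⟩)
    (by rintro r r0 _ ⟨y, hy, rfl⟩; exact let ⟨s, e⟩ := exists_pol n r0 hy; ⟨s, congrArg (pc' (ρ g)) e⟩)
    (Subtype.ext (by simp [pc', r.app_inv hg, hw.1])) (fun s e => by
      obtain ⟨t, ht, et⟩ := h.onto s
      have t0 := h.syl.le ht
      have a := h.perp (mul_mem (mul_mem hg t0) (inv_mem hg)) hw (by
        rw [r.mul3 hg t0 (inv_mem hg), et]; exact congrArg Subtype.val e)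
      have b := h.perp (inv_mem hg) (sub_mem a hw) (by simp [r.mul3 hg t0 (inv_mem hg), r.inv_app hg, et])
      simpa [r.mul3 hg t0 (inv_mem hg), r.inv_app hg, et, n] using b.2) ⟨c, hc⟩
  exact ⟨y, hy, congrArg Subtype.val e⟩

theorem ti1 (hg : g ∈ X) (gn : g ∉ normalizer (T : Set G)) (hw : w ∈ jZ K) (e : (ρ g w).c = 0) : w = 0 := by
  have i := (Finite.injective_iff_surjective (f := fun y : skewAdjoint K => pc' (ρ g) (vz y y.2))).2 fun y =>
    let ⟨w, hw, e⟩ := h.onto_c hg gn y.2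
    ⟨⟨w.z, w.hz⟩, Subtype.ext (by rw [← e, eq_vz hw]; rfl)⟩
  have := @i ⟨w.z, w.hz⟩ 0 (Subtype.ext (by
    rw [eq_vz hw] at e
    exact e.trans (congrArg Vj.c (map_zero (ρ g))).symm))
  exact Vj.ext hw.1 hw.2 (congrArg Subtype.val this)

theorem dec (hg : g ∈ X) (gn : g ∉ normalizer (T : Set G)) (hx : x ∈ X) (xn : x ∉ normalizer (T : Set G)) :
    ∃ t ∈ T, g⁻¹ * t * x ∈ normalizer (T : Set G) := by
  obtain ⟨c, c0, hc⟩ := exists_sk (K := K)
  have w0 : vz c hc ≠ 0 := fun e => c0 (congrArg Vj.z e)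
  haveI := Fintype.ofFinite K
  haveI := Fintype.ofFinite (skewAdjoint K)
  obtain ⟨s, e⟩ := cnt_zero (P := fun s => pc' (ρ g⁻¹) (tj s (ρ x (vz c hc))))
    (B := fun r => (pc' (ρ g⁻¹)).comp (pol (ρ x (vz c hc)) r)) (by simpa using card_sk (K := K))
    (fun s r => by simp only [← map_add, tj_pol, AddMonoidHom.comp_apply]) fun r r0 y => by
      obtain ⟨w, hw, e⟩ := h.onto_c (inv_mem hg) (by simpa using gn) y.2
      obtain ⟨s, rfl⟩ := exists_pol (mt (h.ti1 hx xn (vz_mem hc)) w0) r0 hw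
      exact ⟨s, Subtype.ext e⟩
  obtain ⟨t, ht, et⟩ := h.onto s
  refine ⟨t, ht, by_contra fun n => w0 (h.ti1 (mul_mem (mul_mem (inv_mem hg) (h.syl.le ht)) hx) n (vz_mem hc) ?_)⟩
  rw [h.rp.mul3 (inv_mem hg) (h.syl.le ht) hx, et]
  exact congrArg Subtype.val e

theorem swap (hg : g ∈ X) (gn : g ∉ normalizer (T : Set G)) (s0 : s ≠ 0) : ∃ t ∈ T, ∃ n ∈ X,
    n ∈ normalizer (T : Set G) ∧ ∀ w, tj s (ρ g w) = ρ g (ρ t (ρ g⁻¹ (ρ n w))) := by
  have r := h.rp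
  obtain ⟨t, ht, et⟩ := h.onto s
  have t0 := h.syl.le ht
  have x0 := mul_mem (mul_mem (inv_mem hg) t0) hg
  obtain ⟨t', ht', e⟩ := h.dec (inv_mem hg) (by simpa using gn) x0 fun n => by
    obtain ⟨c, c0, hc⟩ := exists_sk (K := K)
    obtain ⟨w, hw, rfl⟩ := h.onto_c hg gn hc
    have a := h.perp hg (sub_mem (h.nZ x0 n hw) hw) (by simp [r.mul3 (inv_mem hg) t0 hg, r.app_inv hg, et])
    simpa [r.mul3 (inv_mem hg) t0 hg, r.app_inv hg, et, s0, c0] using a.2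
  have t1 := h.syl.le ht'
  refine ⟨_, inv_mem ht', _, mul_mem (mul_mem (inv_mem (inv_mem hg)) t1) x0, e, fun w => ?_⟩
  rw [r.mul3 (inv_mem (inv_mem hg)) t1 x0, r.app_inv (inv_mem hg), r.inv_app t1, r.mul3 (inv_mem hg) t0 hg, r.app_inv hg,
    et]

theorem exists_lam (hg : g ∈ X) (gn : g ∉ normalizer (T : Set G)) : ∃ (Λ : Vj K → K) (μ : K → K),
    (∀ v w, Λ (v + w) = Λ v + Λ w) ∧ (∀ v, star (Λ v) = Λ v) ∧ (∀ v, Λ v = 0 → (ρ g⁻¹ v).c = 0) ∧
      (∀ s ≠ 0, μ s ≠ 0) ∧ μ 0 = 0 ∧ ∀ s, ∀ w ∈ jZ K, Λ (tj s (ρ g w)) = μ s * (ρ g w).c := by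
  have r := h.rp
  have gn' : g⁻¹ ∉ normalizer (T : Set G) := by simpa using gn
  obtain ⟨ε, e0, he⟩ := exists_sk (K := K)
  obtain ⟨ψ, p1, p2, p3⟩ : ∃ ψ : Vj K → K, (∀ v w, ψ (v + w) = ψ v + ψ w) ∧ (∀ w ∈ jZ K, ψ (ρ g w) = 0) ∧
      ∀ v : Vj K, v.c = 0 → ψ v = v.u := by
    choose ω o1 o2 using fun v : Vj K => h.onto_c hg gn v.hc
    have k : ∀ v, ∀ w ∈ jZ K, (ρ g w).c = v.c → ω v = w := fun v w hw e =>
      sub_eq_zero.1 (h.ti1 hg gn (sub_mem (o1 v) hw) (by simp [o2, e]))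
    exact ⟨fun v => v.u - (ρ g (ω v)).u, fun v w => by
      simp [k (v + w) _ (add_mem (o1 v) (o1 w)) (by simp [o2])]; ring, fun w hw => by simp [k _ w hw rfl],
      fun v e => by simp [k v 0 (zero_mem _) (by simp [e])]⟩
  have p4 : ∀ s v, ψ (tj s v) = ψ v + s * v.c := fun s v => by
    rw [← add_sub_cancel v (tj s v), p1, p3 (tj s v - v) (by simp)]; simp
  have a1 : ∀ u u', ψ (ρ g (vu (u + u'))) = ψ (ρ g (vu u)) + ψ (ρ g (vu u')) := fun u u' => by
    rw [← p1, ← map_add]; congr 2; ext <;> simp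
  have a2 : ∀ u, ψ (ρ g (vu u)) = 0 → u = 0 := fun u e => by
    obtain ⟨w, hw, e1⟩ := h.onto_c hg gn (ρ g (vu u)).hc
    have e2 : (ρ g (vu u - w)).c = 0 := by simp [e1]
    have e3 := p1 (ρ g (vu u - w)) (ρ g w)
    rw [← map_add, sub_add_cancel, e, p2 w hw, p3 _ e2, add_zero] at e3
    have := h.ti1 (inv_mem hg) gn' ⟨e2, e3.symm⟩ (by simp [r.inv_app hg, hw.1])
    simpa [hw.2] using congrArg Vj.u (r.inj hg (this.trans (map_zero _).symm))
  have a3 : Surjective fun u => ψ (ρ g (vu u)) := Finite.injective_iff_surjective.1 fun u u' e => sub_eq_zero.1 (a2 _ (by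
    have := a1 (u - u') u'
    rw [sub_add_cancel] at this
    linear_combination e - this))
  have k1 : ∀ a, ∀ y, ρ g y ∈ jZ K → ψ (ρ g (tj a y)) = ψ (ρ g (vu (a * y.c))) := fun a y hy => by
    rw [show tj a y = y + vu (a * y.c) + (tj a y - y - vu (a * y.c)) by abel, map_add, map_add, p1, p1,
      p3 _ hy.1, hy.2, p2 (tj a y - y - vu (a * y.c)) ⟨by simp, by simp⟩, zero_add, add_zero]
  have k2 : ∀ a, ∃ s, ∀ c, star c = -c → ∃ d, star d = -d ∧ ψ (ρ g (vu (a * c))) = s * d := fun a => by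
    by_cases a0 : a = 0
    · exact ⟨0, fun c _ => ⟨0, by simp, by simpa [a0, vu0] using p2 0 (zero_mem _)⟩⟩
    obtain ⟨t, ht, n, n0, n1, e⟩ := h.swap (inv_mem hg) gn' a0
    obtain ⟨s, et⟩ := h.act t ht
    refine ⟨s, fun c hc => ?_⟩
    obtain ⟨w, hw, rfl⟩ := h.onto_c (inv_mem hg) gn' hc
    refine ⟨_, (ρ g (ρ n w)).hc, ?_⟩
    rw [← k1 a _ (by rwa [r.app_inv hg]), e, r.app_inv hg, inv_inv, et, p4, p2 _ (h.nZ n0 n1 hw), zero_add]
  choose! γ g1 g2 using fun l (hl : star l = l) => semi (Φ := fun u => ψ (ρ g (vu (l * u)))) a1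
    (fun u v => by rw [mul_add, a1]) a3 fun u => by
      obtain ⟨s, e⟩ := k2 (u / ε)
      obtain ⟨d, d1, d2⟩ := e ε he
      obtain ⟨f, f1, f2⟩ := e (l * ε) (by simp [hl, he])
      rw [div_mul_cancel₀ _ e0] at d2
      rw [show u / ε * (l * ε) = l * u by field_simp] at f2
      by_cases d0 : d = 0
      · obtain rfl := a2 u (by rw [d2, d0, mul_zero])
        exact ⟨1, star_one _, by simp⟩
      · exact ⟨f / d, by simp [d1, f1, neg_div_neg_eq], by rw [f2, d2]; field_simp⟩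
  have rl : ∀ v : Vj K, star (v.c / ε) = v.c / ε := fun v => by simp [he, neg_div_neg_eq]
  obtain ⟨u1, e1⟩ : ∃ u, ψ (ρ g (vu u)) = 1 := a3 1
  have g3 : ∀ l, star l = l → γ l = ψ (ρ g (vu (l * u1))) := fun l e => by rw [g2 l e, e1, mul_one]
  have k3 : ∀ s, ∃ m, (s ≠ 0 → m ≠ 0) ∧ (s = 0 → m = 0) ∧
      ∀ w ∈ jZ K, γ ((ρ g⁻¹ (tj s (ρ g w))).c / ε) = m * (ρ g w).c := fun s => by
    by_cases s0 : s = 0
    · exact ⟨0, fun c => absurd s0 c, fun _ => rfl, fun w hw => by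
        simpa [s0, r.inv_app hg, hw.1, g3 0 (star_zero _), vu0] using p2 0 (zero_mem _)⟩
    obtain ⟨t, ht, n, n0, n1, e⟩ := h.swap hg gn s0
    obtain ⟨a, et⟩ := h.act t ht
    have q : ∀ w ∈ jZ K, γ ((ρ g⁻¹ (tj s (ρ g w))).c / ε) * ψ (ρ g (vu (a * ε))) = s * (ρ g w).c := fun w hw => by
      have := p4 s (ρ g w)
      rw [p2 w hw, zero_add, e, et, k1 a _ (by rw [r.app_inv hg]; exact h.nZ n0 n1 hw)] at this
      rw [← g2 _ (rl _), e, r.inv_app hg, et, ← this]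
      congr 3; simp; field_simp
    obtain ⟨w, hw, e2⟩ := h.onto_c hg gn he
    have q0 : ψ (ρ g (vu (a * ε))) ≠ 0 := fun c => mul_ne_zero s0 e0 (by rw [← e2, ← q w hw, c, mul_zero])
    exact ⟨s / ψ (ρ g (vu (a * ε))), fun _ => div_ne_zero s0 q0, fun c => absurd c s0, fun w hw => by
      rw [div_mul_eq_mul_div, eq_div_iff q0, q w hw]⟩
  choose μ m1 m2 m3 using k3
  refine ⟨fun v => γ ((ρ g⁻¹ v).c / ε), μ, fun v w => ?_, fun v => g1 _ (rl _), fun v e => ?_, m1, m2 0 rfl, m3⟩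
  · simp only [g3 _ (rl _), ← a1]
    congr 3; simp; ring
  · simp only [g3 _ (rl _)] at e
    simpa [e0, show u1 ≠ 0 from fun c => by simp [c, vu0, p3] at e1] using a2 _ e

theorem shape (hg : g ∈ X) (gn : g ∉ normalizer (T : Set G)) : ∃ s0, (∀ w ∈ jZ K, (ρ g w).u = s0 * (ρ g w).c) ∧
    (s0 = 0 → ∀ u, (ρ g⁻¹ (vu u)).c = 0) := by
  obtain ⟨Λ, μ, l1, l2, l3, m1, m2, m3⟩ := h.exists_lam hg gn
  obtain ⟨ε, e0, he⟩ := exists_sk (K := K)
  obtain ⟨θ, hθ⟩ := exists_theta (K := K)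
  obtain ⟨m, hm⟩ : ∃ m, ∀ c hc, Λ (vz c hc) = m * c := ⟨μ (θ + 1) - μ θ - μ 1, fun c hc => by
    obtain ⟨w, hw, rfl⟩ := h.onto_c hg gn hc
    have := congrArg Λ (tj_pol (ρ g w) θ 1)
    rw [l1, l1, l1, m3 _ w hw, m3 _ w hw, m3 _ w hw, m3 _ w hw, m2,
      show pol (ρ g w) 1 θ = vz _ hc by ext <;> simp [pol, hθ]] at this
    linear_combination -this⟩
  have m0 : m ≠ 0 := fun c => e0 (congrArg Vj.z (h.ti1 (inv_mem hg) (by simpa using gn) (vz_mem he)
    (l3 _ (by rw [hm, c, zero_mul]))))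
  obtain ⟨ℓ, hl⟩ : ∃ ℓ : K → K, ∀ s, μ s = m * (ℓ s + s * star s) :=
    ⟨fun s => μ s / m - s * star s, fun s => by field_simp; ring⟩
  have R : ∀ s, ∀ w ∈ jZ K, Λ (vu (s * (ρ g w).c)) =
      m * (ℓ s * (ρ g w).c - ((ρ g w).u * star s - s * star (ρ g w).u)) := fun s w hw => by
    have a := m3 s w hw
    have b := m3 0 w hw
    rw [show tj s (ρ g w) = ρ g w + vu (s * (ρ g w).c) + vz ((ρ g w).u * star s - s * star (ρ g w).u +
      s * star s * (ρ g w).c) (by simp; ring) by ext <;> simp; ring, l1, l1, hm, hl] at a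
    rw [tj_zero, m2] at b
    linear_combination a - b
  obtain ⟨w1, z1, e1⟩ := h.onto_c hg gn he
  have R1 := fun s => R s w1 z1
  rw [e1] at R1
  have r1 : ∀ s, star (ℓ s) = ℓ s := fun s => by
    have a := congrArg star (hm ε he)
    have b := congrArg star (R1 s)
    rw [l2, hm, star_mul', he] at a
    rw [l2, R1, star_mul', show star m = -m from mul_right_cancel₀ e0 (by linear_combination a)] at b
    simp only [star_sub, star_mul', star_star, he] at b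
    exact mul_left_cancel₀ (mul_ne_zero m0 e0) (by linear_combination -b)
  have r2 : ∀ s l, star l = l → ℓ (l * s) = l * ℓ s := fun s l e => sub_eq_zero.1 (deriv_zero
    (D := fun l => ℓ (l * s) - l * ℓ s) (fun l n e e' => by
      obtain ⟨w, hw, e2⟩ := h.onto_c hg gn (c := n * ε) (by simp [e', he])
      have a1 := R1 (l * n * s)
      have a2 := R (l * s) w hw
      have a3 := R1 (n * s)
      have a4 := R s w hw
      rw [e2, show l * s * (n * ε) = l * n * s * ε by ring] at a2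
      rw [e2, show s * (n * ε) = n * s * ε by ring] at a4
      simp only [star_mul', e, e'] at a1 a2 a3 a4
      exact mul_left_cancel₀ (mul_ne_zero m0 e0) (by linear_combination -a1 + a2 + l * a3 - l * a4)) e)
  have r3 : ∀ s, ℓ s = 0 := fun s => by_contra fun n => by
    have s0 : s ≠ 0 := by
      rintro rfl
      exact n (by simpa [m2, m0] using hl 0)
    have s1 := star_ne_zero.2 s0
    have r : star (-ℓ s / (s * star s)) = -ℓ s / (s * star s) := by simp [r1, mul_comm]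
    refine m1 (-ℓ s / (s * star s) * s) (mul_ne_zero (div_ne_zero (neg_ne_zero.2 n) (mul_ne_zero s0 s1)) s0) ?_
    rw [hl, r2 _ _ r, star_mul', r]
    field_simp; ring
  refine ⟨(ρ g w1).u / ε, fun w hw => sub_eq_zero.1 (eq_zero_of_real fun s => ?_), fun e u => l3 _ ?_⟩
  · have r : star ((ρ g w).c / ε) = (ρ g w).c / ε := by simp [he, neg_div_neg_eq]
    have a1 := R s w hw
    have a2 := R1 ((ρ g w).c / ε * s)
    rw [show (ρ g w).c / ε * s * ε = s * (ρ g w).c by field_simp, a1, r3, r3, star_mul', r] at a2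
    have a3 := mul_left_cancel₀ m0 a2
    simp only [star_sub, star_mul', star_div₀, he, Vj.hc]
    field_simp at a3 ⊢
    linear_combination -a3
  · simpa [e0, r3, (div_eq_zero_iff.1 e).resolve_right e0] using R1 (u / ε)

theorem exists_g (hn : ¬ X ≤ normalizer (T : Set G)) :
    ∃ g ∈ X, g ∉ normalizer (T : Set G) ∧ ∀ w ∈ jZ K, (ρ g w).u = 0 := by
  obtain ⟨g, hg, gn⟩ := SetLike.not_le_iff_exists.1 hn
  obtain ⟨s, e, -⟩ := h.shape hg gn
  obtain ⟨t, ht, et⟩ := h.onto (-s)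
  exact ⟨t * g, mul_mem (h.syl.le ht) hg, fun n => gn (by simpa using mul_mem (inv_mem (le_normalizer ht)) n),
    fun w hw => by simp [h.rp.mul _ (h.syl.le ht) _ hg, et, e w hw]⟩

theorem uniq (hg : g ∈ X) (gn : g ∉ normalizer (T : Set G)) (h1 : ∀ w ∈ jZ K, (ρ g w).u = 0) (hx : x ∈ X)
    (hw : w ∈ jZ K) (h2 : (ρ x w).u = 0) (h3 : (ρ x w).c ≠ 0) : ∃ w' ∈ jZ K, ρ x w = ρ g w' := by
  have r := h.rp
  obtain ⟨t, ht, e⟩ := h.dec hg gn hx fun n => h3 (h.nZ hx n hw).1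
  obtain ⟨s, et⟩ := h.act t ht
  have t0 := h.syl.le ht
  have a := h.nZ (mul_mem (mul_mem (inv_mem hg) t0) hx) e hw
  have b := h1 _ a
  rw [r.mul3 (inv_mem hg) t0 hx, r.app_inv hg, et, tj_u, h2, zero_add, mul_eq_zero, or_iff_left h3] at b
  exact ⟨_, a, by rw [r.mul3 (inv_mem hg) t0 hx, r.app_inv hg, et, b, tj_zero]⟩

theorem mono (hg : g ∈ X) (h1 : ∀ w ∈ jZ K, (ρ g w).u = 0 ∧ (ρ g w).z = 0) (m0 : μ ≠ 0) :
    ∃ m ∈ X, ∀ v, ρ m v = mv μ v := by
  have r := h.rp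
  obtain ⟨ε, e0, he⟩ := exists_sk (K := K)
  have gn : g ∉ normalizer (T : Set G) := fun n => e0 (congrArg Vj.z (r.inj hg (show ρ g (vz ε he) = ρ g 0 from
    (Vj.ext (h.nZ hg n (vz_mem he)).1 (h1 _ (vz_mem he)).1 (h1 _ (vz_mem he)).2).trans (map_zero _).symm)))
  have c1 : ∀ c hc, ∃ w ∈ jZ K, ρ g w = vc c hc := fun c hc =>
    let ⟨w, hw, e⟩ := h.onto_c hg gn hc
    ⟨w, hw, Vj.ext e (h1 w hw).1 (h1 w hw).2⟩
  obtain ⟨s0, a1, a2⟩ := h.shape hg gn
  replace a2 := a2 (by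
    obtain ⟨w, hw, e⟩ := c1 ε he
    simpa [e, e0] using a1 w hw)
  have c2 : ∀ a ∈ jA K, (ρ g a).z = 0 := fun a ha => by
    obtain ⟨w, hw, e⟩ := c1 _ (ρ g a).hc
    refine congrArg Vj.z (h.ti1 (inv_mem hg) (by simpa using gn) (vz_mem (ρ g a).hz) ?_)
    rw [show vz _ (ρ g a).hz = ρ g a - ρ g w - vu (ρ g a).u by ext <;> simp [e]]
    simp [r.inv_app hg, a2, hw.1, mem_jA.1 ha]
  have sg : ∀ x ∈ X, ∀ w ∈ jZ K, (ρ x w).u * star (ρ x w).u + (ρ x w).c * (ρ x w).z = 0 := fun x hx w hw => by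
    by_cases n : x ∈ normalizer (T : Set G)
    · simp [(h.nZ hx n hw).1, (h.nZ hx n hw).2]
    obtain ⟨t, ht, e⟩ := h.dec hg gn hx n
    obtain ⟨s, et⟩ := h.act _ (inv_mem ht)
    have t0 := h.syl.le ht
    have a := h1 _ (h.nZ (mul_mem (mul_mem (inv_mem hg) t0) hx) e hw)
    rw [r.mul3 (inv_mem hg) t0 hx, r.app_inv hg] at a
    rw [← r.inv_app t0 (ρ x w), et]
    simp [a.1, a.2]; ring
  have m1 := star_ne_zero.2 m0
  obtain ⟨t, ht, n, n0, n1, e⟩ := h.swap hg gn (neg_ne_zero.2 m0)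
  have t0 := h.syl.le ht
  have k0 := mul_mem (mul_mem hg t0) (inv_mem hg)
  have q : ∀ v, ρ (g * t * g⁻¹) v = v + ρ g (ρ t (ρ g⁻¹ v) - ρ g⁻¹ v) := fun v => by
    rw [r.mul3 hg t0 (inv_mem hg), map_sub, r.app_inv hg, add_sub_cancel]
  have b1 : ∀ c hc, ρ (g * t * g⁻¹) (vc c hc) = tk μ⁻¹ (vc c hc) := fun c hc => by
    obtain ⟨w, hw, e⟩ := c1 c hc
    rw [q, ← e, r.inv_app hg, h.fixZ ht hw, e]
    ext <;> simp
  have b2 : ∀ c hc, ρ (g * t * g⁻¹) (vz c hc) = tk μ⁻¹ (vz c hc) := fun c hc => by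
    have a := e (ρ n⁻¹ (vz c hc))
    have b := h1 _ (h.nZ (inv_mem n0) (inv_mem n1) (vz_mem hc))
    rw [r.app_inv n0, ← r.mul3 hg t0 (inv_mem hg)] at a
    have d := congrArg Vj.z a
    rw [q, Vj.add_z, c2 _ (h.subA ht _)] at d
    rw [← a]
    ext <;> simp [b.1, b.2] at d ⊢ <;> (try field_simp) <;> linear_combination d
  have b3 : ∀ u, ρ (g * t * g⁻¹) (vu u) = tk μ⁻¹ (vu u) := fun u => by
    by_cases u0 : u = 0
    · rw [u0, vu0, map_zero]; ext <;> simp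
    obtain ⟨a, b⟩ := h1 _ (h.subZ ht (a2 u))
    have a : (ρ (g * t * g⁻¹) (vu u)).u = u := by rw [q, Vj.add_u, a, add_zero]; rfl
    have b : (ρ (g * t * g⁻¹) (vu u)).z = 0 := by rw [q, Vj.add_z, b, add_zero]; rfl
    refine Vj.ext ?_ (by simp [a]) (by simp [b])
    obtain ⟨w, hw, e⟩ := c1 ε he
    obtain ⟨t', ht', et⟩ := h.onto (u / ε)
    have u1 := star_ne_zero.2 u0
    have d := sg _ (mul_mem (mul_mem k0 (h.syl.le ht')) hg) w hw
    rw [r.mul3 k0 (h.syl.le ht') hg, e, et, show tj (u / ε) (vc ε he) = vc ε he + vu u + vz (-(u * star u / ε))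
      (by simp [he, mul_comm, neg_div_neg_eq, div_neg]) by ext <;> simp [he, e0] <;> field_simp, map_add, map_add, b1, b2] at d
    simp [a, b, he] at d ⊢
    field_simp at d ⊢
    exact mul_left_cancel₀ (mul_ne_zero (mul_ne_zero u0 u1) e0) (by linear_combination -d)
  obtain ⟨t', ht', et⟩ := h.onto μ
  refine ⟨_, mul_mem (mul_mem (h.syl.le ht') k0) (h.syl.le ht'), fun v => ?_⟩
  have b4 : ∀ v, ρ (g * t * g⁻¹) v = tk μ⁻¹ v := fun v => by
    rw [show v = vc v.c v.hc + vu v.u + vz v.z v.hz by ext <;> simp, map_add, map_add, b1, b2, b3, tk_add, tk_add]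
  rw [r.mul3 (h.syl.le ht') k0 (h.syl.le ht'), et, et, b4]
  ext <;> simp <;> field_simp <;> ring

end Jt

end CF.FusV
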