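import Cfsg.Agent.FusV.D

/-! Groups acting on a four-dimensional symplectic space with a short root subgroup as a Sylow subgroup. -/

set_option autoImplicit false
set_option linter.style.haveILetI false

namespace CF.FusV

open Subgroup CF.Fus CF.FusD Function
open CF.FusU (Uf exists_sk exists_sk_eq eq_zero_of_real exists_tr)

variable {K : Type*} [Field K] [StarRing K] {a b c d s u ε κ : K} {v w : K × K}

/-- the unipotent group -/
def tq (c : K) (v : K × K) : K × K := (v.1, v.2 + c * v.1)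
/-- the alternating form -/
def om (v w : K × K) : K := v.1 * star w.2 + v.2 * star w.1 - (w.1 * star v.2 + w.2 * star v.1)
/-- the quadratic form in characteristic two -/
def qf (v : K × K) : K := v.1 * star v.2 + star v.1 * v.2
/-- the fixed plane -/
abbrev sW (K : Type*) [Field K] : AddSubgroup (K × K) := (AddMonoidHom.fst K K).ker

theorem mem_sW : v ∈ sW K ↔ v.1 = 0 := Iff.rfl
theorem eq_sW (h : v.1 = 0) : v = (0, v.2) := Prod.ext h rfl
theorem tq_sW (h : v.1 = 0) : tq c v = v := Prod.ext rfl (by simp [tq, h])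
theorem tq0 (c u : K) : tq c (0, u) = (0, u) := tq_sW rfl
theorem p_smul2 {p : ℕ} [CharP K p] (v : K × K) : p • v = 0 := by
  rw [← Nat.cast_smul_eq_nsmul K, CharP.cast_eq_zero, zero_smul]

theorem om_nd [Uf K] (h : ∀ w, om v w = 0) : v = 0 :=
  Prod.ext (eq_zero_of_real fun t => by simpa [om, sub_eq_zero] using h (0, t))
    (eq_zero_of_real fun t => by simpa [om, sub_eq_zero] using h (t, 0))

/-- the orthogonal complement of a vector -/
def prp (w : K × K) : AddSubgroup (K × K) where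
  carrier := {v | om v w = 0}
  zero_mem' := by simp [om]
  add_mem' := fun {u v} h k => by simp only [Set.mem_ofPred_eq, om, Prod.fst_add, Prod.snd_add, star_add] at *; linear_combination h + k
  neg_mem' := fun {v} h => by simp only [Set.mem_ofPred_eq, om, Prod.fst_neg, Prod.snd_neg, star_neg] at *; linear_combination -h

/-- the line spanned by a vector -/
def lne (w : K × K) : AddSubgroup (K × K) where
  carrier := {v | ∃ l : K, star l = l ∧ v = l • w}
  zero_mem' := ⟨0, star_zero _, by simp⟩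
  add_mem' := by rintro _ _ ⟨l, h, rfl⟩ ⟨m, k, rfl⟩; exact ⟨l + m, by simp [h, k], (add_smul ..).symm⟩
  neg_mem' := by rintro _ ⟨l, h, rfl⟩; exact ⟨-l, by simp [h], (neg_smul ..).symm⟩

theorem lne_le : lne w ≤ prp w := by
  rintro _ ⟨l, h, rfl⟩
  change om _ _ = 0
  simp [om, h]; ring

theorem exists_lin [Uf K] {f : K → K} (h1 : ∀ s t, f (s + t) = f s + f t) (h2 : ∀ l s, star l = l → f (l * s) = l * f s) :
    ∃ a d, ∀ s, f s = a * s + d * star s := by
  obtain ⟨e, he⟩ := Uf.nr (K := K)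
  have e1 := sub_ne_zero.2 he.symm
  refine ⟨(f e - star e * f 1) / (e - star e), (e * f 1 - f e) / (e - star e), fun s => ?_⟩
  obtain ⟨a, b, a1, b1, rfl⟩ := exists_coord he s
  rw [h1, h2 _ _ b1, ← mul_one a, h2 _ _ a1]
  simp only [star_add, star_mul', a1, b1, star_one]
  field_simp; ring

variable {G : Type*} [Group G] {X T : Subgroup G} {ρ : G → K × K →+ K × K} {p : ℕ} {g k t x n : G}

/-- an action preserving the form, with the unipotent group as a Sylow subgroup -/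
structure Sq (p : ℕ) (X T : Subgroup G) (ρ : G → K × K →+ K × K) : Prop where
  rp : Rp X ρ
  syl : SylIn p T X
  ker : ∀ x ∈ X, (∀ v, ρ x v = v) → ∃ k, x ^ p ^ k = 1
  act : ∀ t ∈ T, ∃ c, star c = -c ∧ ∀ v, ρ t v = tq c v
  onto : ∀ c, star c = -c → ∃ t ∈ T, ∀ v, ρ t v = tq c v
  inv : ∀ g ∈ X, ∀ v w, om (ρ g v) (ρ g w) = om v w
  quad : (2 : K) = 0 → ∀ g ∈ X, ∀ v, qf (ρ g v) = qf v

/-- the image of the fixed plane is transversal to it -/
def Af (ρ : G → K × K →+ K × K) (g : G) : Prop := ∀ u, (ρ g (0, u)).1 = 0 → u = 0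

/-- the image of the fixed plane is a graph -/
def Gr (ρ : G → K × K →+ K × K) (g : G) (a d : K) : Prop :=
  ∀ u, (ρ g (0, u)).2 = a * (ρ g (0, u)).1 + d * star (ρ g (0, u)).1

namespace Sq

variable (h : Sq p X T ρ)
include h

theorem inv' (hg : g ∈ X) (v w : K × K) : om (ρ g v) w = om v (ρ g⁻¹ w) := by rw [← h.inv g hg v, h.rp.app_inv hg]

theorem fixW (ht : t ∈ T) (hw : w.1 = 0) : ρ t w = w := by
  obtain ⟨c, -, e⟩ := h.act t ht
  rw [e, tq_sW hw]

theorem subW (ht : t ∈ T) (v : K × K) : (ρ t v - v).1 = 0 := by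
  obtain ⟨c, -, e⟩ := h.act t ht
  simp [e, tq]

theorem chn : T ≤ h.rp.chn (sW K) (sW K) le_rfl := fun _ ht =>
  ⟨h.syl.le ht, h.subW ht, fun v _ => h.subW ht v, fun _ => h.fixW ht⟩

theorem gr_t (hg : g ∈ X) (ht : t ∈ T) (et : ∀ v, ρ t v = tq c v) (e : Gr ρ g a d) : Gr ρ (t * g) (a + c) d := fun u => by
  simp only [h.rp.mul _ (h.syl.le ht) _ hg, et, tq, e u]; ring

theorem cj (hg : g ∈ X) (ht : t ∈ T) (v : K × K) : ρ (g * t * g⁻¹) v = v + ρ g (ρ t (ρ g⁻¹ v) - ρ g⁻¹ v) := by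
  rw [h.rp.mul3 hg (h.syl.le ht) (inv_mem hg), map_sub, h.rp.app_inv hg, add_sub_cancel]

variable [Uf K]

theorem lin (hg : g ∈ X) (ha : star a = a) (v : K × K) : ρ g (a • v) = a • ρ g v :=
  sub_eq_zero.1 (om_nd fun w => by
    have e : ∀ u v w : K × K, om (u - a • v) w = om u w - a * om v w := fun u v w => by simp [om, ha]; ring
    have := e (a • v) v (ρ g⁻¹ w)
    rw [e, h.inv' hg, h.inv' hg, ← this]
    simp [om])

theorem lin0 (hg : g ∈ X) (ha : star a = a) (u : K) : ρ g (0, a * u) = a • ρ g (0, u) := by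
  rw [← h.lin hg ha]; simp

theorem nW (hg : g ∈ X) (hn : g ∈ normalizer (T : Set G)) (hw : w.1 = 0) : (ρ g w).1 = 0 := by
  obtain ⟨c, c0, hc⟩ := exists_sk (K := K)
  obtain ⟨t, ht, e⟩ := h.onto c hc
  have := h.fixW (conj_mem_of_norm' hn ht) hw
  rw [h.rp.mul3 (inv_mem hg) (h.syl.le ht) hg, e] at this
  simpa [h.rp.app_inv hg, tq, c0] using congrArg (fun v => (ρ g v).2) this

omit h in
theorem _root_.CF.FusV.Af.onto (e : Af ρ g) (s : K) : ∃ u, (ρ g (0, u)).1 = s :=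
  (Finite.injective_iff_surjective (f := fun u => (ρ g (0, u)).1)).1 (fun u u' q => sub_eq_zero.1 (e _ (by
    rw [show ((0, u - u') : K × K) = (0, u) - (0, u') by simp, map_sub]; exact sub_eq_zero.2 q))) s

theorem graph (hg : g ∈ X) (e : Af ρ g) : ∃ a d, star a = -a ∧ Gr ρ g a d := by
  choose ω hω using e.onto
  have k : ∀ u, ω (ρ g (0, u)).1 = u := fun u => sub_eq_zero.1 (e _ (by
    rw [show ((0, ω (ρ g (0, u)).1 - u) : K × K) = (0, ω (ρ g (0, u)).1) - (0, u) by simp, map_sub, Prod.fst_sub, hω,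
      sub_self]))
  obtain ⟨a, d, e1⟩ := exists_lin (f := fun s => (ρ g (0, ω s)).2) (fun s t => by
    have := map_add (ρ g) (0, ω s) (0, ω t)
    rw [Prod.mk_add_mk, add_zero] at this
    rw [← Prod.snd_add, ← this, ← k (ω s + ω t), this, Prod.fst_add, hω, hω]) fun l s hl => by
      rw [← smul_eq_mul l (ρ g _).2, ← Prod.smul_snd, ← h.lin0 hg hl, ← k (l * ω s), h.lin0 hg hl, Prod.smul_fst, hω,
        smul_eq_mul]
  refine ⟨a, d, eq_neg_of_add_eq_zero_left (by_contra fun n => ?_), fun u => by simpa [k] using e1 (ρ g (0, u)).1⟩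
  refine one_ne_zero (eq_zero_of_real (K := K) fun s => ?_)
  have := h.inv g hg (0, ω 1) (0, ω s)
  simp only [om, e1, hω, star_add, star_mul', star_star, star_one, star_zero] at this
  exact mul_left_cancel₀ n (by rw [star_one]; linear_combination this)

variable [Finite X] [CharP K p]

omit [Uf K] in
theorem norm (hg : g ∈ X) (h1 : ∀ u, (ρ g (0, u)).1 = 0) : g ∈ normalizer (T : Set G) :=
  have a : ∀ v ∈ sW K, ρ g v ∈ sW K := fun v hv => by rw [eq_sW hv]; exact h1 _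
  h.rp.norm_of_chn h.syl p_smul2 h.ker _ h.chn hg a a

omit [Uf K] in
theorem mem_T (hg : g ∈ X) (h1 : ∀ v, (ρ g v).1 = v.1) (h2 : ∀ u, ρ g (0, u) = (0, u)) : g ∈ T :=
  h.rp.mem_of_chn h.syl p_smul2 h.ker _ h.chn ⟨hg, fun v => sub_eq_zero.2 (h1 v), fun v _ => sub_eq_zero.2 (h1 v),
    fun v hv => by rw [eq_sW hv, h2]⟩

theorem norm_gr (hg : g ∈ X) (hx : x ∈ X) (e : Af ρ g) (e1 : Gr ρ g a d) (e2 : Gr ρ x a d) :
    g⁻¹ * x ∈ normalizer (T : Set G) := h.norm (mul_mem (inv_mem hg) hx) fun u => by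
  obtain ⟨u', q⟩ := e.onto (ρ x (0, u)).1
  rw [h.rp.mul _ (inv_mem hg) _ hx, show ρ x (0, u) = ρ g (0, u') from Prod.ext q.symm (by rw [e1, e2, q]),
    h.rp.inv_app hg]

theorem af_two (h2 : (2 : K) = 0) (hg : g ∈ X) (gn : g ∉ normalizer (T : Set G)) : Af ρ g := fun u e => by_contra fun u0 => by
  have r := h.rp
  have k : ∀ w : K × K, w.1 = 0 → w.2 ≠ 0 → T ≤ r.chn (lne w) (prp w) lne_le := fun w w1 w2 t ht => by
    obtain ⟨c, hc, et⟩ := h.act t ht
    have w3 := star_ne_zero.2 w2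
    refine ⟨h.syl.le ht, fun v => show om _ _ = 0 by simp [om, et, tq, w1], fun v hv => ⟨c * v.1 / w.2, ?_, ?_⟩, ?_⟩
    · have : om v w = 0 := hv
      simp only [om, w1, star_zero] at this
      simp only [star_div₀, star_mul', hc]
      field_simp
      linear_combination -c * this - c * star v.1 * w.2 * h2
    · exact Prod.ext (by simp [et, tq, w1]) (by simp [et, tq, w2])
    · rintro _ ⟨l, -, rfl⟩
      exact h.fixW ht (by simp [w1])
  have w2 : (ρ g (0, u)).2 ≠ 0 := fun c => u0 (congrArg Prod.snd (r.inj hg ((Prod.ext e c).trans (map_zero _).symm)))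
  refine gn (mem_normalizer_of_le h.syl.le fun t ht => r.mem_of_chn h.syl p_smul2 h.ker _ (k _ e w2) ?_)
  obtain ⟨t0, a1, a2, a3⟩ := k (0, u) rfl u0 ht
  refine ⟨mul_mem (mul_mem hg t0) (inv_mem hg), fun v => ?_, fun v hv => ?_, ?_⟩
  · rw [h.cj hg ht, add_sub_cancel_left]
    exact (h.inv g hg _ _).trans (a1 _)
  · obtain ⟨l, hl, q⟩ := a2 (ρ g⁻¹ v) (by rw [← h.inv g hg, r.app_inv hg]; exact hv : om (ρ g⁻¹ v) (0, u) = 0)
    exact ⟨l, hl, by rw [h.cj hg ht, add_sub_cancel_left, q, h.lin hg hl]⟩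
  · rintro _ ⟨l, hl, rfl⟩
    rw [h.cj hg ht, ← h.lin hg hl, r.inv_app hg, a3 _ ⟨l, hl, rfl⟩, sub_self, map_zero, add_zero]

omit [Finite X] [CharP K p] in
theorem d_two (h2 : (2 : K) = 0) (hg : g ∈ X) (e : Af ρ g) (ha : star a = -a) (e1 : Gr ρ g a d) : d = 0 := by
  have k : ∀ s : K, s ^ 2 * star d + star (s ^ 2) * d = 0 := fun s => by
    obtain ⟨u, rfl⟩ := e.onto s
    have := h.quad h2 g hg (0, u)
    simp only [qf, e1 u, star_add, star_mul', star_star, star_zero, star_pow, ha] at this ⊢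
    linear_combination this
  refine eq_zero_of_real fun t => ?_
  obtain ⟨s, rfl⟩ := (Finite.injective_iff_surjective (f := fun s : K => s ^ 2)).1 (fun s s' q =>
    sub_eq_zero.1 (pow_eq_zero_iff two_ne_zero |>.1 (by linear_combination q - (s * s' - s' ^ 2) * h2))) t
  linear_combination k s - s ^ 2 * star d * h2

omit [Finite X] [CharP K p] in
theorem coll (h2 : (2 : K) ≠ 0) (hg : g ∈ X) (h1 : ¬ ∀ u, (ρ g (0, u)).1 = 0) (e : ¬ Af ρ g) :
    ∃ t ∈ T, ∃ u1 u2 w, w ≠ 0 ∧ ρ (t * g) (0, u1) = (0, w) ∧ ρ (t * g) (0, u2) = (w, 0) := by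
  have r := h.rp
  obtain ⟨u1, e1, u0⟩ : ∃ u, (ρ g (0, u)).1 = 0 ∧ u ≠ 0 := by simpa [Af] using e
  obtain ⟨u2, e2⟩ := not_forall.1 h1
  have w2 : (ρ g (0, u1)).2 ≠ 0 := fun c => u0 (congrArg Prod.snd (r.inj hg ((Prod.ext e1 c).trans (map_zero _).symm)))
  have a := h.inv g hg (0, u2) (0, u1)
  obtain ⟨w, e3⟩ : ∃ w, ρ g (0, u1) = (0, w) := ⟨_, eq_sW e1⟩
  obtain ⟨s, y, e4⟩ : ∃ s y, ρ g (0, u2) = (s, y) := ⟨_, _, rfl⟩
  simp only [e3, e4, om, star_zero] at e2 w2 a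
  have w3 := star_ne_zero.2 w2
  have s1 := star_ne_zero.2 e2
  obtain ⟨t, ht, et⟩ := h.onto ((star y / star s - y / s) / 2) (by simp; ring)
  have l1 : star (w / s) = w / s := by rw [star_div₀]; field_simp; linear_combination a
  have l2 : star (-(star y / star s + y / s) / 2) = -(star y / star s + y / s) / 2 := by simp; ring
  refine ⟨t, ht, u1, w / s * u2 + -(star y / star s + y / s) / 2 * u1, w, w2, ?_, ?_⟩ <;>
    rw [r.mul _ (h.syl.le ht) _ hg, et]
  · simp [e3, tq]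
  rw [show ((0, w / s * u2 + -(star y / star s + y / s) / 2 * u1) : K × K) =
    (0, w / s * u2) + (0, -(star y / star s + y / s) / 2 * u1) by simp, map_add, h.lin0 hg l1, h.lin0 hg l2, e3, e4]
  refine Prod.ext ?_ ?_ <;> simp [tq] <;> field_simp
  ring

theorem af_odd (h2 : (2 : K) ≠ 0) (hN : ∀ k ∈ X, k ∈ normalizer (T : Set G) →
    ∃ (γ : K) (τ : K ≃+* K), ∀ u, ρ k (0, u) = (0, γ * τ u)) (k1 : star κ = κ) (k2 : κ ≠ 0) (k3 : κ ^ 2 ≠ 1)
    (hg : g ∈ X) (gn : g ∉ normalizer (T : Set G)) : Af ρ g := by_contra fun e => by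
  have r := h.rp
  obtain ⟨t, ht, u1, u2, w, w0, e1, e2⟩ := h.coll h2 hg (mt (h.norm hg) gn) e
  have g0 := mul_mem (h.syl.le ht) hg
  generalize t * g = g at g0 e1 e2
  obtain ⟨ε, e0, he⟩ := exists_sk (K := K)
  have w1 := star_ne_zero.2 w0
  have u0 : u1 ≠ 0 := fun c => w0 (by simpa [c, show ((0, 0) : K × K) = 0 from rfl, eq_comm] using congrArg Prod.snd e1)
  have u3 := star_ne_zero.2 u0
  have nr : star (u2 / u1) ≠ u2 / u1 := fun c => w0 (by
    simpa [u0, e1, e2] using congrArg Prod.fst (h.lin0 g0 c u1))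
  have L : ∀ u, ∃ a b, star a = a ∧ star b = b ∧ u = a * u1 + b * u2 ∧ ρ g (0, u) = (b * w, a * w) := fun u => by
    obtain ⟨a, b, a1, b1, q⟩ := exists_coord nr (u / u1)
    have q1 : u = a * u1 + b * u2 := by field_simp at q; linear_combination q
    refine ⟨a, b, a1, b1, q1, ?_⟩
    rw [q1, show ((0, a * u1 + b * u2) : K × K) = (0, a * u1) + (0, b * u2) by simp, map_add, h.lin0 g0 a1, h.lin0 g0 b1,
      e1, e2]
    simp
  have rs : ∀ a : K, star a = a → star a = -a → a = 0 := fun a h h' =>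
    (mul_eq_zero.1 (show 2 * a = 0 by linear_combination h' - h)).resolve_left h2
  obtain ⟨s, y, e3⟩ : ∃ s y, ρ g⁻¹ (0, ε * w) = (s, y) := ⟨_, _, rfl⟩
  have s0 : s ≠ 0 := fun c => by
    obtain ⟨a, b, a1, -, -, q⟩ := L y
    rw [← c, ← e3, r.app_inv g0] at q
    exact e0 (rs ε (by rw [mul_right_cancel₀ w0 (congrArg Prod.snd q), a1]) he)
  have s1 : star (s / u1) = s / u1 := by
    have := h.inv' (inv_mem g0) (0, ε * w) (0, u1)
    simp only [inv_inv, e1, e3, om, star_zero] at this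
    rw [star_div₀]; field_simp; linear_combination -this
  obtain ⟨a, b, a1, b1, q1, q2⟩ := L (ε * u1)
  have b0 : b ≠ 0 := fun c => e0 (rs ε (by rw [mul_right_cancel₀ u0 (show ε * u1 = a * u1 by simpa [c] using q1), a1]) he)
  have A : ∀ κ : K, star κ = κ → κ ≠ 0 → ∃ n ∈ X, ρ n (0, w) = (0, w) ∧ ρ n (w, 0) = (0, (κ * ε - a / b) * w) ∧
      ρ n (0, ε * w) = (-κ⁻¹ * w, -(a / b / κ) * w) := fun κ k1 k2 => by
    obtain ⟨t, ht, et⟩ := h.onto (κ * ε) (by simp [k1, he])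
    have l1 : star (-(κ * (s / u1) * b)⁻¹) = -(κ * (s / u1) * b)⁻¹ := by rw [star_neg, star_inv₀, star_mul', star_mul', k1, s1, b1]
    obtain ⟨t', ht', et'⟩ := h.onto (-(κ * (s / u1) * b)⁻¹ * ε) (by rw [star_mul', l1, he]; ring)
    have t0 := h.syl.le ht
    have x0 := mul_mem (mul_mem g0 (h.syl.le ht')) (inv_mem g0)
    have f1 : ∀ u, ρ (g * t' * g⁻¹) (ρ g (0, u)) = ρ g (0, u) := fun u => by
      rw [h.cj g0 ht', r.inv_app g0, h.fixW ht' rfl, sub_self, map_zero, add_zero]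
    have f2 : ρ (g * t' * g⁻¹) (0, ε * w) = (-κ⁻¹ * w, ε * w - a / b / κ * w) := by
      rw [h.cj g0 ht', e3, et', show tq (-(κ * (s / u1) * b)⁻¹ * ε) (s, y) - (s, y) = (0, -(κ * b)⁻¹ * (ε * u1)) from
        Prod.ext (by simp [tq]) (by simp [tq]; field_simp), h.lin0 g0 (by simp [k1, b1]), q2]
      refine Prod.ext ?_ ?_ <;> simp <;> field_simp <;> ring
    refine ⟨_, mul_mem (mul_mem t0 x0) t0, ?_, ?_, ?_⟩ <;> rw [r.mul3 t0 x0 t0, et, et]
    · rw [tq0, ← e1, f1, e1, tq0]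
    · rw [show tq (κ * ε) (w, 0) = ρ g (0, u2) + κ • (0, ε * w) by simp [tq, e2, mul_assoc], map_add, f1, h.lin x0 k1, f2,
        e2]
      refine Prod.ext ?_ ?_ <;> simp [tq] <;> field_simp <;> ring
    · rw [tq0, f2]
      refine Prod.ext ?_ ?_ <;> simp [tq] <;> field_simp <;> ring
  obtain ⟨n, n0, n1, n2, -⟩ := A κ k1 k2
  obtain ⟨m, m0, m1, -, m3⟩ := A 1 (star_one _) one_ne_zero
  have x0 := mul_mem n0 m0
  have ab : star (a / b) = a / b := by simp [a1, b1]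
  have c1 : ρ (n * m) (0, w) = (0, w) := by rw [r.mul _ n0 _ m0, m1, n1]
  have c2 : ρ (n * m) (0, ε * w) = (0, -(κ * ε) * w) := by
    rw [r.mul _ n0 _ m0, m3, show ((-1⁻¹ * w, -(a / b / 1) * w) : K × K) = -(w, 0) - (0, a / b * w) by simp, map_sub,
      map_neg, h.lin0 n0 ab, n1, n2]
    refine Prod.ext ?_ ?_ <;> simp <;> ring
  obtain ⟨γ, τ, q⟩ := hN _ x0 (h.norm x0 fun u => by
    obtain ⟨a, b, a1, b1, q⟩ := exists_coord (s := ε) (fun c => e0 (rs ε c he)) (u / w)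
    rw [show ((0, u) : K × K) = (0, a * w) + (0, b * (ε * w)) from Prod.ext (by simp) (by
      field_simp at q; simp only [Prod.snd_add]; linear_combination q), map_add, h.lin0 x0 a1, h.lin0 x0 b1, c1, c2]
    simp)
  have d1 := congrArg Prod.snd ((q w).symm.trans c1)
  have d2 := congrArg Prod.snd ((q _).symm.trans c2)
  have d3 := congrArg Prod.snd ((q _).symm.trans (h.lin0 x0 (a := ε * ε) (by simp [he]) w))
  simp only [map_mul, c1, Prod.smul_snd, smul_eq_mul] at d1 d2 d3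
  have d4 : τ ε = -(κ * ε) := mul_right_cancel₀ w0 (by linear_combination d2 - τ ε * d1)
  rw [d4] at d3
  exact k3 (mul_right_cancel₀ (mul_ne_zero (mul_ne_zero e0 e0) w0) (by linear_combination d3 - (κ * ε) ^ 2 * d1))

theorem d_big {q : ℕ} (hq : Nat.card K = q ^ 2) (hs : ∀ x : K, star x = x ^ q) (h5 : 5 ≤ q) (ho : Odd q)
    (af : ∀ g ∈ X, g ∉ normalizer (T : Set G) → Af ρ g) (hH : ∀ μ : K, μ ≠ 0 → ∀ g ∈ X, ∃ g' ∈ X,
      ∀ v : K × K, ρ g' (μ ^ 2 * v.1, μ / star μ * v.2) = (μ ^ 2 * (ρ g v).1, μ / star μ * (ρ g v).2))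
    (hg : g ∈ X) (gn : g ∉ normalizer (T : Set G)) (ha : star a = -a) (e : Gr ρ g a d) : d = 0 := by_contra fun d0 => by
  have r := h.rp
  obtain ⟨ε, e0, he⟩ := exists_sk (K := K)
  have k : ∀ μ : Kˣ, ∀ c, star c = -c → ∃ x ∈ X, Af ρ x ∧ Gr ρ x c (μ / star (μ : K) ^ 3 * d) := fun μ c hc => by
    obtain ⟨x, hx, q⟩ := hH μ μ.ne_zero g hg
    have m0 := μ.ne_zero
    have m1 := star_ne_zero.2 m0
    generalize (μ : K) = μ at q m0 m1 ⊢
    have q1 : ∀ u, ρ x (0, u) = (μ ^ 2 * (ρ g (0, star μ / μ * u)).1, μ / star μ * (ρ g (0, star μ / μ * u)).2) :=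
      fun u => by rw [← q]; congr 2 <;> simp; field_simp
    obtain ⟨t, ht, et⟩ := h.onto (c - a / (μ * star (μ : K))) (by simp [hc, ha]; ring)
    have := h.gr_t hx ht et (a := a / (μ * star (μ : K))) (d := μ / star (μ : K) ^ 3 * d) fun u => by
      simp only [q1, e _, star_mul', star_pow]; field_simp
    refine ⟨_, mul_mem (h.syl.le ht) hx, fun u c => ?_, by simpa using this⟩
    simpa [m0, m1] using af g hg gn (star μ / μ * u) (by simpa [r.mul _ (h.syl.le ht) _ hx, et, tq, q1, m0] using c)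
  let f : Kˣ →* Kˣ := MonoidHom.mk' (fun μ => μ / star μ ^ 3) fun μ ν => by rw [star_mul', mul_pow, mul_div_mul_comm]
  have f1 : ∀ μ : Kˣ, (f μ : K) = μ / star (μ : K) ^ 3 := fun μ => by simp [f]
  have i : Nat.card f.range ≤ Nat.card (skewAdjoint K) := Nat.card_le_card_of_injective
    (fun ν => ⟨ε * ((ν.1 : K) * d + star ((ν.1 : K) * d)), by simp [skewAdjoint.mem_iff, he, add_comm]⟩) (by
      rintro ⟨_, μ, rfl⟩ ⟨_, ν, rfl⟩ q
      have q1 := mul_left_cancel₀ e0 (congrArg Subtype.val q)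
      obtain ⟨x, hx, x1, x2⟩ := k μ 0 (by simp)
      obtain ⟨y, hy, y1, y2⟩ := k ν (f μ * d - f ν * d) (by rw [star_sub]; linear_combination q1)
      rw [← f1] at x2 y2
      obtain ⟨u, e1⟩ := x1.onto 1
      obtain ⟨u', e2⟩ := y1.onto 1
      have n : x⁻¹ * y ∈ normalizer (T : Set G) := by_contra fun n => by
        have := af _ (mul_mem (inv_mem hx) hy) n u' (by
          rw [r.mul _ (inv_mem hx) _ hy, show ρ y (0, u') = ρ x (0, u) from Prod.ext (e2.trans e1.symm) (by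
            rw [x2, y2, e1, e2, star_one]; ring), r.inv_app hx])
        simp [this, show ((0, 0) : K × K) = 0 from rfl] at e2
      obtain ⟨θ, hθ⟩ := Uf.nr (K := K)
      obtain ⟨u, e3⟩ := y1.onto θ
      have e4 := h.nW (mul_mem (inv_mem hx) hy) n (w := (0, u)) rfl
      have e5 := x2 (ρ (x⁻¹ * y) (0, u)).2
      rw [← eq_sW e4, ← r.mul _ hx _ (mul_mem (inv_mem hx) hy), mul_inv_cancel_left, y2, e3] at e5
      exact Subtype.ext (Units.ext (mul_right_cancel₀ (mul_ne_zero d0 (sub_ne_zero.2 hθ)) (by linear_combination -e5))))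
  have j : ∀ n, 0 < n → (∀ μ ∈ f.ker, μ ^ n = 1) → q ^ 2 ≤ q * n + 1 := fun n n0 hn => by
    haveI := Fintype.ofFinite K
    haveI : NeZero n := ⟨n0.ne'⟩
    have a1 : Nat.card f.ker ≤ n := (card_le_of_le (K := rootsOfUnity n K) hn).trans (card_rootsOfUnity K n)
    have a2 : Nat.card (skewAdjoint K) = q := (pow_left_inj₀ (Nat.zero_le _) (Nat.zero_le _) two_ne_zero).1
      ((card_sk (K := K)).symm.trans hq)
    have a3 := f.ker.card_mul_index
    rw [index_ker, Nat.card_units, hq] at a3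
    have := Nat.mul_le_mul a1 (a2 ▸ i)
    rw [a3, mul_comm] at this
    omega
  have k8 : ∀ μ ∈ f.ker, μ ^ (3 * q) = μ ∧ μ ^ 8 = 1 := fun μ hμ => by
    have a1 : (μ : K) = star (μ : K) ^ 3 := by
      have := congrArg Units.val hμ
      rwa [f1, Units.val_one, div_eq_one_iff_eq (pow_ne_zero 3 (star_ne_zero.2 μ.ne_zero))] at this
    have a2 := congrArg star a1
    rw [star_pow, star_star] at a2
    refine ⟨Units.ext (by rw [Units.val_pow_eq_pow_val, mul_comm, pow_mul, ← hs, ← a1]), Units.ext ?_⟩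
    rw [a2] at a1
    exact mul_left_cancel₀ μ.ne_zero (by push_cast; linear_combination -a1)
  by_cases h9 : 9 ≤ q
  · nlinarith [j 8 (by decide) fun μ hμ => (k8 μ hμ).2]
  have : q = 5 ∨ q = 7 := by obtain ⟨m, rfl⟩ := ho; omega
  refine absurd (j 4 (by decide) fun μ hμ => ?_) (by rcases this with rfl | rfl <;> decide)
  obtain ⟨a1, a2⟩ := k8 μ hμ
  rcases this with rfl | rfl
  · calc μ ^ 4 = (μ ^ 8) ^ 4 * (μ ^ (3 * 5) * μ⁻¹)⁻¹ ^ 2 := by group
      _ = 1 := by simp [a1, a2]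
  · calc μ ^ 4 = μ ^ (3 * 7) * μ⁻¹ * (μ ^ 8)⁻¹ ^ 2 := by group
      _ = 1 := by simp [a1, a2]

variable (st : ∀ g ∈ X, g ∉ normalizer (T : Set G) → Af ρ g ∧ ∃ a, star a = -a ∧ Gr ρ g a 0)
include st

theorem dec (hg : g ∈ X) (gn : g ∉ normalizer (T : Set G)) (hx : x ∈ X) (xn : x ∉ normalizer (T : Set G)) :
    ∃ t ∈ T, g⁻¹ * t * x ∈ normalizer (T : Set G) := by
  obtain ⟨e, a, a1, a2⟩ := st g hg gn
  obtain ⟨-, b, b1, b2⟩ := st x hx xn
  obtain ⟨t, ht, et⟩ := h.onto (a - b) (by simp [a1, b1]; ring)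
  exact ⟨t, ht, mul_assoc g⁻¹ t x ▸ h.norm_gr hg (mul_mem (h.syl.le ht) hx) e a2 (by simpa using h.gr_t hx ht et b2)⟩

theorem mono (hn : ¬ X ≤ normalizer (T : Set G)) (e0 : ε ≠ 0) (he : star ε = -ε) :
    ∃ m ∈ X, ∀ v, ρ m v = (ε * v.2, -(v.1 / ε)) := by
  have r := h.rp
  obtain ⟨g, hg, gn, e⟩ : ∃ g ∈ X, g ∉ normalizer (T : Set G) ∧ ∀ u, (ρ g (0, u)).2 = 0 := by
    obtain ⟨g, hg, gn⟩ := SetLike.not_le_iff_exists.1 hn
    obtain ⟨-, a, a1, a2⟩ := st g hg gn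
    obtain ⟨t, ht, et⟩ := h.onto (-a) (by simp [a1])
    exact ⟨_, mul_mem (h.syl.le ht) hg, fun n => gn (by simpa using mul_mem (inv_mem (le_normalizer ht)) n),
      fun u => by simpa using h.gr_t hg ht et a2 u⟩
  have af := (st g hg gn).1
  obtain ⟨t, ht, et⟩ := h.onto ε⁻¹ (by simp [he])
  have t0 := h.syl.le ht
  have x0 := mul_mem (mul_mem (inv_mem hg) t0) hg
  obtain ⟨t', ht', n⟩ := h.dec st (inv_mem hg) (by simpa using gn) x0 fun n => by
    obtain ⟨u, q⟩ := af.onto 1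
    have a := e (ρ (g⁻¹ * t * g) (0, u)).2
    rw [← eq_sW (h.nW x0 n rfl), r.mul3 (inv_mem hg) t0 hg, r.app_inv hg, et] at a
    simp [tq, e, q, e0] at a
  have t1 := h.syl.le ht'
  have n0 := mul_mem (mul_mem (inv_mem (inv_mem hg)) t1) x0
  have k0 := mul_mem (mul_mem hg (inv_mem t1)) (inv_mem hg)
  have a1 : ∀ v, (ρ (g * t'⁻¹ * g⁻¹) v).2 = v.2 := fun v => by
    rw [h.cj hg (inv_mem ht'), Prod.snd_add, eq_sW (h.subW (inv_mem ht') _), e, add_zero]
  have a2 : ∀ v, ρ (g * t'⁻¹ * g⁻¹) v = (v.1 + ε * v.2, v.2) := fun v => by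
    obtain ⟨u, q⟩ := af.onto v.1
    have b1 : ρ (g * t'⁻¹ * g⁻¹) (v.1, 0) = (v.1, 0) := by
      rw [show (v.1, 0) = ρ g (0, u) from Prod.ext q.symm (e u).symm, h.cj hg (inv_mem ht'), r.inv_app hg,
        h.fixW (inv_mem ht') rfl, sub_self, map_zero, add_zero]
    have b2 := a1 (0, v.2)
    have b3 : ρ (g * t'⁻¹ * g⁻¹) (0, v.2) = tq ε⁻¹ (ρ g (ρ (g⁻¹⁻¹ * t' * (g⁻¹ * t * g))⁻¹ (0, v.2))) := by
      rw [← et, ← r.mul3 t0 hg (inv_mem n0)]; congr 2; group
    rw [eq_sW (h.nW (inv_mem n0) (inv_mem n) rfl)] at b3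
    rw [show v = (v.1, 0) + (0, v.2) by simp, map_add, b1]
    refine Prod.ext ?_ (by simpa using b2)
    rw [b3] at b2 ⊢
    simp only [tq, e, Prod.fst_add, Prod.snd_add] at b2 ⊢
    field_simp at b2
    linear_combination b2
  refine ⟨_, mul_mem (mul_mem (inv_mem t0) k0) (inv_mem t0), fun v => ?_⟩
  have b : ∀ v, ρ t⁻¹ v = tq (-ε⁻¹) v := fun v => r.inj t0 (by rw [r.app_inv t0, et]; simp [tq])
  rw [r.mul3 (inv_mem t0) k0 (inv_mem t0), b, b, a2]
  refine Prod.ext ?_ ?_ <;> simp [tq] <;> field_simp <;> ring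

end Sq

end CF.FusV
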