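import Cfsg.Agent.FusV.A
import Cfsg.Agent.Chev.LTU
import Cfsg.Agent.Geom.Perfect

/-! The special unitary group `SU₄(q)`, its Sylow `p`-subgroup and the generic witnesses. -/

set_option autoImplicit false
set_option linter.style.haveILetI false

namespace CF.FusV

open Cfsg Subgroup CF.Fus CF.FusD Function Sv Matrix CF.Chev
open CF.FusU (Uf exists_theta exists_sk)

universe u

namespace Gn

variable {K : Type*} [Field K] [StarRing K] {x y : Sv K}

/-- the special unitary group for the antidiagonal form -/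
def G4 (K : Type*) [Field K] [StarRing K] : Subgroup (SpecialLinearGroup (Fin 4) K) :=
  (suσ 4 (starRingEnd K)).eqLocus (MonoidHom.id _)

/-- the matrix of an element -/
def mt4 (g : G4 K) : Matrix (Fin 4) (Fin 4) K := g.1.1

theorem mt4_mul (g h : G4 K) : mt4 (g * h) = mt4 g * mt4 h := rfl
theorem mt4_ext {g h : G4 K} (e : mt4 g = mt4 h) : g = h := Subtype.ext (Subtype.ext e)
theorem mt4_det (g : G4 K) : (mt4 g).det = 1 := g.1.2
theorem mt4_un (g : G4 K) : ((mt4 g).map (starRingEnd K))ᵀ * revM 4 K * mt4 g = revM 4 K :=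
  suσ_eq_iff.1 g.2

/-- elements from matrices -/
def mk4 (A : Matrix (Fin 4) (Fin 4) K) (h1 : A.det = 1) (h2 : (A.map (starRingEnd K))ᵀ * revM 4 K * A = revM 4 K) :
    G4 K := ⟨⟨A, h1⟩, suσ_eq_iff.2 h2⟩

theorem un_iff {A : Matrix (Fin 4) (Fin 4) K} : (A.map (starRingEnd K))ᵀ * revM 4 K * A = revM 4 K ↔ ∀ i j,
    star (A 3 i) * A 0 j + star (A 2 i) * A 1 j + star (A 1 i) * A 2 j + star (A 0 i) * A 3 j =
      if j = i.rev then 1 else 0 := by
  simp only [← Matrix.ext_iff, mul_apply (N := A), mul_revM, Fin.sum_univ_four]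
  rfl

/-- the unitriangular matrices -/
def um (x : Sv K) : Matrix (Fin 4) (Fin 4) K :=
  !![1, x.s, x.u, x.z; 0, 1, x.c, -(star x.u + star x.s * x.c); 0, 0, 1, -star x.s; 0, 0, 0, 1]

theorem um_det (x : Sv K) : (um x).det = 1 := by
  rw [det_of_upperTriangular (fun i j h => by fin_cases i <;> fin_cases j <;> first | rfl | exact absurd h (by decide))]
  simp [um, Fin.prod_univ_four]

theorem fa4 {P : Fin 4 → Prop} : (∀ i, P i) ↔ P 0 ∧ P 1 ∧ P 2 ∧ P 3 := by simp [Fin.forall_fin_succ]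

theorem rev4 : (0 : Fin 4).rev = 3 ∧ (1 : Fin 4).rev = 2 ∧ (2 : Fin 4).rev = 1 ∧ (3 : Fin 4).rev = 0 := by decide

theorem um_un (x : Sv K) : ((um x).map (starRingEnd K))ᵀ * revM 4 K * um x = revM 4 K := by
  simp only [un_iff, fa4, rev4, um, of_apply, cons_val', cons_val, cons_val_zero, cons_val_one, cons_val_fin_one]
  simp
  and_intros <;> ring

theorem um_mul (x y : Sv K) : um (x * y) = um x * um y := by
  simp only [← Matrix.ext_iff, fa4, mul_apply, Fin.sum_univ_four, um, of_apply, cons_val', cons_val, cons_val_zero,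
    cons_val_one, cons_val_fin_one]
  simp
  and_intros <;> ring

/-- the embedding of the model -/
def emb (K : Type*) [Field K] [StarRing K] : Sv K →* G4 K :=
  MonoidHom.mk' (fun x => mk4 (um x) (um_det x) (um_un x)) fun x y => mt4_ext (um_mul x y)

theorem mt4_emb (x : Sv K) : mt4 (emb K x) = um x := rfl

theorem emb_inj : Injective (emb K) := fun x y e => by
  have a := fun i j => congrArg (fun g => mt4 g i j) e
  exact Sv.ext (a 0 1) (a 1 2) (a 0 2) (a 0 3)

theorem exists_wj : ∃ w : G4 K, ∀ x ∈ sJ K, w * emb K x * w⁻¹ = emb K (nj x) := by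
  refine ⟨mk4 !![0, 1, 0, 0; -1, 0, 0, 0; 0, 0, 0, -1; 0, 0, 1, 0]
    ((congrArg det (by simp [← Matrix.ext_iff, fa4, diagonal_apply, Equiv.swap_apply_def])).trans ((det_permute
      (Equiv.swap 0 1 * Equiv.swap 2 3) (diagonal ![-1, 1, 1, -1])).trans (by simp [Fin.prod_univ_four])))
    (by simp [un_iff, fa4, rev4]),
    fun x hx => mul_inv_eq_of_eq_mul (mt4_ext ?_)⟩
  rw [mt4_mul, mt4_mul, mt4_emb, mt4_emb]
  simp only [← Matrix.ext_iff, fa4, mul_apply, Fin.sum_univ_four, um, mk4, mt4, of_apply, cons_val', cons_val,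
    cons_val_zero, cons_val_one, cons_val_fin_one]
  simp [mem_sJ.1 hx]

theorem exists_wq {ε : K} (h0 : ε ≠ 0) (h : star ε = -ε) :
    ∃ w : G4 K, ∀ x ∈ sQ K, w * emb K x * w⁻¹ = emb K (nq ε h0 h x) := by
  refine ⟨mk4 !![1, 0, 0, 0; 0, 0, ε⁻¹, 0; 0, -ε, 0, 0; 0, 0, 0, 1]
    ((congrArg det (by simp [← Matrix.ext_iff, fa4, diagonal_apply, Equiv.swap_apply_def])).trans
      ((det_permute (Equiv.swap 1 2) (diagonal ![1, -ε, ε⁻¹, 1])).trans (by simp [Fin.prod_univ_four, h0])))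
    (by simp [un_iff, fa4, rev4, h, h0]),
    fun x hx => mul_inv_eq_of_eq_mul (mt4_ext ?_)⟩
  rw [mt4_mul, mt4_mul, mt4_emb, mt4_emb]
  simp only [← Matrix.ext_iff, fa4, mul_apply, Fin.sum_univ_four, um, mk4, mt4, of_apply, cons_val', cons_val,
    cons_val_zero, cons_val_one, cons_val_fin_one]
  simp [mem_sQ.1 hx, h]
  and_intros <;> field_simp

theorem uni (g : G4 K) (h : ∀ i j, j < i → mt4 g i j = 0) (k : ∀ i, mt4 g i i = 1) : ∃ t, g = emb K t := by
  have h2 := un_iff.1 (mt4_un g)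
  have a := h2 2 2
  have b := h2 1 3
  have c := h2 2 3
  have d := h2 3 3
  simp only [k, h 2 1 (by decide), h 3 1 (by decide), h 3 2 (by decide), rev4, star_zero, star_one] at a b c d
  simp only [Fin.reduceEq, if_false] at a b c d
  have b1 : mt4 g 2 3 = -star (mt4 g 0 1) := by linear_combination b
  have a1 : star (mt4 g 1 2) = -mt4 g 1 2 := by linear_combination a
  have c1 : mt4 g 1 3 = -(star (mt4 g 0 2) + star (mt4 g 0 1) * mt4 g 1 2) := by
    rw [a1, b1] at c; linear_combination c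
  refine ⟨⟨mt4 g 0 1, mt4 g 1 2, mt4 g 0 2, mt4 g 0 3, a1, ?_⟩, mt4_ext ?_⟩
  · simp only [b1, c1, star_neg, star_add, star_mul', star_star, a1] at d
    linear_combination d
  · simp only [← Matrix.ext_iff, fa4, mt4_emb, um, of_apply, cons_val', cons_val, cons_val_zero, cons_val_one,
      cons_val_fin_one, k, b1, c1, true_and, and_true]
    and_intros <;> exact h _ _ (by decide)

theorem tri [Uf K] (g : G4 K) (h : ∀ x, ∃ y, g * emb K x = emb K y * g) : ∃ t d e, d ≠ 0 ∧ e ≠ 0 ∧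
    star (d * e) = d * e ∧ ∀ x, g * emb K x * g⁻¹ = emb K (t * dg (d / e) e 1 x * t⁻¹) := by
  obtain ⟨c, c0, hc⟩ := exists_sk (K := K)
  obtain ⟨y, e⟩ := h ⟨1, c, 0, 0, hc, by simp⟩
  have k : ∀ i j, (mt4 g * um ⟨1, c, 0, 0, hc, by simp⟩) i j = (um y * mt4 g) i j := fun i j => congrArg (fun g => mt4 g i j) e
  have h1 := mt4_det g
  have h2 := un_iff.1 (mt4_un g)
  simp only [fa4, mul_apply, Fin.sum_univ_four, um, of_apply, cons_val', cons_val, cons_val_zero, cons_val_one,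
    cons_val_fin_one, star_one, star_zero] at k
  obtain ⟨-, ⟨-, e11, -⟩, ⟨-, e21, e22, -⟩, ⟨-, e31, e32, e33⟩⟩ := k
  have a30 : mt4 g 3 0 = 0 := by linear_combination e31
  have a31 : mt4 g 3 1 = 0 := by simpa [c0] using e32
  have a32 : mt4 g 3 2 = 0 := by simpa [a31] using e33
  have a20 : mt4 g 2 0 = 0 := by simpa [a31] using e21
  have a21 : mt4 g 2 1 = 0 := by simpa [a32, c0] using e22
  have a10 : mt4 g 1 0 = 0 := by simpa [a21, a31] using e11
  have t : ∀ i j, j < i → mt4 g i j = 0 := fun i j h => by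
    fin_cases i <;> fin_cases j <;> first | assumption | exact absurd h (by decide)
  rw [det_of_upperTriangular t, Fin.prod_univ_four] at h1
  have b1 : star (mt4 g 0 0) * mt4 g 3 3 = 1 := by simpa [a10, a20, a30, rev4] using h2 0 3
  have b2 : star (mt4 g 1 1) * mt4 g 2 2 = 1 := by simpa [a21, a31, a32, rev4] using h2 1 2
  have c0 : mt4 g 0 0 ≠ 0 := by rintro c; simp [c] at h1
  have c1 : mt4 g 1 1 ≠ 0 := by rintro c; simp [c] at h1
  have r : star (mt4 g 0 0 * mt4 g 1 1) = mt4 g 0 0 * mt4 g 1 1 := by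
    rw [star_mul']
    linear_combination -star (mt4 g 0 0) * star (mt4 g 1 1) * h1 +
      mt4 g 0 0 * mt4 g 1 1 * (star (mt4 g 1 1) * mt4 g 2 2 * b1 + b2)
  generalize e0 : mt4 g 0 0 = d at b1 c0 r
  generalize e1 : mt4 g 1 1 = e at b2 c1 r
  have c2 := star_ne_zero.2 c0
  have c3 := star_ne_zero.2 c1
  let D : G4 K := mk4 (diagonal ![d⁻¹, e⁻¹, star e, star d])
    (by rw [det_diagonal, Fin.prod_univ_four]; simp; field_simp; rw [star_mul'] at r; linear_combination r)
    (un_iff.2 (by simp [fa4, rev4, diagonal_apply, c0, c1]))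
  obtain ⟨s, hs⟩ := uni (g * D) (fun i j h => by rw [mt4_mul]; simp [D, mt4, mk4]; exact Or.inl (t i j h)) (by
    simp only [mt4_mul, fa4]
    simp only [D, show ∀ A h1 h2, mt4 (mk4 (K := K) A h1 h2) = A from fun _ _ _ => rfl, mul_diagonal, e0, e1]
    simp [c0, c1, mul_comm, b1, b2])
  refine ⟨s, d, e, c0, c1, r, fun x => ?_⟩
  have : emb K x * D = D * emb K (dg (d / e) e 1 x) := mt4_ext (by
    simp only [mt4_mul, D, show ∀ A h1 h2, mt4 (mk4 (K := K) A h1 h2) = A from fun _ _ _ => rfl, ← Matrix.ext_iff,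
      mul_diagonal, diagonal_mul, fa4, mt4_emb, um, of_apply, cons_val', cons_val, cons_val_zero, cons_val_one,
      cons_val_fin_one]
    simp
    and_intros <;> field_simp)
  rw [map_mul, map_mul, map_inv, ← hs, mul_assoc g D, ← this]
  group

/-- the diagonal entries -/
def dv (α β : K) : Fin 4 → K := ![α * β, β, (star β)⁻¹, (star (α * β))⁻¹]

theorem dv_ne {α β : K} (h1 : α ≠ 0) (h2 : β ≠ 0) : ∀ i, dv α β i ≠ 0 := by simp [fa4, dv, h1, h2]

theorem exists_th [Uf K] {α β : K} (h1 : α ≠ 0) (h2 : β ≠ 0) (τ : K ≃+* K) : ∃ θ : MulAut (G4 K),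
    ∀ g i j, mt4 (θ g) i j = dv α β i * τ (mt4 g i j) * (dv α β j)⁻¹ := by
  haveI := Uf.fin (K := K)
  have n := dv_ne h1 h2
  have a : diagonal (fun j => (dv α β j)⁻¹) * diagonal (dv α β) = 1 := by
    rw [diagonal_mul_diagonal, ← diagonal_one]; congr 1; ext i; exact inv_mul_cancel₀ (n i)
  have b : ∀ A : Matrix (Fin 4) (Fin 4) K, ∀ i j, (diagonal (dv α β) * A.map τ * diagonal fun j => (dv α β j)⁻¹) i j =
      dv α β i * τ (A i j) * (dv α β j)⁻¹ := fun A i j => by rw [mul_diagonal, diagonal_mul]; rfl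
  have c : ∀ i, star (dv α β i) = (dv α β i.rev)⁻¹ := by simp [fa4, dv, rev4]
  let f : G4 K →* G4 K := MonoidHom.mk' (fun g => mk4 (diagonal (dv α β) * (mt4 g).map τ * diagonal fun j => (dv α β j)⁻¹)
    (by rw [det_mul_comm, ← Matrix.mul_assoc, a, Matrix.one_mul, ← τ.coe_toRingHom, ← RingHom.mapMatrix_apply,
      ← RingHom.map_det, mt4_det, map_one]) (un_iff.2 fun i j => by
      have e := congrArg τ (un_iff.1 (mt4_un g) i j)
      simp only [map_add, map_mul, Uf.aut, apply_ite τ, map_one, map_zero] at e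
      have e0 := n 0
      have e1 := n 1
      have e2 := n 2
      have e3 := n 3
      have e5 := n j
      simp only [b, star_mul', star_inv₀, c, rev4, inv_inv]
      split_ifs at e ⊢ with q
      · rw [← q]; field_simp; linear_combination e
      · field_simp; linear_combination dv α β i.rev * e)) fun g h => mt4_ext (by
    change diagonal _ * (mt4 g * mt4 h).map τ * diagonal _ = diagonal _ * _ * diagonal _ * (diagonal _ * _ * diagonal _)
    rw [← τ.coe_toRingHom, Matrix.map_mul]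
    simp only [Matrix.mul_assoc]
    rw [← Matrix.mul_assoc (diagonal fun j => (dv α β j)⁻¹), a, Matrix.one_mul])
  have e : ∀ g i j, mt4 (f g) i j = dv α β i * τ (mt4 g i j) * (dv α β j)⁻¹ := fun g => b _
  refine ⟨MulEquiv.ofBijective f (Finite.injective_iff_bijective.1 fun g h q => mt4_ext (Matrix.ext fun i j => ?_)), e⟩
  simpa [e, n] using congrArg (fun g => mt4 g i j) q

theorem th_emb [Uf K] {α β : K} (h1 : α ≠ 0) (h2 : β ≠ 0) {τ : K ≃+* K} {θ : MulAut (G4 K)}
    (e : ∀ g i j, mt4 (θ g) i j = dv α β i * τ (mt4 g i j) * (dv α β j)⁻¹) (x : Sv K) :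
    θ (emb K x) = emb K (dg α β τ x) := mt4_ext (by
  have := star_ne_zero.2 h1
  have := star_ne_zero.2 h2
  simp only [← Matrix.ext_iff, fa4, e, mt4_emb, um, dv, of_apply, cons_val', cons_val, cons_val_zero, cons_val_one,
    cons_val_fin_one, dg_s, dg_c, dg_u, dg_z, map_add, map_mul, map_neg, map_zero, map_one, Uf.aut,
    star_mul', star_star, mul_zero, zero_mul, true_and]
  and_intros <;> field_simp)

theorem card_Sv' : Nat.card (Sv K) = Nat.card K ^ 2 * Nat.card {c : K // star c = -c} ^ 2 := by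
  rw [Nat.card_congr (show Sv K ≃ K × K × {c : K // star c = -c} × {c : K // star c = -c} from
    ⟨fun x => (x.s, x.u, ⟨x.c, x.hc⟩, ⟨x.z + x.s * star x.u, by simp; ring⟩),
    fun v => ⟨v.1, v.2.2.1, v.2.1, v.2.2.2 - v.1 * star v.2.1, v.2.2.1.2, by simp [v.2.2.2.2]⟩,
      fun x => by ext <;> simp, fun v => by ext <;> simp⟩)]
  simp only [Nat.card_prod]
  ring

theorem syl_emb [Fintype K] {p n : ℕ} [Fact p.Prime] (hn : 1 ≤ n) (hK : Fintype.card K = (p ^ n) ^ 2)
    (hs : ∀ x : K, star x = x ^ p ^ n) : SylIn p (emb K).range ⊤ := by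
  have hp : p.Prime := Fact.out
  obtain ⟨e⟩ := nonempty_SU_equiv (n := 3) (φ := starRingEnd K) hK hs star_star (by decide)
  have a : Nat.card (emb K).range = (p ^ n) ^ 6 := by
    rw [← Nat.card_congr (MonoidHom.ofInjective emb_inj).toEquiv, card_Sv', Nat.card_eq_fintype_card, hK]
    simp only [hs, CF.Geom.card_skew_eq hK]; ring
  refine SylIn.of_not_dvd le_top (IsPGroup.of_card (by rw [a, ← pow_mul])) fun c => ?_
  have b := CF.Geom.card_SU hK 4 (by decide)
  rw [← Nat.card_congr e.toEquiv, show Nat.card (twU (n := 3) (by decide) (starRingEnd K)).Fix = Nat.card (G4 K) from rfl,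
    ← card_mul_index (emb K).range, a, mul_left_comm] at b
  rw [relIndex_top_right] at c
  obtain ⟨i, -, hi⟩ := (Prime.dvd_finset_prod_iff hp.prime _).1
    (Nat.eq_of_mul_eq_mul_left (pow_pos (pow_pos hp.pos n) 6) b ▸ c.mul_left _)
  have d : p ∣ (p ^ n) ^ (i + 1) := (dvd_pow_self p (by omega)).pow (by omega)
  split_ifs at hi
  · exact hp.one_lt.ne' (Nat.dvd_one.1 ((Nat.dvd_add_right d).1 hi))
  · exact hp.one_lt.ne' (Nat.dvd_one.1 ((Nat.dvd_sub_iff_right (Nat.one_le_pow _ _ (pow_pos hp.pos n)) d).1 hi))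

variable [Uf K] {W : K → K → (K ≃+* K) → Prop}

/-- the diagonal and field automorphisms with parameters in `W` -/
def Gm (mul : ∀ a b s c d t, W a b s → W c d t → W (a * s c) (b * s d) (s * t)) (o : W 1 1 1) :
    Submonoid (MulAut (G4 K)) where
  carrier := {θ | ∃ α β τ, α ≠ 0 ∧ β ≠ 0 ∧ W α β τ ∧
    ∀ g i j, mt4 (θ g) i j = dv α β i * τ (mt4 g i j) * (dv α β j)⁻¹}
  one_mem' := ⟨1, 1, 1, one_ne_zero, one_ne_zero, o, fun g => by simp [fa4, dv]⟩
  mul_mem' := by
    rintro θ η ⟨α, β, σ, a0, b0, m, e⟩ ⟨γ, δ, τ, c0, d0, m', e'⟩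
    refine ⟨_, _, _, mul_ne_zero a0 (σ.map_ne_zero_iff.2 c0), mul_ne_zero b0 (σ.map_ne_zero_iff.2 d0),
      mul _ _ _ _ _ _ m m', fun g i j => ?_⟩
    have : ∀ i, dv (α * σ γ) (β * σ δ) i = dv α β i * σ (dv γ δ i) := by
      simp only [fa4, dv, cons_val, cons_val_zero, cons_val_one, map_mul, map_inv₀, Uf.aut, star_mul', mul_inv]
      and_intros <;> first | trivial | ring
    simp only [MulAut.mul_apply, e, e', this, map_mul, map_inv₀, RingAut.mul_apply, mul_inv]
    ring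

/-- the same as a subgroup -/
def Ga (mul : ∀ a b s c d t, W a b s → W c d t → W (a * s c) (b * s d) (s * t)) (o : W 1 1 1) :
    Subgroup (MulAut (G4 K)) :=
  { Gm mul o with
    inv_mem' := fun {θ} h => by
      haveI := Uf.fin (K := K)
      exact Submonoid.powers_le.2 h (mem_powers_iff_mem_zpowers.2 (inv_mem (mem_zpowers θ))) }

theorem Ga_not_dvd {p : ℕ} [Fact p.Prime] (mul : ∀ a b s c d t, W a b s → W c d t → W (a * s c) (b * s d) (s * t))
    (o : W 1 1 1) (hp : ∀ a b t, a ≠ 0 → b ≠ 0 → W a b t → (∀ x, (dg a b t)^[p] x = x) → ∀ x, dg a b t x = x) :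
    ¬ p ∣ Nat.card (Ga mul o) := fun c => by
  haveI := Uf.fin (K := K)
  obtain ⟨⟨θ, α, β, τ, a0, b0, m, e⟩, o⟩ := exists_prime_orderOf_dvd_card' p c
  rw [← orderOf_coe] at o
  have k : ∀ (n : ℕ) x, (θ ^ n) (emb K x) = emb K ((dg α β τ)^[n] x) := fun n x => by
    induction n with
    | zero => simp
    | succ n ih => rw [pow_succ', MulAut.mul_apply, ih, th_emb a0 b0 e, iterate_succ_apply']
  have k2 := hp α β τ a0 b0 m fun x => emb_inj (by rw [← k, ← o, pow_orderOf_eq_one]; rfl)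
  have k3 : ∀ s, α * τ s = s := fun s => congrArg Sv.s (k2 (xs s))
  obtain rfl : α = 1 := by simpa using k3 1
  obtain rfl : τ = 1 := RingEquiv.ext fun s => by simpa using k3 s
  have k4 : (star β)⁻¹ = β := inv_eq_of_mul_eq_one_left (by simpa using congrArg Sv.u (k2 (xu 1)))
  have : θ = 1 := MulEquiv.ext fun g => mt4_ext (Matrix.ext fun i j => by
    rw [e, show dv (1 : K) β = fun _ => β from funext (by simp [fa4, dv, k4])]; simp; field_simp)
  simp only [this, orderOf_one] at o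
  exact (Fact.out : p.Prime).one_lt.ne o

end Gn

open Gn

variable {K : Type u} [Field K] [StarRing K] [Uf K] [Fintype K] {p n : ℕ} [Fact p.Prime] [CharP K p]

omit [CharP K p] in
theorem exists_piso_PSU4 (hn : 1 ≤ n) (hK : Fintype.card K = (p ^ n) ^ 2) (hs : ∀ x : K, star x = x ^ p ^ n)
    (T : Sylow p (PSU 4 K (p ^ n))) : ∃ f, PIso f (T : Subgroup (PSU 4 K (p ^ n))) (⊤ : Subgroup (Sv K)) := by
  obtain ⟨e⟩ : Nonempty (G4 K ≃* SU 4 K (p ^ n)) :=
    nonempty_SU_equiv (n := 3) (φ := starRingEnd K) hK hs star_star (by decide)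
  let π : G4 K →* PSU 4 K (p ^ n) := (QuotientGroup.mk' _).comp e.toMonoidHom
  have s := (syl_emb hn hK hs).map π
  rw [map_top_of_surjective π ((QuotientGroup.mk'_surjective _).comp e.surjective), ← MonoidHom.range_comp,
    MonoidHom.range_eq_map] at s
  have i : Injective (π.comp (emb K)) := (injective_iff_map_eq_one _).2 fun x hx => by
    have c : ∀ g, g * emb K x = emb K x * g := fun g => e.injective (by
      rw [map_mul, map_mul]; exact mem_center_iff.1 ((QuotientGroup.eq_one_iff _).1 hx) _)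
    have z := cen_Q (x := x) fun y _ => emb_inj (by rw [map_mul, map_mul, c])
    obtain ⟨w, hw⟩ := exists_wj (K := K)
    have := hw x z.1
    rw [c, mul_inv_cancel_right] at this
    exact Z_ext z (one_mem _) ((congrArg Sv.z (emb_inj this)).trans z.2.1)
  obtain ⟨b, -, hb⟩ := s.exists_conj_eq (sylIn_top T)
  exact ⟨_, (hb ▸ piso_cj b T).trans (piso_hom _ i ⊤).symm⟩

omit [CharP K p] in
theorem wt_gen (hn : 1 ≤ n) (hK : Fintype.card K = (p ^ n) ^ 2) (hs : ∀ x : K, star x = x ^ p ^ n)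
    (W : K → K → (K ≃+* K) → Prop) (mul : ∀ a b s c d t, W a b s → W c d t → W (a * s c) (b * s d) (s * t))
    (tor : ∀ d e, d ≠ 0 → e ≠ 0 → star (d * e) = d * e → W (d / e) e 1)
    (hp : ∀ a b t, a ≠ 0 → b ≠ 0 → W a b t → (∀ x, (dg a b t)^[p] x = x) → ∀ x, dg a b t x = x) :
    ∃ (G : Type u) (_ : Group G) (φ : Sv K →* G), Wt p φ W ∧ ∀ e h0 h, Rl φ (sQ K) (nq e h0 h) := by
  have o : W 1 1 1 := by simpa using tor 1 1 one_ne_zero one_ne_zero (by simp)
  let φ : Sv K →* G4 K ⋊[(Ga mul o).subtype] Ga mul o := SemidirectProduct.inl.comp (emb K)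
  haveI : Finite (G4 K ⋊[(Ga mul o).subtype] Ga mul o) := Finite.of_equiv _ SemidirectProduct.equivProd.symm
  have cj1 : ∀ (g : G4 K ⋊[(Ga mul o).subtype] Ga mul o) a, g * .inl a * g⁻¹ =
      .inl (g.left * (g.right : MulAut (G4 K)) a * g.left⁻¹) := fun g a => by ext <;> simp [mul_assoc]
  have r : ∀ P f, (∃ w : G4 K, ∀ x ∈ P, w * emb K x * w⁻¹ = emb K (f x)) → Rl φ P f := fun P f ⟨w, e⟩ =>
    ⟨.inl w, fun x hx => by simp only [φ, MonoidHom.comp_apply, ← map_inv, ← map_mul, e x hx]⟩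
  refine ⟨_, inferInstance, φ, ⟨inferInstance, SemidirectProduct.inl_injective.comp emb_inj, ?_, r _ _ exists_wj,
    fun α β τ a0 b0 m => ?_, fun g hg => ?_⟩, fun e h0 h => r _ _ (exists_wq h0 h)⟩
  · have hs := syl_emb hn hK hs
    rw [MonoidHom.range_comp]
    refine SylIn.of_not_dvd le_top (hs.pg.map _) ?_
    rw [relIndex_top_right, index_map_of_injective _ SemidirectProduct.inl_injective,
      SemidirectProduct.range_inl_eq_ker_rightHom, index_ker,
      MonoidHom.range_eq_top.2 SemidirectProduct.rightHom_surjective, card_top, (Fact.out : p.Prime).dvd_mul, not_or,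
      ← relIndex_top_right]
    exact ⟨hs.not_dvd_relIndex, Ga_not_dvd mul o hp⟩
  · obtain ⟨θ, hθ⟩ := exists_th a0 b0 τ
    exact ⟨.inr ⟨θ, α, β, τ, a0, b0, m, hθ⟩, fun x _ => by simp [φ, cj1, th_emb a0 b0 hθ]⟩
  · obtain ⟨g, θ, α, β, τ, a0, b0, m, hθ⟩ := g
    simp only [φ, MonoidHom.comp_apply, cj1, th_emb a0 b0 hθ] at hg ⊢
    obtain ⟨t, d, e, d0, e0, c, q⟩ := tri g fun x => by
      obtain ⟨y, -, rfl⟩ := (piso_dg (τ := τ) a0 b0).surj (mem_top x)
      exact (hg y).imp fun z h => mul_inv_eq_iff_eq_mul.1 (SemidirectProduct.inl_injective h)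
    exact ⟨t, _, _, _, mul_ne_zero (div_ne_zero d0 e0) a0, mul_ne_zero e0 b0, mul _ _ _ _ _ _ (tor d e d0 e0 c) m,
      fun x => by rw [q, dg_dg]; rfl⟩

end CF.FusV
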