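import Cfsg.Agent.FusV.G

/-! The generic witnesses, with the action of the normalizer of `Q`. -/

set_option autoImplicit false
set_option linter.style.haveILetI false

namespace CF.FusV

open Cfsg Subgroup CF.Fus CF.FusD Function Sv Matrix CF.Chev Gn
open CF.FusU (Uf)

universe u

theorem Gn.par {K : Type*} [Field K] [StarRing K] (g : G4 K) (h : ∀ x ∈ sQ K, ∃ y, g * emb K x = emb K y * g) :
    ∃ a b, ∀ x y, g * emb K x = emb K y * g → x.s = a * y.s + b * y.u := by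
  have k : ∀ x y, g * emb K x = emb K y * g → ∀ i j, (mt4 g * um x) i j = (um y * mt4 g) i j := fun x y e i j =>
    congrArg (fun g => mt4 g i j) e
  simp only [fa4, mul_apply, Fin.sum_univ_four, um, of_apply, cons_val', cons_val, cons_val_zero, cons_val_one,
    cons_val_fin_one] at k
  obtain ⟨y, e⟩ := h (xs 1) rfl
  obtain ⟨z, f⟩ := h (xu 1) rfl
  have a30 : mt4 g 3 0 = 0 := by simpa using (k _ _ e).2.2.2.2.1
  have a31 : mt4 g 3 1 = 0 := by simpa using (k _ _ f).2.2.2.2.2.2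
  have a32 : mt4 g 3 2 = 0 := by simpa using (k _ _ e).2.2.2.2.2.2
  have c := Matrix.ext_iff.2 (mul_eq_one_comm.1 (show revM 4 K * ((mt4 g).map (starRingEnd K))ᵀ * revM 4 K * mt4 g = 1 by
    rw [Matrix.mul_assoc, Matrix.mul_assoc, ← Matrix.mul_assoc _ (revM 4 K), mt4_un, revM_sq])) 0 0
  have c0 : mt4 g 0 0 ≠ 0 := fun d => by
    simp [mul_apply (M := mt4 g), Fin.sum_univ_four, mul_revM, revM_mul, rev4, a30, a31, a32, d] at c
  refine ⟨mt4 g 1 1 / mt4 g 0 0, mt4 g 2 1 / mt4 g 0 0, fun x y e => ?_⟩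
  have := (k x y e).1.2.1
  rw [a31] at this
  field_simp
  linear_combination this

variable {K : Type u} [Field K] [StarRing K] [Uf K] [Fintype K] {p n : ℕ} [Fact p.Prime]

theorem wt_gen' (hn : 1 ≤ n) (hK : Fintype.card K = (p ^ n) ^ 2) (hs : ∀ x : K, star x = x ^ p ^ n)
    (W : K → K → (K ≃+* K) → Prop) (mul : ∀ a b s c d t, W a b s → W c d t → W (a * s c) (b * s d) (s * t))
    (tor : ∀ d e, d ≠ 0 → e ≠ 0 → star (d * e) = d * e → W (d / e) e 1)
    (hp : ∀ a b t, a ≠ 0 → b ≠ 0 → W a b t → (∀ x, (dg a b t)^[p] x = x) → ∀ x, dg a b t x = x) :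
    ∃ (G : Type u) (_ : Group G) (φ : Sv K →* G), Wt p φ W ∧ (∀ e h0 h, Rl φ (sQ K) (nq e h0 h)) ∧
      ∀ g, (∀ x ∈ sQ K, ∃ y ∈ sQ K, g * φ x * g⁻¹ = φ y) → ∃ (a b : K) (t : K ≃+* K), ∀ x ∈ sQ K, ∀ y ∈ sQ K,
        g * φ x * g⁻¹ = φ y → t x.s = a * y.s + b * y.u := by
  have o : W 1 1 1 := by simpa using tor 1 1 one_ne_zero one_ne_zero (by simp)
  let φ : Sv K →* G4 K ⋊[(Ga mul o).subtype] Ga mul o := SemidirectProduct.inl.comp (emb K)
  haveI : Finite (G4 K ⋊[(Ga mul o).subtype] Ga mul o) := Finite.of_equiv _ SemidirectProduct.equivProd.symm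
  have cj1 : ∀ (g : G4 K ⋊[(Ga mul o).subtype] Ga mul o) a, g * .inl a * g⁻¹ =
      .inl (g.left * (g.right : MulAut (G4 K)) a * g.left⁻¹) := fun g a => by ext <;> simp [mul_assoc]
  have r : ∀ P f, (∃ w : G4 K, ∀ x ∈ P, w * emb K x * w⁻¹ = emb K (f x)) → Rl φ P f := fun P f ⟨w, e⟩ =>
    ⟨.inl w, fun x hx => by simp only [φ, MonoidHom.comp_apply, ← map_inv, ← map_mul, e x hx]⟩
  refine ⟨_, inferInstance, φ, ⟨inferInstance, SemidirectProduct.inl_injective.comp emb_inj, ?_, r _ _ exists_wj,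
    fun α β τ a0 b0 m => ?_, fun g hg => ?_⟩, fun e h0 h => r _ _ (exists_wq h0 h), fun g hg => ?_⟩
  · have hs := syl_emb hn hK hs
    rw [MonoidHom.range_comp]
    refine SylIn.of_not_dvd le_top (hs.pg.map _) ?_
    rw [relIndex_top_right, index_map_of_injective _ SemidirectProduct.inl_injective,
      SemidirectProduct.range_inl_eq_ker_rightHom, index_ker,
      MonoidHom.range_eq_top.2 SemidirectProduct.rightHom_surjective, card_top, (Fact.out : p.Prime).dvd_mul, not_or,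
      ← relIndex_top_right]
    exact ⟨hs.not_dvd_relIndex, Ga_not_dvd mul o hp⟩
  · obtain ⟨θ, hθ⟩ := exists_th a0 b0 τ
    exact ⟨.inr ⟨θ, α, β, τ, a0, b0, m, hθ⟩, fun x _ => by simp [φ, cj1, th_emb a0 b0 hθ]⟩
  · obtain ⟨g, θ, α, β, τ, a0, b0, m, hθ⟩ := g
    simp only [φ, MonoidHom.comp_apply, cj1, th_emb a0 b0 hθ] at hg ⊢
    obtain ⟨t, d, e, d0, e0, c, q⟩ := tri g fun x => by
      obtain ⟨y, -, rfl⟩ := (piso_dg (τ := τ) a0 b0).surj (mem_top x)
      exact (hg y).imp fun z h => mul_inv_eq_iff_eq_mul.1 (SemidirectProduct.inl_injective h)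
    exact ⟨t, _, _, _, mul_ne_zero (div_ne_zero d0 e0) a0, mul_ne_zero e0 b0, mul _ _ _ _ _ _ (tor d e d0 e0 c) m,
      fun x => by rw [q, dg_dg]; rfl⟩

  · obtain ⟨g, θ, α, β, τ, a0, b0, m, hθ⟩ := g
    simp only [φ, MonoidHom.comp_apply, cj1, th_emb a0 b0 hθ] at hg ⊢
    obtain ⟨a, b, q⟩ := par g fun x hx => by
      obtain ⟨y, -, rfl⟩ := (piso_dg (τ := τ) a0 b0).surj (mem_top x)
      obtain ⟨z, -, h⟩ := hg y (by simpa [mem_sQ, b0] using hx)
      exact ⟨z, mul_inv_eq_iff_eq_mul.1 (SemidirectProduct.inl_injective h)⟩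
    refine ⟨a / α, b / α, τ, fun x _ y _ h => ?_⟩
    have := q _ _ (mul_inv_eq_iff_eq_mul.1 (SemidirectProduct.inl_injective h))
    rw [dg_s] at this
    field_simp
    linear_combination this

end CF.FusV
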