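import Cfsg.Agent.FusV.B
import Cfsg.Agent.FusV.E
import Cfsg.Agent.FusV.F

/-! Saturated fusion systems on a Sylow `p`-subgroup of `SU₄(q)`: the automizer of `J`. -/

set_option autoImplicit false
set_option linter.style.haveILetI false

namespace CF.FusV

open Cfsg Cfsg.FusionSystem Subgroup CF.Fus CF.FusD Function Sv
open CF.FusU (cm mul_cm cm_eq_one Uf exists_sk fn_cm fn_comm)

variable {K : Type*} [Field K] [StarRing K] {x y z t a : Sv K} {f g n : Sv K → Sv K} {α β γ δ μ : K}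
  {P : Subgroup (Sv K)} {σ τ : K ≃+* K}

/-- coordinates on `J` -/
@[simps] def pj (x : Sv K) : Vj K := ⟨x.c, x.u, x.z + x.s * star x.u, x.hc, by simp; ring⟩
/-- elements of `J` -/
@[simps] def xj (v : Vj K) : Sv K := ⟨0, v.c, v.u, v.z, v.hc, by simp⟩

theorem pj_mul (hx : x ∈ sJ K) (hy : y ∈ sJ K) : pj (x * y) = pj x + pj y := by
  ext <;> simp [mem_sJ.1 hx, mem_sJ.1 hy]
theorem pj_cj (hx : x ∈ sJ K) (t : Sv K) : pj (t * x * t⁻¹) = tj t.s (pj x) := by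
  ext <;> simp [mem_sJ.1 hx] <;> ring
theorem pj_xj (v : Vj K) : pj (xj v) = v := by ext <;> simp
theorem pj_sur (v : Vj K) : ∃ x ∈ sJ K, pj x = v := ⟨xj v, rfl, pj_xj v⟩
theorem pj_inj (hx : x ∈ sJ K) (hy : y ∈ sJ K) (e : pj x = pj y) : x = y :=
  Sv.ext (hx.trans hy.symm) (congrArg Vj.c e) (congrArg Vj.u e)
    (by simpa [mem_sJ.1 hx, mem_sJ.1 hy] using congrArg Vj.z e)
theorem pj_nj (hx : x ∈ sJ K) : pj (nj x) = mv 1 (pj x) := by ext <;> simp [mem_sJ.1 hx]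

theorem one_of (h0 : α ≠ 0) (h : ∀ s, α * τ s = β * s) : τ = 1 ∧ α = β := by
  have a : α = β := by simpa using h 1
  exact ⟨RingEquiv.ext fun s => mul_left_cancel₀ h0 (by rw [h, a]; rfl), a⟩

/-- central automorphisms -/
@[simps] def nc (χ : K → K) (h : ∀ c, star (χ c) = -χ c) (x : Sv K) : Sv K :=
  ⟨x.s, x.c, x.u, x.z + χ x.c, x.hc, by simp [h]; ring⟩

theorem piso_nc {χ : K → K} (h : ∀ c, star (χ c) = -χ c)
    (add : ∀ a b, star a = -a → star b = -b → χ (a + b) = χ a + χ b) : PIso (nc χ h) ⊤ ⊤ :=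
  .of_inverse (g := nc (fun c => -χ c) (by simp [h]))
    (fun x _ y _ => by ext <;> simp [add _ _ x.hc y.hc]; ring) (fun _ _ => trivial) (fun _ _ => trivial)
    (fun x _ => by ext <;> simp) fun x _ => by ext <;> simp

variable [Uf K]

theorem dg_congr (h : β * star β = δ * star δ) (x : Sv K) : dg α β τ x = dg α δ τ x := by
  ext <;> simp only [dg_s, dg_c, dg_u, dg_z, mul_assoc _ β, mul_assoc _ δ, h]

theorem norm_of_ext (hP : sA K ≤ P) {φ : MulAut P} (hf : MulOn f ⊤) (e : ∀ x ∈ P, fn φ x = f x) :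
    φ ∈ normalizer (autInducedBy ⊤ P : Set (MulAut P)) := mem_normalizer_of_le le_top fun t ht => by
  obtain ⟨s, -, hs, rfl⟩ := mem_autInducedBy.1 ht
  rw [(conj_cA hs (norm_le hP (f s))).2 fun x hx => by
    rw [e x hx, e _ (conj_mem_of_norm hs hx), hf.map_conj trivial trivial]]
  exact cA_mem_autInducedBy trivial

variable {p : ℕ} {E F : FusionSystem (⊤ : Subgroup (Sv K))}

theorem push (i : FIso F f E) (hP : img f P = P) (hg : Mor F P g) (e : ∀ x ∈ P, n (f x) = f (g x)) : Mor E P n :=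
  hP ▸ i.mph.mor hg e

theorem mor_dg_mul (h1 : Mor F ⊤ (dg α β σ)) (h2 : Mor F ⊤ (dg γ δ τ)) : Mor F ⊤ (dg (α * σ γ) (β * σ δ) (σ * τ)) :=
  (h2.comp h1 fun _ _ => trivial).congr fun x _ => (dg_dg x).symm

theorem aut_J (h : Mor F ⊤ f) : ∃ φ ∈ F.autGroup (sJ K), ∀ x ∈ sJ K, fn φ x = f x :=
  ((h.mono le_top).iso_self fun _ => map_J h.iso_top.piso).exists_aut

theorem aut_Q (h : Mor F ⊤ f) : ∃ φ ∈ F.autGroup (sQ K), ∀ x ∈ sQ K, fn φ x = f x :=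
  ((h.mono le_top).iso_self fun _ => map_Q h.iso_top.piso).exists_aut

theorem Br.le (h : Br E P n) (hP : ∀ f, PIso f ⊤ ⊤ → ∀ x ∈ P, f x ∈ P) (top : ∀ f, Mor E ⊤ f → Mor F ⊤ f)
    (hn : Mor F P n) : E.autGroup P ≤ F.autGroup P := fun φ hφ => by
  obtain ⟨f, g, hf, hg, e | e⟩ := h φ hφ
  · exact ((top f hf).mono le_top).aut_mem' e
  · exact ((((top g hg).mono le_top).comp hn (hP g hg.iso_top.piso)).comp (top f hf) fun _ _ => trivial).aut_mem' e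

/-- systems in which only `Q` and `J` may be essential -/
def Two (F : FusionSystem (⊤ : Subgroup (Sv K))) (p : ℕ) : Prop := ∀ P, F.IsEssential p P → P = sQ K ∨ P = sJ K

variable [Fact p.Prime]

theorem not_norm (hF : Sat F p) (h : F.IsEssential p P) (hP : sA K ≤ P) :
    ¬ F.autGroup P ≤ normalizer (autInducedBy ⊤ P : Set (MulAut P)) := fun n =>
  (hF.ess_lt h).not_ge fun s hs => hF.ess_mem h ⟨hs, norm_le hP s⟩
    (le_OpIn (autInducedBy_le F le_top) n (hF.ess_syl h).pg (cA_mem_autInducedBy hs))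

theorem br_of (hF : Sat F p) (hP : sA K ≤ P) {X : Subgroup (MulAut P)} (hX : X ≤ F.autGroup P)
    (fr : ∀ φ ∈ F.autGroup P, ∃ b ∈ X, b * φ ∈ normalizer (autInducedBy ⊤ P : Set (MulAut P)))
    (dec : ∀ g ∈ X, g ∉ normalizer (autInducedBy ⊤ P : Set (MulAut P)) → ∀ x ∈ X,
      x ∉ normalizer (autInducedBy ⊤ P : Set (MulAut P)) →
        ∃ t ∈ autInducedBy ⊤ P, g⁻¹ * t * x ∈ normalizer (autInducedBy ⊤ P : Set (MulAut P)))
    {m : MulAut P} (m0 : m ∈ X) (m1 : m ∉ normalizer (autInducedBy ⊤ P : Set (MulAut P)))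
    (e : ∀ x ∈ P, fn m x = n x) : Br F P n := fun φ hφ => by
  have k := fun φ => ext_top (α := φ) hF le_top fun s _ => norm_le hP s
  obtain ⟨b, b0, b1⟩ := fr φ hφ
  by_cases c : b ∈ normalizer (autInducedBy ⊤ P : Set (MulAut P))
  · obtain ⟨f, f1, f2⟩ := k φ hφ (by simpa using mul_mem (inv_mem c) b1)
    exact ⟨f, f, f1, f1, .inl fun x hx => (f2 x hx).symm⟩
  obtain ⟨t, t0, t1⟩ := dec _ (inv_mem m0) (mt inv_mem_iff.1 m1) b b0 c
  have t2 := autInducedBy_le F le_top t0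
  obtain ⟨f, f1, f2⟩ := k _ (Subgroup.inv_mem _ (mul_mem (mul_mem (hX (inv_mem (inv_mem m0))) t2) (hX b0))) (inv_mem t1)
  obtain ⟨g, g1, g2⟩ := k _ (mul_mem t2 (mul_mem (hX b0) hφ)) (mul_mem (le_normalizer t0) b1)
  refine ⟨f, g, f1, g1, .inr fun x hx => ?_⟩
  rw [g2 x hx, ← e _ (fn_mem _ hx), f2 _ (fn_mem _ (fn_mem _ hx)), ← fn_mul, ← fn_mul]
  congr 1
  group

theorem Two.fiso (h : Two F p) (hF : Sat F p) (i : FIso F f E) : Two E p := fun P hP => by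
  rw [← i.img_img_pinv (le_top : P ≤ ⊤)]
  exact (h _ (i.symm.ess (i.sat' hF) hP)).imp (fun e => by rw [e, img_Q i.piso]) fun e => by rw [e, img_J i.piso]

theorem Two.ext (h : Two F p) (hF : Sat F p) (hf : Mor F P f) :
    sJ K ≤ P → (∃ x ∈ P, x ∉ sJ K) → ∃ g, Mor F ⊤ g ∧ ∀ y ∈ P, f y = g y := by
  refine hF.alperin (M := fun P f => sJ K ≤ P → (∃ x ∈ P, x ∉ sJ K) → ∃ g, Mor F ⊤ g ∧ ∀ y ∈ P, f y = g y)
    ?_ ?_ ?_ P f hf
  · rintro P Q f g - m l e j ⟨x, x1, x2⟩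
    obtain ⟨k, k1, k2⟩ := m (j.trans l) ⟨x, l x1, x2⟩
    exact ⟨k, k1, fun y hy => (e y hy).trans (k2 y (l hy))⟩
  · rintro P Q f g - - m1 m2 l j ⟨x, x1, x2⟩
    obtain ⟨k, k1, k2⟩ := m1 j ⟨x, x1, x2⟩
    have i := k1.iso_top.piso
    obtain ⟨k', k3, k4⟩ := m2 (fun y hy => by
      obtain ⟨w, w1, rfl⟩ := (k1.mono le_top).mem_img.1 ((img_J i).ge hy)
      exact k2 w (j w1) ▸ l w (j w1)) ⟨_, l x x1, fun c => x2 ((i.mem_img_iff le_top trivial).1 (by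
        rwa [img_J i, ← k2 x x1]))⟩
    exact ⟨_, k1.comp k3 fun _ _ => trivial, fun y hy => by rw [comp_apply, k4 _ (l y hy), k2 y hy, comp_apply]⟩
  · rintro P (rfl | hP) φ hφ j ⟨x, x1, x2⟩
    · exact ⟨_, mor_fn le_rfl hφ, fun _ _ => rfl⟩
    obtain ⟨c, c0, c1⟩ := exists_sk (K := K)
    rcases h P hP with rfl | rfl
    · exact absurd (j (xc_mem c1)) c0
    · exact absurd x1 x2

theorem Two.sub (h : Two E p) (hE : Sat E p) (top : ∀ f, Mor E ⊤ f → Mor F ⊤ f)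
    (hJ : E.autGroup (sJ K) ≤ F.autGroup (sJ K)) (hQ : E.autGroup (sQ K) ≤ F.autGroup (sQ K)) : E.IsSubsystemOf F := by
  refine hE.alperin_sub fun P hP φ hφ => ?_
  rcases hP with rfl | hP
  · exact top _ (mor_fn le_rfl hφ)
  rcases h P hP with rfl | rfl
  exacts [mor_fn le_top (hQ hφ), mor_fn le_top (hJ hφ)]

theorem Nm.ext (h : Nm F p) (hP : sA K ≤ P) {φ : MulAut P} (h1 : φ ∈ F.autGroup P)
    (h2 : φ ∈ normalizer (autInducedBy ⊤ P : Set (MulAut P))) :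
    ∃ t α β τ, α ≠ 0 ∧ β ≠ 0 ∧ Mor F ⊤ (dg α β τ) ∧ ∀ x ∈ P, fn φ x = t * dg α β τ x * t⁻¹ :=
  let ⟨g, g1, g2⟩ := ext_top h.sat le_top (fun s _ => norm_le hP s) h1 h2
  let ⟨t, α, β, τ, a0, b0, m, e⟩ := h.top g g1
  ⟨t, α, β, τ, a0, b0, m, fun x hx => (g2 x hx).symm.trans (e x)⟩

theorem Nm.fiso (h : Nm F p) (i : FIso F f E) (c : ∀ α β τ, α ≠ 0 → β ≠ 0 → Mor F ⊤ (dg α β τ) →
    ∃ γ δ σ, γ ≠ 0 ∧ δ ≠ 0 ∧ ∀ x, dg γ δ σ (f x) = f (dg α β τ x)) : Nm E p := ⟨i.sat' h.sat, fun g hg => by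
  obtain ⟨k, k1, k2⟩ := i.pull le_rfl (f' := g) (by rwa [i.img_eq])
  obtain ⟨t, α, β, τ, a0, b0, m, e⟩ := h.top k k1
  obtain ⟨γ, δ, σ, c0, d0, e'⟩ := c α β τ a0 b0 m
  refine ⟨f t, γ, δ, σ, c0, d0, push i i.img_eq m fun x _ => e' x, fun x => ?_⟩
  obtain ⟨y, -, rfl⟩ := i.piso.surj (mem_top x)
  rw [k2 y trivial, e, i.piso.mul.map_conj trivial trivial, e']⟩

theorem exists_jm (hF : Sat F p) : ∃ ρ, Jm p (F.autGroup (sJ K)) (autInducedBy ⊤ (sJ K)) ρ ∧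
    ∀ φ ∈ F.autGroup (sJ K), ∀ x ∈ sJ K, ρ φ (pj x) = pj (fn φ x) := by
  obtain ⟨ρ, r, hρ⟩ := exists_rp (F.autGroup (sJ K)) pj (fun x hx y => pj_mul hx) pj_sur fun φ _ x hx e => by
    rw [pj_inj hx (one_mem _) (e.trans (by ext <;> simp)), (mulOn_fn φ).map_one]; ext <;> simp
  have k : ∀ s v, ρ (cA (sJ K) s) v = tj s.s v := fun s v => by
    obtain ⟨x, hx, rfl⟩ := pj_sur v
    rw [hρ _ (cA_mem_autGroup F le_top trivial) x hx, fn_cA (norm_J s) hx, pj_cj hx]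
  refine ⟨ρ, ⟨r, hF.syl_of_fn (fn_of_norm F le_top fun s _ => norm_J s), fun φ hφ e => ⟨0, ?_⟩, fun t ht => ?_,
    fun a => ⟨_, cA_mem_autInducedBy trivial, k (xs a)⟩⟩, hρ⟩
  · rw [pow_zero, pow_one]
    exact aut_ext fun x hx => by rw [fn_one, pj_inj (fn_mem φ hx) hx (by rw [← hρ φ hφ x hx, e])]
  · obtain ⟨s, -, -, rfl⟩ := mem_autInducedBy.1 ht
    exact ⟨_, k s⟩

/-- the action on `J` -/
structure AJ (F : FusionSystem (⊤ : Subgroup (Sv K))) (p : ℕ) (ρ : MulAut (sJ K) → Vj K →+ Vj K) : Prop where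
  jt : Jt p (F.autGroup (sJ K)) (autInducedBy ⊤ (sJ K)) ρ
  app : ∀ φ ∈ F.autGroup (sJ K), ∀ x ∈ sJ K, ρ φ (pj x) = pj (fn φ x)

theorem Two.aj (h : Two F p) (hF : Sat F p) : ∃ ρ, AJ F p ρ := by
  obtain ⟨ρ, r, hρ⟩ := exists_jm hF
  refine ⟨ρ, ⟨r, fun φ hφ t ht ⟨v, hv⟩ h1 => ?_⟩, hρ⟩
  obtain ⟨s, -, hs, rfl⟩ := mem_autInducedBy.1 ht
  obtain ⟨s', -, hs', e⟩ := mem_autInducedBy.1 h1
  have i := iso_fn le_top hφ
  obtain ⟨g, g1, g2⟩ := rec_ext (hF.rec_of_fn (fn_of_norm F le_top fun s _ => norm_J s)) i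
  obtain ⟨k, k1, k2⟩ := h.ext hF g1 i.mor.le_Nf ⟨s, mem_Nf.2 ⟨trivial, hs, s', trivial, (conj_cA hs hs').1 e.symm⟩,
    fun c => hv (by
      obtain ⟨x, hx, rfl⟩ := pj_sur v
      rw [hρ _ (r.syl.le ht) x hx, fn_cA hs hx, J_comm c hx, mul_inv_cancel_right])⟩
  exact norm_of_ext A_le_J k1.mul fun x hx => (g2 x hx).symm.trans (k2 x (i.mor.le_Nf hx))

/-- systems containing the standard Weyl element for `J` -/
structure Sj (F : FusionSystem (⊤ : Subgroup (Sv K))) (p : ℕ) : Prop extends Nm F p where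
  two : Two F p
  nj : Mor F (sJ K) nj

variable [CharP K p]

theorem AJ.nj {ρ : MulAut (sJ K) → Vj K →+ Vj K} (r : AJ F p ρ) (hg : Mor F (sJ K) g) (h1 : ∀ x ∈ sJ K, g x ∈ sJ K)
    (h2 : ∀ z ∈ sZ K, (g z).u = 0 ∧ (g z).z = 0) (m0 : μ ≠ 0) : ∃ m ∈ F.autGroup (sJ K), ∀ v, ρ m v = mv μ v := by
  obtain ⟨φ, hφ, e⟩ := (hg.iso_self h1).exists_aut
  refine r.jt.mono hφ (fun w hw => ?_) m0
  have := h2 (xj w) ⟨rfl, hw.1, hw.2⟩
  rw [← pj_xj w, r.app φ hφ _ rfl, e _ rfl]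
  simp [this]

theorem Sj.of (h : Nm F p) (two : Two F p) (hg : Mor F (sJ K) g) (h1 : ∀ x ∈ sJ K, g x ∈ sJ K)
    (h2 : ∀ z ∈ sZ K, (g z).u = 0 ∧ (g z).z = 0) : Sj F p := by
  obtain ⟨ρ, r⟩ := two.aj h.sat
  obtain ⟨m, m0, m1⟩ := r.nj hg h1 h2 one_ne_zero
  exact ⟨h, two, (mor_fn le_top m0).congr fun x hx =>
    pj_inj (nj_mem x) (fn_mem m hx) (by rw [pj_nj hx, ← m1, r.app m m0 x hx])⟩

theorem exists_sj (h : Nm F p) (two : Two F p) (hE : F.IsEssential p (sJ K)) :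
    ∃ (E : FusionSystem (⊤ : Subgroup (Sv K))) (f : Sv K → Sv K), FIso F f E ∧ Sj E p := by
  obtain ⟨ρ, r⟩ := two.aj h.sat
  obtain ⟨g, g0, g1, g2⟩ := r.jt.exists_g (not_norm h.sat hE A_le_J)
  choose! w w1 w2 using fun c hc => r.jt.onto_c g0 g1 (c := c) hc
  have k : ∀ v ∈ jZ K, w (ρ g v).c = v := fun v hv => sub_eq_zero.1 (r.jt.ti1 g0 g1
    (sub_mem (w1 _ (ρ g v).hc) hv) (by rw [map_sub, Vj.sub_c, w2 _ (ρ g v).hc, sub_self]))
  have i := piso_nc (χ := fun c => -(ρ g (w c)).z) (by simp) fun a b ha hb => by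
    rw [← w2 a ha, ← w2 b hb, ← Vj.add_c, ← map_add, k _ (add_mem (w1 a ha) (w1 b hb)), k _ (w1 a ha), k _ (w1 b hb),
      map_add, Vj.add_z, neg_add]
  have k0 : (ρ g (w 0)).z = 0 := by simpa using congrArg (fun v => (ρ g v).z) (k 0 (zero_mem _))
  obtain ⟨E, e⟩ := exists_fiso F i
  refine ⟨E, _, e, .of (h.fiso e fun α β τ a0 b0 m => ⟨α, β, τ, a0, b0, fun x => ?_⟩) (two.fiso h.sat e)
    (push e (img_J i) (mor_fn le_top g0) (n := fun x => nc _ _ (fn g (pinv _ ⊤ x))) fun x _ => by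
      rw [i.pinv_apply trivial]) (fun x hx => ?_) fun z hz => ?_⟩
  · refine Sv.ext rfl rfl rfl ?_
    by_cases c : x.c = 0
    · simp [c, k0]
    obtain ⟨φ, hφ, e1⟩ := aut_J m
    have e2 : ρ (φ * g) (w x.c) = pj (dg α β τ (xj (ρ g (w x.c)))) := by
      rw [r.jt.rp.mul _ hφ _ g0, ← e1 _ rfl, ← r.app φ hφ _ rfl, pj_xj]
    obtain ⟨v, v1, v2⟩ := r.jt.uniq g0 g1 g2 (mul_mem hφ g0) (w1 _ x.hc) (by simp [e2, g2 _ (w1 _ x.hc)])
      (by simp [e2, w2 _ x.hc, b0, c])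
    have e3 := congrArg Vj.z (e2.symm.trans v2)
    have e4 := congrArg Vj.c (e2.symm.trans v2)
    simp only [pj_z, pj_c, dg_s, dg_z, dg_c, xj_s, xj_z, xj_c, w2 _ x.hc, map_zero, mul_zero, zero_mul, add_zero] at e3 e4
    simp only [nc_z, dg_z, nc_c, dg_c, e4, k v v1, ← e3, map_add, map_neg]
    ring
  · exact map_J i (fn_mem g (map_J i.symm hx))
  · have e1 : pinv (nc (fun c => -(ρ g (w c)).z) (by simp)) ⊤ z = z := by
      conv_lhs => rw [show z = nc (fun c => -(ρ g (w c)).z) (by simp) z by ext <;> simp [hz.2.1, k0]]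
      exact i.pinv_apply trivial
    have e2 := r.app g g0 z hz.1
    have e3 : pj z ∈ jZ K := ⟨hz.2.1, hz.2.2⟩
    have e4 := k _ e3
    have e5 := g2 _ e3
    rw [e2] at e4 e5
    rw [e1, nc_u, nc_z, show (fn g z).c = (pj (fn g z)).c from rfl, e4, e2]
    exact ⟨e5, by simp [mem_sJ.1 (fn_mem g hz.1)]⟩

namespace Sj

variable (h : Sj F p)
include h

theorem mon : ∃ ρ, AJ F p ρ ∧ ∀ μ ≠ 0, ∃ m ∈ F.autGroup (sJ K), ∀ v, ρ m v = mv μ v :=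
  let ⟨ρ, r⟩ := h.two.aj h.sat
  ⟨ρ, r, fun _ => r.nj h.nj (fun x _ => nj_mem x) fun z hz => by simp [hz.2.1, hz.2.2]⟩

theorem tor (m0 : μ ≠ 0) : Mor F ⊤ (dg (μ ^ 2) μ⁻¹ 1) := by
  obtain ⟨ρ, r, k⟩ := h.mon
  obtain ⟨m, m1, m2⟩ := k μ m0
  obtain ⟨n, n1, n2⟩ := k 1 one_ne_zero
  have k0 := mul_mem m1 n1
  have k1 : ∀ v, ρ (m * n) v = mv μ (mv 1 v) := fun v => by rw [r.jt.rp.mul _ m1 _ n1, m2, n2]
  obtain ⟨t, α, β, τ, a0, b0, q, e⟩ := h.toNm.ext A_le_J k0 (r.jt.normZ k0 fun w hw => by simp [k1, mem_jZ, hw.1, hw.2])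
  have e1 : ∀ v, mv μ (mv 1 v) = tj t.s (pj (dg α β τ (xj v))) := fun v => by
    rw [← k1, ← pj_cj (by simp [mem_sJ]), ← e _ rfl, ← r.app _ k0 _ rfl, pj_xj]
  have b1 := star_ne_zero.2 b0
  have m3 := star_ne_zero.2 m0
  obtain ⟨rfl, e2⟩ := one_of (β := μ / star μ) (τ := τ) (mul_ne_zero (mul_ne_zero a0 b0) b1) fun u => by
    simpa using congrArg Vj.u (e1 (vu u)).symm
  obtain ⟨c, c0, c1⟩ := exists_sk (K := K)
  have e3 : β * star β = μ⁻¹ * star μ⁻¹ := mul_right_cancel₀ c0 (by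
    have := congrArg Vj.c (e1 (vc c c1))
    simp only [mv_c, mv_z, tj_c, pj_c, dg_c, xj_c, vc_c, star_one, RingAut.one_apply] at this
    rw [← this, star_inv₀]; field_simp)
  obtain rfl : α = μ ^ 2 := by
    rw [mul_assoc, e3, star_inv₀] at e2
    field_simp at e2
    exact e2
  exact q.congr fun x _ => dg_congr e3.symm x

theorem brJ : Br F (sJ K) FusV.nj := by
  obtain ⟨ρ, r⟩ := h.two.aj h.sat
  obtain ⟨m, m0, m1⟩ := (h.nj.iso_self fun x _ => nj_mem x).exists_aut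
  obtain ⟨c, c0, c1⟩ := exists_sk (K := K)
  refine br_of h.sat A_le_J le_rfl (fun φ hφ => ⟨φ⁻¹, Subgroup.inv_mem _ hφ, by simp⟩) (fun _ a b _ => r.jt.dec a b) m0
    (fun n => c0 ?_) m1
  have := (r.jt.nZ m0 n (vz_mem c1)).1
  rwa [← pj_xj (vz c c1), r.app m m0 _ rfl, m1 _ rfl, pj_nj rfl, pj_xj, mv_c, star_one, mul_one, div_one] at this

end Sj

end CF.FusV
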