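import Cfsg.Agent.FusV.H

/-! Saturated fusion systems on a Sylow `p`-subgroup of `SU₄(q)`: the automizer of `Q`. -/

set_option autoImplicit false
set_option linter.style.haveILetI false

namespace CF.FusV

open Cfsg Cfsg.FusionSystem Subgroup CF.Fus CF.FusD Function Sv
open CF.FusU (cm mul_cm cm_eq_one Uf exists_sk fn_cm fn_comm)

variable {K : Type*} [Field K] [StarRing K] {x y z t a : Sv K} {f g n : Sv K → Sv K} {α β γ δ μ ε : K}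
  {P : Subgroup (Sv K)} {σ τ : K ≃+* K}

/-- coordinates on `Q / Z` -/
@[simps] def pq (x : Sv K) : K × K := (x.s, x.u)

theorem pq_mul (hy : y ∈ sQ K) (x : Sv K) : pq (x * y) = pq x + pq y := by simp [pq, mem_sQ.1 hy]
theorem pq_cj (hx : x ∈ sQ K) (t : Sv K) : pq (t * x * t⁻¹) = tq (-t.c) (pq x) := by
  simp only [pq, tq, Prod.mk.injEq]; refine ⟨?_, ?_⟩ <;> simp [mem_sQ.1 hx]; ring
theorem pq_sur (v : K × K) : ∃ x ∈ sQ K, pq x = v := ⟨xq v.1 v.2, rfl, rfl⟩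
theorem Z_of_pq (hx : x ∈ sQ K) (e : pq x = 0) : x ∈ sZ K := ⟨congrArg (·.1) e, hx, congrArg (·.2) e⟩
theorem pq_Z (h : x ∈ sZ K) : pq x = 0 := Prod.ext h.1 h.2.2
theorem pq_inv (hx : x ∈ sQ K) (hy : y ∈ sQ K) (e : pq x = pq y) : x⁻¹ * y ∈ sZ K := by
  have m := mul_mem (inv_mem hx) hy
  have := pq_mul m x
  rw [mul_inv_cancel_left, e, left_eq_add] at this
  exact Z_of_pq m this
theorem cm_om (hx : x ∈ sQ K) (hy : y ∈ sQ K) : (cm x y).z = om (pq x) (pq y) := by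
  simp [cm_z, om, mem_sQ.1 hx, mem_sQ.1 hy]; ring
theorem Z_le_Q : sZ K ≤ sQ K := Z_le.trans A_le_Q
theorem cj_Z (hz : z ∈ sZ K) (t : Sv K) : t * z * t⁻¹ = z := by rw [Z_comm hz, mul_inv_cancel_right]
theorem nq_Z (h0 : ε ≠ 0) (h : star ε = -ε) (hz : z ∈ sZ K) : nq ε h0 h z = z := by
  ext <;> simp [hz.1, hz.2.1, hz.2.2]

variable [Uf K]

theorem stab_Z (φ : MulAut (sQ K)) : φ ∈ stab (sQ K) (sZ K) := mem_stab_of_maps Z_le_Q fun _ ha =>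
  cen_Q fun _ hy => (fn_comm φ (Z_le_Q ha) (fun e _ => Z_comm ha e) hy).symm

theorem exists_real (s : Finset K) (h : s.card ^ 2 < Nat.card K) : ∃ r : K, star r = r ∧ r ∉ s := by
  by_contra! c
  obtain ⟨e, e0, he⟩ := exists_sk (K := K)
  have := Nat.card_le_card_of_injective (fun a : skewAdjoint K => (⟨a / e, c _ (by
    rw [star_div₀, skewAdjoint.mem_iff.1 a.2, he, neg_div_neg_eq])⟩ : s)) fun a b q =>
      Subtype.ext ((div_left_inj' e0).1 (congrArg Subtype.val q))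
  rw [card_sk] at h
  exact h.not_ge (Nat.pow_le_pow_left (by simpa using this) 2)

theorem exists_nu : ∃ μ : K, μ ≠ 0 ∧ μ * star μ = 1 ∧ μ ^ 2 ≠ 1 := by
  by_contra! c
  obtain ⟨e, he⟩ := Uf.nr (K := K)
  have k : ∀ e : K, star e ≠ e → star e = -e := fun e he => by
    have e0 : e ≠ 0 := by rintro rfl; simp at he
    have e1 := star_ne_zero.2 e0
    have := c (e / star e) (div_ne_zero e0 e1) (by simp; field_simp)
    field_simp at this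
    exact mul_left_cancel₀ (sub_ne_zero.2 he) (by linear_combination -this)
  have a := k (e + 1) (by simpa using he)
  rw [star_add, star_one, k e he] at a
  exact he (by linear_combination k e he - e * a)

theorem inn_two (h2 : ∀ r : K, star r = r → r = 0 ∨ r = 1) {δ : MulAut (sQ K)} (e : ∀ x ∈ sQ K, pq (fn δ x) = pq x)
    (hz : ∀ z ∈ sZ K, fn δ z = z) : ∃ t, ∀ x ∈ sQ K, fn δ x = t * x * t⁻¹ := by
  have u := fun x hx => pq_inv hx (fn_mem δ hx) (e x hx).symm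
  have c : ∀ x ∈ sQ K, ∀ y ∈ sQ K, ∀ w ∈ sQ K, pq w = pq x + pq y →
      (w⁻¹ * fn δ w).z = (x⁻¹ * fn δ x).z + (y⁻¹ * fn δ y).z := fun x hx y hy w hw q => by
    have z1 := pq_inv (mul_mem hx hy) hw (by rw [pq_mul hy, q])
    have a : w⁻¹ * fn δ w = y⁻¹ * fn δ y * (x⁻¹ * fn δ x) := by
      rw [← mul_inv_cancel_left (x * y) w, mulOn_fn δ (mul_mem hx hy) (Z_le_Q z1), hz _ z1, mulOn_fn δ hx hy,
        Z_comm z1, Z_comm z1, mul_assoc y⁻¹, Z_comm (u x hx)]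
      group
    rw [a, mul_z, (u x hx).1, (u y hy).1]
    simp [add_comm]
  have k : ∀ f : K → K × K, (∀ s t, f (s + t) = f s + f t) → (∀ s, f (0 * s) = 0) → ∃ a, ∀ s, ∀ x ∈ sQ K, pq x = f s →
      (x⁻¹ * fn δ x).z = a * s - star (a * s) := fun f f1 f2 => by
    have f3 := c 1 (one_mem _) 1 (one_mem _) 1 (one_mem _) (by simp [pq])
    have f4 : ∀ s, ∀ x ∈ sQ K, pq x = f s → (x⁻¹ * fn δ x).z = ((xq (f s).1 (f s).2)⁻¹ * fn δ (xq (f s).1 (f s).2)).z :=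
      fun s x hx q => by rw [c _ (xq_mem (f s).1 (f s).2) 1 (one_mem _) x hx (q.trans (add_zero _).symm), left_eq_add.1 f3, add_zero]
    obtain ⟨a, d, q⟩ := exists_lin (f := fun s => ((xq (f s).1 (f s).2)⁻¹ * fn δ (xq (f s).1 (f s).2)).z)
      (fun s t => c _ (xq_mem _ _) _ (xq_mem _ _) _ (xq_mem _ _) (f1 s t)) fun l s hl => by
        rcases h2 l hl with rfl | rfl
        · rw [← f4 _ 1 (one_mem _) (f2 s).symm, left_eq_add.1 f3, zero_mul]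
        · simp only [one_mul]
    have q1 : ∀ s, star (a * s + d * star s) = -(a * s + d * star s) := fun s => q s ▸ z_sk (u _ (xq_mem _ _)).1
    obtain ⟨θ, hθ⟩ := Uf.nr (K := K)
    have q2 := q1 1
    have q3 := q1 θ
    simp only [star_add, star_mul', star_star, star_one, mul_one] at q2 q3
    refine ⟨a, fun s x hx q4 => ?_⟩
    rw [f4 s x hx q4, q, star_mul', show d = -star a from mul_right_cancel₀ (sub_ne_zero.2 hθ) (by
      linear_combination q3 - θ * q2)]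
    ring
  obtain ⟨a, ha⟩ := k (fun s => (s, 0)) (by simp) (by simp)
  obtain ⟨b, hb⟩ := k (fun s => (0, s)) (by simp) (by simp)
  refine ⟨xq (star b) (star a), fun x hx => ?_⟩
  rw [← mul_cm, ← Z_ext (u x hx) (cm_Q hx (xq_mem _ _)) ?_, mul_inv_cancel_left]
  rw [c _ (xq_mem x.s 0) _ (xq_mem 0 x.u) x hx (by simp [pq]), ha x.s _ (xq_mem _ _) rfl, hb x.u _ (xq_mem _ _) rfl,
    cm_om hx (xq_mem _ _)]
  simp [om]; ring

variable {p : ℕ} [Fact p.Prime] {E F : FusionSystem (⊤ : Subgroup (Sv K))}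

/-- the automorphisms of `Q` which centralize `Z` -/
abbrev XQ (F : FusionSystem (⊤ : Subgroup (Sv K))) : Subgroup (MulAut (sQ K)) := F.autGroup (sQ K) ⊓ fix (sQ K) (sZ K)
/-- the automorphisms of `Q` induced by the Sylow subgroup -/
abbrev TQ (K : Type*) [Field K] [StarRing K] : Subgroup (MulAut (sQ K)) := autInducedBy ⊤ (sQ K)

/-- the action on `Q / Z` -/
structure AQ (F : FusionSystem (⊤ : Subgroup (Sv K))) (p : ℕ) (ρ : MulAut (sQ K) → K × K →+ K × K) : Prop where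
  sq : Sq p (XQ F) (TQ K) ρ
  app : ∀ φ ∈ F.autGroup (sQ K), ∀ x ∈ sQ K, ρ φ (pq x) = pq (fn φ x)

theorem exists_aq (hF : Sat F p) : ∃ ρ, AQ F p ρ := by
  obtain ⟨ρ, r, hρ⟩ := exists_rp (F.autGroup (sQ K)) pq (fun x _ y hy => pq_mul hy x) pq_sur fun φ _ x hx e =>
    pq_Z (stab_maps (stab_Z φ) (Z_of_pq hx e))
  have k : ∀ s v, ρ (cA (sQ K) s) v = tq (-s.c) v := fun s v => by
    obtain ⟨x, hx, rfl⟩ := pq_sur v
    rw [hρ _ (cA_mem_autGroup F le_top trivial) x hx, fn_cA (norm_Q s) hx, pq_cj hx]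
  have sy := hF.syl_of_fn (fn_of_norm F le_top fun s _ => norm_Q s)
  refine ⟨ρ, ⟨r.mono inf_le_left, sy.mono (le_inf sy.le fun t ht z hz => ?_) inf_le_left, fun φ hφ e => ?_,
    fun t ht => ?_, fun c e => ?_, fun φ hφ v w => ?_, fun h2 φ hφ v => ?_⟩, hρ⟩
  · obtain ⟨s, -, e⟩ := mem_autInducedBy'.1 ht
    rw [e z (Z_le_Q hz), cj_Z hz]
  · exact isPGroup_iff_mem.1 OpIn_isPGroup φ (mem_OpIn₂ (hF.pgroup le_top) (fun ψ _ => stab_Z ψ) hφ.1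
      (fun x hx => pq_inv hx (fn_mem φ hx) (by rw [← hρ φ hφ.1 x hx, e])) fun x _ => hφ.2 x)
  · obtain ⟨s, -, -, rfl⟩ := mem_autInducedBy.1 ht
    exact ⟨_, by simp, k s⟩
  · exact ⟨_, cA_mem_autInducedBy trivial, fun v => (k (xc (-c) (by simp [e])) v).trans (by rw [xc_c, neg_neg])⟩
  · obtain ⟨x, hx, rfl⟩ := pq_sur v
    obtain ⟨y, hy, rfl⟩ := pq_sur w
    rw [hρ φ hφ.1 x hx, hρ φ hφ.1 y hy, ← cm_om hx hy, ← cm_om (fn_mem φ hx) (fn_mem φ hy), ← fn_cm φ hx hy,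
      hφ.2 _ (cm_Q hx hy)]
  · obtain ⟨x, hx, rfl⟩ := pq_sur v
    have a : ∀ x ∈ sQ K, (x * x).z = qf (pq x) := fun x hx => by
      simp only [mul_z, qf, pq, mem_sQ.1 hx]
      linear_combination (x.z - x.s * star x.u - x.u * star x.s) * h2
    rw [hρ φ hφ.1 x hx, ← a x hx, ← a _ (fn_mem φ hx), ← mulOn_fn φ hx hx, hφ.2 _ ⟨?_, mul_mem hx hx, ?_⟩]
    · simp [← two_mul, h2]
    · simp [← two_mul, h2, mem_sQ.1 hx]

omit [Fact p.Prime] in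
theorem aut_X (h : Mor F (sQ K) f) (h1 : ∀ x ∈ sQ K, f x ∈ sQ K) (h2 : ∀ z ∈ sZ K, f z = z) :
    ∃ φ ∈ XQ F, ∀ x ∈ sQ K, fn φ x = f x :=
  let ⟨φ, a, b⟩ := (h.iso_self h1).exists_aut
  ⟨φ, ⟨a, fun z hz => (b z (Z_le_Q hz)).trans (h2 z hz)⟩, b⟩

theorem Nm.mor_dg (h : Nm F p) (a0 : α ≠ 0) (hm : Mor F (sQ K) (dg α β τ)) : Mor F ⊤ (dg α β τ) := by
  obtain ⟨φ, a, b⟩ := (hm.iso_self fun x hx => by simp [mem_sQ, mem_sQ.1 hx]).exists_aut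
  obtain ⟨t, γ, δ, σ, c0, -, m, e⟩ := h.ext A_le_Q a (norm_of_ext A_le_Q (mulOn_hom _ ⊤) b)
  have k : ∀ x ∈ sQ K, pq (dg α β τ x) = tq (-t.c) (pq (dg γ δ σ x)) := fun x hx => by
    rw [← b x hx, e x hx, pq_cj (by simp [mem_sQ, mem_sQ.1 hx])]
  obtain ⟨e1, rfl⟩ := one_of (τ := τ * σ⁻¹) (β := γ) a0 fun s => by
    simpa [tq] using congrArg (·.1) (k _ (xs_mem (σ⁻¹ s)))
  obtain rfl := mul_inv_eq_one.1 e1
  exact m.congr fun x _ => dg_congr (mul_left_cancel₀ a0 (by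
    simpa [tq, mul_assoc] using congrArg (·.2) (k _ (xq_mem 0 1)))) x

namespace AQ

variable {ρ : MulAut (sQ K) → K × K →+ K × K} (r : AQ F p ρ) {φ m : MulAut (sQ K)}
include r

theorem frat (hφ : φ ∈ F.autGroup (sQ K)) : ∃ b ∈ XQ F, b * φ ∈ normalizer (TQ K : Set (MulAut (sQ K))) :=
  r.sq.syl.frattini (mem_normalizer_of_le le_top fun _ hx =>
    ⟨mul_mem (mul_mem hφ hx.1) (Subgroup.inv_mem _ hφ), conj_mem_of_norm (stab_le_norm_fix (stab_Z φ)) hx.2⟩)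

theorem mov (hF : Sat F p) (hE : F.IsEssential p (sQ K)) : ¬ XQ F ≤ normalizer (TQ K : Set (MulAut (sQ K))) :=
  fun c => not_norm hF hE A_le_Q fun φ hφ => by
    obtain ⟨b, b1, b2⟩ := r.frat hφ
    simpa using mul_mem (inv_mem (c b1)) b2

theorem hN (h : Nm F p) (k : MulAut (sQ K)) (k0 : k ∈ XQ F) (k1 : k ∈ normalizer (TQ K : Set (MulAut (sQ K)))) :
    ∃ c α β τ, α ≠ 0 ∧ β ≠ 0 ∧ Mor F ⊤ (dg α β τ) ∧ ∀ v, ρ k v = tq c (α * τ v.1, α * β * star β * τ v.2) := by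
  obtain ⟨t, α, β, τ, a0, b0, m, e⟩ := h.ext A_le_Q k0.1 k1
  refine ⟨-t.c, α, β, τ, a0, b0, m, fun v => ?_⟩
  obtain ⟨x, hx, rfl⟩ := pq_sur v
  rw [r.app k k0.1 x hx, e x hx, pq_cj (by simp [mem_sQ, mem_sQ.1 hx])]; rfl

omit [Fact p.Prime] in
theorem cjg (h : Mor F ⊤ (dg α β τ)) (g : MulAut (sQ K)) (g0 : g ∈ XQ F) : ∃ g' ∈ XQ F, ∀ v : K × K,
    ρ g' (α * τ v.1, α * β * star β * τ v.2) = (α * τ (ρ g v).1, α * β * star β * τ (ρ g v).2) := by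
  obtain ⟨φ, a, b⟩ := aut_Q h
  have m := mul_mem (mul_mem a g0.1) (Subgroup.inv_mem _ a)
  refine ⟨_, ⟨m, conj_mem_of_norm (stab_le_norm_fix (stab_Z φ)) g0.2⟩, fun v => ?_⟩
  obtain ⟨x, hx, rfl⟩ := pq_sur v
  rw [r.app g g0.1 x hx, show (α * τ (pq x).1, α * β * star β * τ (pq x).2) = pq (dg α β τ x) from rfl, ← b x hx,
    r.app _ m _ (fn_mem φ hx), fn_mul, fn_mul, fn_inv_fn, b _ (fn_mem g hx)]
  rfl

variable [CharP K p]

omit [Fact p.Prime] in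
theorem inn (hφ : φ ∈ XQ F) (e : ∀ x ∈ sQ K, pq (fn φ x) = pq x) : ∃ t ∈ sQ K, ∀ x ∈ sQ K, fn φ x = t * x * t⁻¹ := by
  have a : ∀ v, ρ φ v = v := fun v => by
    obtain ⟨x, hx, rfl⟩ := pq_sur v
    rw [r.app φ hφ.1 x hx, e x hx]
  obtain ⟨t, -, ht⟩ := mem_autInducedBy'.1 (r.sq.mem_T hφ (fun v => by rw [a]) fun u => a _)
  have := e _ (xs_mem 1)
  rw [ht _ (xs_mem 1), pq_cj (xs_mem 1)] at this
  exact ⟨t, by simpa [tq, mem_sQ] using congrArg (·.2) this, ht⟩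

omit [Fact p.Prime] in
theorem lift (a1 : α * star α = 1) (a2 : α ≠ 1) (b1 : β * star β = 1) (h : Mor F ⊤ (dg α β 1)) (hn : MulOn n (sQ K))
    (n0 : ∀ x ∈ sQ K, n x ∈ sQ K) (n1 : ∀ z ∈ sZ K, n z = z) (n2 : ∀ x ∈ sQ K, n (dg α β 1 x) = dg α β 1 (n x))
    (m0 : m ∈ XQ F) (e : ∀ x ∈ sQ K, pq (fn m x) = pq (n x)) : Mor F (sQ K) n := by
  have d0 : ∀ x ∈ sQ K, dg α β 1 x ∈ sQ K := fun x hx => by simp [mem_sQ, mem_sQ.1 hx]
  have d1 : ∀ z ∈ sZ K, dg α β 1 z = z := fun z hz => by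
    ext <;> simp [hz.1, hz.2.1, hz.2.2, a1, b1]
  have d2 : ∀ x : Sv K, pq (dg α β 1 x) = α • pq x := fun x => by simp [pq, mul_assoc α β, b1]
  have a3 := sub_ne_zero.2 a2
  have d3 : ∀ y ∈ sQ K, ∃ x ∈ sQ K, (x⁻¹ * dg α β 1 x)⁻¹ * y ∈ sZ K := fun y hy => by
    obtain ⟨x, hx, q⟩ := pq_sur ((α - 1)⁻¹ • pq y)
    refine ⟨x, hx, pq_inv (mul_mem (inv_mem hx) (d0 x hx)) hy (add_left_cancel (a := pq x) ?_)⟩
    rw [← pq_mul (mul_mem (inv_mem hx) (d0 x hx)), mul_inv_cancel_left, d2, q, smul_smul]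
    match_scalars
    field_simp
    ring
  obtain ⟨φ, c0, c1⟩ := aut_X (h.mono le_top) d0 d1
  obtain ⟨t, ht, c2⟩ := r.inn (mul_mem (mul_mem m0 c0) (inv_mem (mul_mem c0 m0))) fun x hx => by
    have := fn_mem (φ * m)⁻¹ hx
    rw [fn_mul, fn_mul, e _ (fn_mem φ this), c1 _ this, n2 _ this, d2, ← e _ this, ← d2, ← c1 _ (fn_mem m this), ← fn_mul,
      fn_fn_inv]
  obtain ⟨s, hs, c3⟩ := d3 t ht
  have c4 : ∀ x ∈ sQ K, s * fn m (dg α β 1 x) * s⁻¹ = dg α β 1 (s * fn m x * s⁻¹) := fun x hx => by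
    have := c2 _ (fn_mem (φ * m) hx)
    rw [fn_mul, fn_inv_fn, fn_mul, fn_mul, c1 x hx, c1 _ (fn_mem m hx)] at this
    rw [this, map_mul, map_mul, map_inv]
    conv_rhs => rw [← mul_inv_cancel_right (dg α β 1 (fn m x)) (_ * t), Z_comm c3]
    group
  have c5 : MulOn (cj s ∘ fn m) (sQ K) := (mulOn_fn m).comp (mulOn_cj s ⊤) fun _ _ => trivial
  refine ((mor_fn le_top m0.1).cj_comp (mem_top s)).congr fun y hy => ?_
  obtain ⟨x, hx, q⟩ := d3 y hy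
  have u : (n x)⁻¹ * (s * fn m x * s⁻¹) ∈ sZ K := pq_inv (n0 x hx) (conj_mem_of_norm (norm_Q s) (fn_mem m hx)) (by
    rw [← e x hx, pq_cj (fn_mem m hx)]; simp [tq, pq, mem_sQ.1 hs])
  have w := mul_mem (inv_mem hx) (d0 x hx)
  rw [← mul_inv_cancel_left (x⁻¹ * dg α β 1 x) y, hn w (Z_le_Q q), c5 w (Z_le_Q q), hn.map_inv_mul hx (d0 x hx),
    c5.map_inv_mul hx (d0 x hx), n1 _ q, n2 x hx]
  simp only [comp_apply, cj_apply]
  rw [m0.2 _ q, cj_Z q, c4 x hx, ← mul_inv_cancel_left (n x) (s * fn m x * s⁻¹), map_mul, d1 _ u,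
    Z_comm u (n x), Z_comm u (dg α β 1 (n x))]
  group

theorem br (hF : Sat F p) (st : ∀ g ∈ XQ F, g ∉ normalizer (TQ K : Set (MulAut (sQ K))) →
    Af ρ g ∧ ∃ a, star a = -a ∧ Gr ρ g a 0) {h0 : ε ≠ 0} {h1 : star ε = -ε} (hn : Mor F (sQ K) (nq ε h0 h1)) :
    Br F (sQ K) (nq ε h0 h1) := by
  obtain ⟨m, m0, m1⟩ := aut_X hn (fun x _ => nq_mem h0 h1 x) fun z => nq_Z h0 h1
  refine br_of hF A_le_Q inf_le_left (fun _ => r.frat) (fun _ a b _ => r.sq.dec st a b) m0 (fun n => h0 ?_) m1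
  have := r.sq.nW m0 n (w := pq (xu 1)) rfl
  rw [r.app m m0.1 _ (A_le_Q (xu_mem 1)), m1 _ (A_le_Q (xu_mem 1))] at this
  simpa using this

theorem nq (hF : Sat F p) (hE : F.IsEssential p (sQ K)) (st : ∀ g ∈ XQ F, g ∉ normalizer (TQ K : Set (MulAut (sQ K))) →
    Af ρ g ∧ ∃ a, star a = -a ∧ Gr ρ g a 0) (a1 : α * star α = 1) (a2 : α ≠ 1) (b1 : β * star β = 1)
    (h : Mor F ⊤ (dg α β 1)) (h0 : ε ≠ 0) (h1 : star ε = -ε) : Mor F (sQ K) (nq ε h0 h1) := by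
  obtain ⟨m, m0, m1⟩ := r.sq.mono st (r.mov hF hE) h0 h1
  refine r.lift a1 a2 b1 h (mulOn_nq h0 h1) (fun x _ => nq_mem h0 h1 x) (fun z => nq_Z h0 h1) (fun x _ => ?_) m0
    fun x hx => by rw [← r.app m m0.1 x hx, m1]; rfl
  ext <;> simp [mul_assoc α β, b1] <;> ring

theorem nq_two (h2 : ∀ r : K, star r = r → r = 0 ∨ r = 1) (hF : Sat F p) (hE : F.IsEssential p (sQ K))
    (st : ∀ g ∈ XQ F, g ∉ normalizer (TQ K : Set (MulAut (sQ K))) → Af ρ g ∧ ∃ a, star a = -a ∧ Gr ρ g a 0)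
    (h0 : ε ≠ 0) (h1 : star ε = -ε) : Mor F (sQ K) (FusV.nq ε h0 h1) := by
  obtain ⟨m, m0, m1⟩ := r.sq.mono st (r.mov hF hE) h0 h1
  obtain ⟨N, e⟩ := (piso_nq h0 h1).exists_aut
  obtain ⟨t, ht⟩ := inn_two h2 (δ := N * m⁻¹) (fun x hx => by
    rw [fn_mul, e _ (fn_mem _ hx), ← fn_fn_inv m x, ← r.app m m0.1 _ (fn_mem _ hx), m1, fn_inv_fn]; rfl) fun z hz => by
      rw [fn_mul, (inv_mem m0).2 z hz, e z (Z_le_Q hz), nq_Z h0 h1 hz]
  exact ((mor_fn le_top m0.1).cj_comp (mem_top t)).congr fun x hx => by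
    rw [comp_apply, cj_apply, ← ht _ (fn_mem m hx), fn_mul, fn_inv_fn, e x hx]

omit [Fact p.Prime] in
theorem st_two (h2 : (2 : K) = 0) (g : MulAut (sQ K)) (g0 : g ∈ XQ F) (g1 : g ∉ normalizer (TQ K : Set (MulAut (sQ K)))) :
    Af ρ g ∧ ∃ a, star a = -a ∧ Gr ρ g a 0 :=
  have af := r.sq.af_two h2 g0 g1
  let ⟨a, _, a1, a2⟩ := r.sq.graph g0 af
  ⟨af, a, a1, r.sq.d_two h2 g0 af a1 a2 ▸ a2⟩

omit [Fact p.Prime] [CharP K p] in
theorem hH (tor : ∀ μ : K, μ ≠ 0 → Mor F ⊤ (dg (μ ^ 2) μ⁻¹ 1)) (μ : K) (m0 : μ ≠ 0) (g : MulAut (sQ K)) (g0 : g ∈ XQ F) :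
    ∃ g' ∈ XQ F, ∀ v : K × K, ρ g' (μ ^ 2 * v.1, μ / star μ * v.2) = (μ ^ 2 * (ρ g v).1, μ / star μ * (ρ g v).2) := by
  have := r.cjg (tor μ m0) g g0
  rwa [show μ ^ 2 * μ⁻¹ * star μ⁻¹ = μ / star μ by rw [star_inv₀]; field_simp] at this

theorem st_odd (h : Sj F p) {q : ℕ} (hq : Nat.card K = q ^ 2) (hs : ∀ x : K, star x = x ^ q) (h5 : 5 ≤ q) (ho : Odd q)
    (h2 : (2 : K) ≠ 0) (g : MulAut (sQ K)) (g0 : g ∈ XQ F) (g1 : g ∉ normalizer (TQ K : Set (MulAut (sQ K)))) :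
    Af ρ g ∧ ∃ a, star a = -a ∧ Gr ρ g a 0 := by
  classical
  obtain ⟨κ, k1, k2⟩ := exists_real (K := K) {0, 1, -1} (by
    rw [hq]; exact Nat.pow_lt_pow_left (Finset.card_le_three.trans_lt (by omega)) two_ne_zero)
  simp only [Finset.mem_insert, Finset.mem_singleton, not_or] at k2
  have af := fun g a b => r.sq.af_odd (g := g) h2 (fun k k0 k1 => by
    obtain ⟨c, α, β, τ, -, -, -, e⟩ := r.hN h.toNm k k0 k1
    exact ⟨α * β * star β, τ, fun u => by simp [e, tq]⟩) k1 k2.1 (by simp [k2]) a b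
  obtain ⟨a, d, a1, a2⟩ := r.sq.graph g0 (af g g0 g1)
  exact ⟨af g g0 g1, a, a1, r.sq.d_big hq hs h5 ho af (r.hH fun _ => h.tor) g0 g1 a1 a2 ▸ a2⟩

end AQ

theorem br_two [CharP K p] (h2 : (2 : K) = 0) {h0 : ε ≠ 0} {h1 : star ε = -ε} (hF : Sat F p)
    (hn : Mor F (sQ K) (nq ε h0 h1)) : Br F (sQ K) (nq ε h0 h1) :=
  let ⟨_, r⟩ := exists_aq hF
  r.br hF (r.st_two h2) hn

theorem Sj.scal [CharP K p] (h : Sj F p) :
    ∃ α β : K, α * star α = 1 ∧ α ≠ 1 ∧ β * star β = 1 ∧ Mor F ⊤ (dg α β 1) :=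
  let ⟨μ, m0, m1, m2⟩ := exists_nu (K := K)
  ⟨_, _, by rw [star_pow, ← mul_pow, m1, one_pow], m2, by rw [star_inv₀, ← mul_inv, m1, inv_one], h.tor m0⟩

end CF.FusV
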