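import Cfsg.Agent.FusV.I
import Cfsg.Agent.FusV.G

/-! Saturated fusion systems on a Sylow `p`-subgroup of `SU₄(q)`: comparison with witnesses, the generic case. -/

set_option autoImplicit false
set_option linter.style.haveILetI false

namespace CF.FusV

open Cfsg Cfsg.FusionSystem Subgroup CF.Fus CF.FusD Function Sv
open CF.FusU (cm mul_cm cm_eq_one Uf exists_sk fn_cm fn_comm)

universe u

variable {K : Type u} [Field K] [StarRing K] {x y z t : Sv K} {f g n : Sv K → Sv K} {a α β γ δ μ ε : K}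
  {P : Subgroup (Sv K)} {σ τ : K ≃+* K}

/-- transport along field isomorphisms -/
@[simps] def trS {L : Type*} [Field L] [StarRing L] (e : K ≃+* L) (h : ∀ a, e (star a) = star (e a)) (x : Sv K) : Sv L :=
  ⟨e x.s, e x.c, e x.u, e x.z, by simp [← h], by simp [← h]⟩

theorem piso_trS {L : Type*} [Field L] [StarRing L] (e : K ≃+* L) (h : ∀ a, e (star a) = star (e a)) :
    PIso (trS e h) ⊤ ⊤ :=
  .of_inverse (g := trS e.symm fun a => e.injective (by simp [h])) (fun x _ y _ => by ext <;> simp [h])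
    (fun _ _ => trivial) (fun _ _ => trivial) (fun x _ => by ext <;> simp) fun x _ => by ext <;> simp

variable [Uf K]

theorem img_E (a0 : α ≠ 0) (b0 : β ≠ 0) : img (dg α β 1) (sE a) = sE (α * a) := by
  refine le_antisymm (img_le_iff.2 fun x hx => ?_) fun x hx => ?_
  · simp only [mem_sE, dg_s, RingAut.one_apply, star_mul'] at hx ⊢
    linear_combination α * star α * hx
  obtain ⟨y, -, rfl⟩ := (piso_dg (τ := 1) a0 b0).surj (mem_top x)
  refine mem_img_of_mem (mul_left_cancel₀ (mul_ne_zero a0 (star_ne_zero.2 a0)) ?_)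
  simp only [mem_sE, dg_s, RingAut.one_apply, star_mul'] at hx
  linear_combination hx

variable {p : ℕ} [Fact p.Prime] {E F : FusionSystem (⊤ : Subgroup (Sv K))} {G : Type*} [Group G] {φ : Sv K →* G}
  {W : K → K → (K ≃+* K) → Prop}

theorem two_of (hF : Sat F p) (h : 2 ^ 2 < Nat.card K) : Two F p := fun P hP => by
  classical
  obtain ⟨r, r1, r2⟩ := exists_real (K := K) {0, 1} ((Nat.pow_le_pow_left Finset.card_le_two 2).trans_lt h)
  rcases ess_three hF hP with e | e | ⟨-, e⟩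
  exacts [.inl e, .inr e, absurd (by simpa using e r r1) r2]

theorem Two.both (h : Two F p) (hF : Sat F p) (hc : F.core = ⊥) : F.IsEssential p (sQ K) ∧ F.IsEssential p (sJ K) := by
  have k : ∀ P, sA K ≤ P → (∀ f, PIso f ⊤ ⊤ → ∀ x ∈ P, f x ∈ P) → ¬ ∀ R, F.IsEssential p R → R = P :=
    fun P h1 h2 h3 => by
      have := le_core (hF.normal_of_ess (Q := P) fun R hR => by
        rcases hR with rfl | hR
        · exact ⟨le_top, fun α _ => mem_stab_of_maps le_top (h2 _ (piso_fn α))⟩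
        · obtain rfl := h3 R hR
          exact ⟨le_rfl, stab_self.ge.trans' le_top⟩) (h1 (xu_mem 1))
      rw [hc] at this
      simpa using congrArg Sv.u (mem_bot.1 this)
  exact ⟨by_contra fun c => k _ A_le_J (fun _ h _ => map_J h) fun R hR => (h R hR).resolve_left fun e => c (e ▸ hR),
    by_contra fun c => k _ A_le_Q (fun _ h _ => map_Q h) fun R hR => (h R hR).resolve_right fun e => c (e ▸ hR)⟩

theorem Wt.sys (w : Wt p φ W) : ∃ E : FusionSystem (⊤ : Subgroup (Sv K)),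
    Real E p φ ⊤ ∧ Nm E p ∧ ∀ P f, Rl φ P f ↔ Mor E P f := by
  haveI := w.fin
  have i : PIso φ ⊤ φ.range := φ.range_eq_map ▸ piso_hom φ w.inj ⊤
  obtain ⟨E, e⟩ := exists_fiso (FG ⊤ φ.range le_top) i.symm
  have r := (e.symm' fun x hx => i.apply_pinv hx).toReal (p := p) w.syl
  have k : ∀ P f, Rl φ P f ↔ Mor E P f := fun P f =>
    ⟨fun ⟨g, q⟩ => r.mor' le_top (mem_top g) (fun _ _ => trivial) q, fun h => let ⟨g, _, q⟩ := r.real h; ⟨g, q⟩⟩
  refine ⟨E, r, ⟨r.sat, fun f hf => ?_⟩, k⟩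
  obtain ⟨g, q⟩ := (k _ _).2 hf
  obtain ⟨t, α, β, τ, a0, b0, m, q1⟩ := w.top g fun x => ⟨_, q x trivial⟩
  exact ⟨t, α, β, τ, a0, b0, (k _ _).1 (w.w α β τ a0 b0 m), fun x => w.inj ((q x trivial).symm.trans (q1 x))⟩

theorem dg_of_pow (hF : Sat F p) (a0 : α ≠ 0) (m : Mor F ⊤ (dg α β τ)) (h : ∀ x, (dg α β τ)^[p] x = x) (x : Sv K) :
    dg α β τ x = x := by
  obtain ⟨ψ, h1, h2⟩ := m.iso_top.exists_aut
  have k : ∀ (n : ℕ) x, fn (ψ ^ n) x = (dg α β τ)^[n] x := fun n x => by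
    induction n with
    | zero => simp
    | succ n ih => rw [fn_pow_succ, ih, h2 _ trivial, iterate_succ_apply']
  obtain ⟨t, -, rfl⟩ := mem_Inn.1 (hF.mem_Inn_top h1 (k := 1) (aut_ext fun x _ => by rw [pow_one, k, h, fn_one]))
  have k2 : ∀ x, dg α β τ x = t * x * t⁻¹ := fun x => by
    rw [← h2 x trivial, fn_cA (le_normalizer (mem_top t)) trivial]
  obtain ⟨rfl, rfl⟩ := one_of (β := 1) a0 fun s => by simpa using congrArg Sv.s (k2 (xs s))
  obtain ⟨c, c0, c1⟩ := exists_sk (K := K)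
  rw [dg_congr (δ := 1) (by simpa [c0] using congrArg Sv.c (k2 (xc c c1))), dg_one]

variable [CharP K p]

theorem rz_of (h : Sj F p) (w : Wt p φ W) (hW : ∀ α β τ, α ≠ 0 → β ≠ 0 → (W α β τ ↔ Mor F ⊤ (dg α β τ)))
    (H : ∀ E, Nm E p → (∀ P f, Rl φ P f ↔ Mor E P f) → (∀ f, Mor E ⊤ f ↔ Mor F ⊤ f) →
      Two E p ∧ E.autGroup (sQ K) = F.autGroup (sQ K)) : Rz F p := by
  obtain ⟨E, r, h1, k⟩ := w.sys
  have t : ∀ f, Mor E ⊤ f ↔ Mor F ⊤ f := fun f => ⟨fun hf => by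
    obtain ⟨g, q⟩ := (k _ _).2 hf
    obtain ⟨t, α, β, τ, a0, b0, m, q1⟩ := w.top g fun x => ⟨_, q x trivial⟩
    exact (((hW α β τ a0 b0).1 m).cj_comp (mem_top t)).congr fun x _ => w.inj ((q x trivial).symm.trans (q1 x)),
    fun hf => by
    obtain ⟨t, α, β, τ, a0, b0, m, q⟩ := h.top f hf
    exact (((k _ _).1 (w.w α β τ a0 b0 ((hW α β τ a0 b0).2 m))).cj_comp (mem_top t)).congr fun x _ => q x⟩
  obtain ⟨h2, h3⟩ := H E h1 k t
  have s : Sj E p := ⟨h1, h2, (k _ _).1 w.nj⟩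
  exact eq_of_sub (h2.sub r.sat (fun f => (t f).1) (s.brJ.le (fun _ h _ => map_J h) (fun f => (t f).1) h.nj) h3.le)
    (h.two.sub h.sat (fun f => (t f).2) (h.brJ.le (fun _ h _ => map_J h) (fun f => (t f).2) s.nj) h3.ge) ▸ exists_shrink r

theorem Sj.tor2 (h : Sj F p) (q : ∀ ε h0 h1, Mor F (sQ K) (nq ε h0 h1)) {d e : K} (d0 : d ≠ 0) (e0 : e ≠ 0)
    (r : star (d * e) = d * e) : Mor F ⊤ (dg (d / e) e 1) := by
  obtain ⟨c, c0, c1⟩ := exists_sk (K := K)
  have l0 := mul_ne_zero d0 e0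
  have a := mor_dg_mul (h.tor d0) (h.toNm.mor_dg (β := d * e) (τ := 1) (inv_ne_zero l0)
    (((q (-c) (neg_ne_zero.2 c0) (by simp [c1])).comp (q (c / (d * e)) (div_ne_zero c0 l0)
      (by rw [star_div₀, c1, r, neg_div])) fun x _ => nq_mem _ _ x).congr fun x hx => by
        ext <;> simp only [dg_s, dg_c, dg_u, dg_z, star_inv₀, r, comp_apply, nq_s, nq_c, nq_u, nq_z, mem_sQ.1 hx,
          RingAut.one_apply, mul_zero] <;> field_simp))
  rwa [RingAut.one_apply, RingAut.one_apply, mul_one, show d ^ 2 * (d * e)⁻¹ = d / e by field_simp,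
    show d⁻¹ * (d * e) = e by field_simp] at a

variable [Fintype K] {m : ℕ} (hn : 1 ≤ m) (hK : Fintype.card K = (p ^ m) ^ 2) (hs : ∀ x : K, star x = x ^ p ^ m)
include hn hK hs

theorem rz_gen (h : Sj F p) (hE : F.IsEssential p (sQ K))
    (two : ∀ E : FusionSystem (⊤ : Subgroup (Sv K)), Sat E p → (∀ μ : K, μ ≠ 0 → Mor E ⊤ (dg (μ ^ 2) μ⁻¹ 1)) → Two E p)
    (st : ∀ E : FusionSystem (⊤ : Subgroup (Sv K)), ∀ ρ, Sj E p → AQ E p ρ → ∀ g ∈ XQ E,
      g ∉ normalizer (TQ K : Set (MulAut (sQ K))) → Af ρ g ∧ ∃ a, star a = -a ∧ Gr ρ g a 0) : Rz F p := by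
  obtain ⟨ρ, r⟩ := exists_aq h.sat
  obtain ⟨α, β, a1, a2, b1, m⟩ := h.scal
  have q := fun ε => r.nq (ε := ε) h.sat hE (st F ρ h r) a1 a2 b1 m
  obtain ⟨G, _, φ, w, k⟩ := wt_gen hn hK hs (fun a b t => Mor F ⊤ (dg a b t)) (fun _ _ _ _ _ _ => mor_dg_mul)
    (fun _ _ => h.tor2 q) fun _ _ _ a0 _ => dg_of_pow h.sat a0
  refine rz_of h w (fun _ _ _ _ _ => Iff.rfl) fun E h1 h2 h3 => ?_
  have h4 := two E h1.sat fun μ m0 => (h3 _).2 (h.tor m0)
  obtain ⟨ρ', r'⟩ := exists_aq h1.sat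
  obtain ⟨c, c0, c1⟩ := exists_sk (K := K)
  have h5 := (h2 _ _).1 (k c c0 c1)
  exact ⟨h4, le_antisymm
    ((r'.br h1.sat (st E ρ' ⟨h1, h4, (h2 _ _).1 w.nj⟩ r') h5).le (fun _ h _ => map_Q h) (fun f => (h3 f).1) (q c c0 c1))
    ((r.br h.sat (st F ρ h r) (q c c0 c1)).le (fun _ h _ => map_Q h) (fun f => (h3 f).2) h5)⟩

omit hn hK hs [Fintype K] in
theorem rz_sj (hF : Sat F p) (hc : F.core = ⊥) (two : Two F p)
    (H : ∀ E : FusionSystem (⊤ : Subgroup (Sv K)), Sj E p → E.IsEssential p (sQ K) → Rz E p) : Rz F p := by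
  obtain ⟨E, f, i, h⟩ := exists_nm hF
  obtain ⟨h1, h2⟩ := two.both hF hc
  obtain ⟨D, g, j, k⟩ := exists_sj h (two.fiso hF i) (img_J i.piso ▸ i.ess hF h2)
  exact (H D k (img_Q (i.trans j).piso ▸ (i.trans j).ess hF h1)).of_fiso (i.trans j)

theorem rz_big (h4 : 4 ≤ p ^ m) (hF : Sat F p) (hc : F.core = ⊥) : Rz F p := by
  have hq := Nat.card_eq_fintype_card.trans hK
  have c : 2 ^ 2 < Nat.card K := by rw [hq]; exact Nat.pow_lt_pow_left (by omega) two_ne_zero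
  refine rz_sj hF hc (two_of hF c) fun E h hE => rz_gen hn hK hs h hE (fun E hE _ => two_of hE c) fun E ρ h r => ?_
  rcases (Fact.out : p.Prime).eq_two_or_odd' with rfl | o
  · exact r.st_two (CharP.cast_eq_zero K 2)
  have o1 : Odd (p ^ m) := o.pow
  refine r.st_odd h hq hs (by obtain ⟨k, e⟩ := o1; omega) o1 fun c => ?_
  have := (Nat.prime_dvd_prime_iff_eq Fact.out Nat.prime_two).1 ((CharP.cast_eq_zero_iff K p 2).1 c)
  exact absurd (this ▸ o) (by decide)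

end CF.FusV
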