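import Cfsg.Agent.FusV.W1

/-! Automorphisms of the Sylow `3`-subgroup of `PSU₄(3)` induced by elements of `Co0`. -/

set_option autoImplicit false
set_option maxRecDepth 100000
set_option Elab.async false

namespace CF.FusV.W

open Cfsg CF.Comp CF.Schur.Pc CF.Leech CF.Fus Function MulAction
open CF.FusU (Uf)
open scoped Pointwise

theorem cj_of {i : ℕ} {d : K9} (h0 : F i • e d = e 0) {x y : Sv K9}
    (h : bsame 24 MW ([2 * i + 1] ++ wr x ++ [2 * i + 2]) (wr y) = true) : F i * ψ x * (F i)⁻¹ = ψ y := by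
  have := same h
  rw [ev_append, ev_append, ev_single, ev_cons, evL_even, ev_nil, mul_one] at this
  exact eq_of_fix this (by rw [mul_smul, mul_smul, ← h0, inv_smul_smul, ψ_fix]) (ψ_fix _ _)

theorem cj_mul {g : Co0} {f : Sv K9 → Sv K9} {P : Subgroup (Sv K9)} (m : MulOn f P) (x y : Sv K9)
    (a : x ∈ P ∧ g * ψ x * g⁻¹ = ψ (f x)) (b : y ∈ P ∧ g * ψ y * g⁻¹ = ψ (f y)) :
    x * y ∈ P ∧ g * ψ (x * y) * g⁻¹ = ψ (f (x * y)) :=
  ⟨mul_mem a.1 b.1, by rw [m a.1 b.1, map_mul, map_mul, ← a.2, ← b.2]; group⟩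

theorem cj_top {i : ℕ} {d : K9} (h0 : F i • e d = e 0) (f : Sv K9 →* Sv K9)
    (h : ∀ x ∈ [xs 1, xs ii, xc ii ii_sk], bsame 24 MW ([2 * i + 1] ++ wr x ++ [2 * i + 2]) (wr (f x)) = true)
    (x : Sv K9) : F i * ψ x * (F i)⁻¹ = ψ (f x) :=
  (ind3 (cj_mul (mulOn_hom f ⊤)) ⟨trivial, cj_of h0 (h _ (by simp))⟩ ⟨trivial, cj_of h0 (h _ (by simp))⟩
    ⟨trivial, cj_of h0 (h _ (by simp))⟩ x).2

theorem rl_nj {x : Sv K9} (hx : x ∈ sJ K9) : F 6 * ψ x * (F 6)⁻¹ = ψ (nj x) := by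
  have h0 := fixF (i := 6) (by decide) 0
  have m := cj_mul (g := F 6) (mulOn_nj (K := K9))
  have u := ind_u m ⟨rfl, cj_of h0 (by decide +kernel)⟩ ⟨rfl, cj_of h0 (by decide +kernel)⟩
  refine (ind m x ?_ (ind_c m ⟨rfl, cj_of h0 (by decide +kernel)⟩ _ _) u ⟨rfl, cj_of h0 (by decide +kernel)⟩).2
  rw [mem_sJ.1 hx]; exact u 0

theorem fix_q {c : K9} (h : gam c ≠ 8) : F 7 • e c = e c := by
  have : ∀ c : K9, gam c ≠ 8 → xorSel (nth [] AW 7) (nth 0 CW (ix c)) = nth 0 CW (ix c) ∧ gam (c - 0) = gam c := by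
    decide +kernel
  exact act_e (by decide) id (by decide +kernel) c (this c h)

theorem rl_nq {x : Sv K9} (hx : x ∈ sQ K9) : F 7 * ψ x * (F 7)⁻¹ = ψ (nq ii ii_ne ii_sk x) := by
  have h0 := fix_q (c := 0) (by decide)
  have m := cj_mul (g := F 7) (mulOn_nq ii_ne ii_sk)
  have u := ind_u m ⟨rfl, cj_of h0 (by decide +kernel)⟩ ⟨rfl, cj_of h0 (by decide +kernel)⟩
  refine (ind m x (ind_s m ⟨rfl, cj_of h0 (by decide +kernel)⟩ ⟨rfl, cj_of h0 (by decide +kernel)⟩ _) ?_ u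
    ⟨rfl, cj_of h0 (by decide +kernel)⟩).2
  rw [show xc x.c x.hc = xu 0 from Sv.ext rfl hx rfl rfl]; exact u 0

/-- an element inducing a diagonal automorphism -/
def Tt (t : Co0) (a b : K9) (τ : K9 ≃+* K9) : Prop :=
  (∀ x, t * ψ x * t⁻¹ = ψ (dg a b τ x)) ∧ ∀ d, t • e d = e (act a b τ d)

theorem act_act (a b c d x : K9) (σ τ : K9 ≃+* K9) :
    act a b σ (act c d τ x) = act (a * σ c) (b * σ d) (σ * τ) x := by
  simp only [act, map_mul, map_inv₀, Uf.aut, star_mul', RingAut.mul_apply, div_eq_mul_inv, mul_inv]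
  ring

theorem Tt.mul {s t : Co0} {a b c d : K9} {σ τ : K9 ≃+* K9} (h : Tt s a b σ) (k : Tt t c d τ) :
    Tt (s * t) (a * σ c) (b * σ d) (σ * τ) :=
  ⟨fun x => by rw [← dg_dg, ← h.1, ← k.1]; group, fun x => by rw [mul_smul, k.2, h.2, act_act]⟩

theorem tt_of {i : ℕ} (hi : i < 13) (a b : K9) (τ : K9 ≃+* K9)
    (h : nth 0 (nth [] YW i) 0 = nth 0 EW (ix (act a b τ 0)) ∧ act a b τ 0 = 0 ∧
      (∀ d, xorSel (nth [] AW i) (nth 0 CW (ix d)) = nth 0 CW (ix (act a b τ d)) ∧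
        gam (act a b τ d - act a b τ 0) = gam d) ∧ ∀ x ∈ [xs 1, xs ii, xc ii ii_sk],
      bsame 24 MW ([2 * i + 1] ++ wr x ++ [2 * i + 2]) (wr (dg a b τ x)) = true) : Tt (F i) a b τ :=
  have a := fun d => act_e hi _ h.1 d (h.2.2.1 d)
  ⟨cj_top (d := 0) (by rw [a, h.2.1]) _ h.2.2.2, a⟩

theorem aut_cases (τ : K9 ≃+* K9) : τ = 1 ∨ τ = starRingAut := by
  have a : ∀ y : K9, y * y = -1 → y = ii ∨ y = star ii := by decide +kernel
  have b : ∀ σ : K9 ≃+* K9, τ ii = σ ii → τ = σ := fun σ h => RingEquiv.ext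
    (indK (R := fun x => τ x = σ x) (fun x y p q => by rw [map_add, map_add, p, q]) (by simp) h)
  exact (a (τ ii) (by rw [← map_mul, show ii * ii = -1 by decide +kernel, map_neg, map_one])).imp (b 1) (b starRingAut)

theorem exists_tt {a b : K9} (ha : a ≠ 0) (hb : b ≠ 0) (τ : K9 ≃+* K9) : ∃ t, Tt t a b τ := by
  have o : Tt 1 1 1 1 := ⟨fun x => by simp [dg_one], fun d => by simp [act]⟩
  have p : ∀ a : K9, a ≠ 0 → ∃ k < 8, a = (1 + ii) ^ k := by decide +kernel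
  have t1 : ∀ k : ℕ, ∃ t, Tt t ((1 + ii) ^ k) 1 1 := fun k => by
    induction k with
    | zero => exact ⟨1, o⟩
    | succ k ih =>
      obtain ⟨t, h⟩ := ih
      exact ⟨_, by simpa [pow_succ] using h.mul (tt_of (i := 8) (by decide) (1 + ii) 1 1 (by decide +kernel))⟩
  have t2 : ∀ k : ℕ, ∃ t, Tt t 1 ((1 + ii) ^ k) 1 := fun k => by
    induction k with
    | zero => exact ⟨1, o⟩
    | succ k ih =>
      obtain ⟨t, h⟩ := ih
      exact ⟨_, by simpa [pow_succ] using h.mul (tt_of (i := 9) (by decide) 1 (1 + ii) 1 (by decide +kernel))⟩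
  have t3 : ∃ t, Tt t 1 1 τ := by
    rcases aut_cases τ with rfl | rfl
    exacts [⟨1, o⟩, ⟨_, tt_of (i := 10) (by decide) 1 1 starRingAut (by decide +kernel)⟩]
  obtain ⟨k, -, rfl⟩ := p a ha
  obtain ⟨l, -, rfl⟩ := p b hb
  obtain ⟨r, h1⟩ := t1 k
  obtain ⟨s, h2⟩ := t2 l
  obtain ⟨t, h3⟩ := t3
  exact ⟨_, by simpa using (h1.mul h2).mul h3⟩

theorem nu_nu (a b : K9) (x : Sv K9) : nu a (nu b x) = nu (a + b) x := by
  refine Sv.ext rfl rfl ?_ ?_ <;> simp [nu] <;> ring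

theorem exists_shift (d : K9) : ∃ y : Co0, (∀ x, y * ψ x * y⁻¹ = ψ (nu d x)) ∧ ∀ c, y • e c = e (c + d) := by
  have k : ∀ i < 13, ∀ d : K9, (nth 0 (nth [] YW i) 0 = nth 0 EW (ix (0 + d)) ∧
      (∀ c, xorSel (nth [] AW i) (nth 0 CW (ix c)) = nth 0 CW (ix (c + d)) ∧ gam (c + d - (0 + d)) = gam c) ∧
      ∀ x ∈ [xs 1, xs ii, xc ii ii_sk], bsame 24 MW ([2 * i + 1] ++ wr x ++ [2 * i + 2]) (wr (nu d x)) = true) →
      ∃ y : Co0, (∀ x, y * ψ x * y⁻¹ = ψ (nu d x)) ∧ ∀ c, y • e c = e (c + d) := fun i hi d h =>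
    have a := fun c => act_e hi (· + d) h.1 c (h.2.1 c)
    ⟨F i, cj_top (d := -d) (by rw [a, neg_add_cancel]) _ h.2.2, a⟩
  refine indK (R := fun d => ∃ y : Co0, (∀ x, y * ψ x * y⁻¹ = ψ (nu d x)) ∧ ∀ c, y • e c = e (c + d)) ?_
    (k 11 (by decide) _ (by decide +kernel)) (k 12 (by decide) _ (by decide +kernel)) d
  rintro a b ⟨y, y1, y2⟩ ⟨z, z1, z2⟩
  exact ⟨y * z, fun x => by rw [← nu_nu, ← y1, ← z1]; group, fun c => by rw [mul_smul, z2, y2, add_assoc, add_comm b]⟩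

theorem exists_nd (d : K9) : ∃ g : Co0, (∀ x ∈ sQ K9, g * ψ x * g⁻¹ = ψ (nd d x)) ∧
    ∀ c, gam (c - d) ≠ 8 → g • e c = e c := by
  obtain ⟨y, y1, y2⟩ := exists_shift d
  refine ⟨y * F 7 * y⁻¹, fun x hx => ?_, fun c h => ?_⟩
  · have : ψ x = y * ψ (nu (-d) x) * y⁻¹ := by
      rw [y1, nu_nu, add_neg_cancel]; congr 1; refine Sv.ext rfl rfl ?_ ?_ <;> simp [nu]
    rw [nd, ← y1, ← rl_nq (x := nu (-d) x) hx, this]; group
  · rw [← sub_add_cancel c d, ← y2, mul_smul, inv_smul_smul, mul_smul, fix_q h]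

end CF.FusV.W
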