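import Cfsg.Agent.FusV.I
import Cfsg.Agent.FusV.W2

/-! Subgroups of `Sp₄(3)` with a short root subgroup as a Sylow subgroup. -/

set_option autoImplicit false
set_option linter.style.haveILetI false

namespace CF.FusV

open Subgroup CF.Fus CF.FusD Function
open CF.FusU (Uf)

/-- additive endomorphisms -/
abbrev En := AddMonoid.End (K9 × K9)

/-- generators -/
def tE (c : K9) : En := AddMonoidHom.mk' (tq c) fun v w => by simp [tq]; ring
/-- generators -/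
def nE (d : K9) : En := AddMonoidHom.mk' (fun v => (v.1, v.2 + d * star v.1)) fun v w => by simp; ring
/-- generators -/
def lE (a e : K9) : En := AddMonoidHom.mk' (fun v => (v.1 + (a * v.2 + e * star v.2), v.2)) fun v w => by simp; ring
/-- generators -/
def bE : En := AddMonoidHom.mk' (fun v => (ii * v.2, ii * v.1)) fun v w => by simp [mul_add]
/-- generators -/
def dE (α γ : K9) : En := AddMonoidHom.mk' (fun v => (α * star v.1, γ * star v.2)) fun v w => by simp [mul_add]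
/-- shifted Weyl elements -/
def NE (d : K9) : En := nE d * bE * nE (-d)

@[simp] theorem tE_app (c : K9) (v : K9 × K9) : tE c v = (v.1, v.2 + c * v.1) := rfl
@[simp] theorem nE_app (d : K9) (v : K9 × K9) : nE d v = (v.1, v.2 + d * star v.1) := rfl
@[simp] theorem lE_app (a e : K9) (v : K9 × K9) : lE a e v = (v.1 + (a * v.2 + e * star v.2), v.2) := rfl
@[simp] theorem dE_app (a e : K9) (v : K9 × K9) : dE a e v = (a * star v.1, e * star v.2) := rfl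

/-- equality on a basis -/
def Eq4 (f g : En) : Prop := ∀ v ∈ [((1, 0) : K9 × K9), (ii, 0), (0, 1), (0, ii)], f v = g v

instance decEq4 (f g : En) : Decidable (Eq4 f g) := List.decidableBAll _ _

theorem Eq4.eq {f g : En} (h : Eq4 f g) : f = g := DFunLike.ext _ _ fun v => by
  simp only [Eq4, List.forall_mem_cons] at h
  have a : ∀ s, f (s, 0) = g (s, 0) := W.indK (fun a b h k => by
    rw [show ((a + b, 0) : K9 × K9) = (a, 0) + (b, 0) by simp, map_add, map_add, h, k]) h.1 h.2.1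
  have b : ∀ s, f (0, s) = g (0, s) := W.indK (fun a b h k => by
    rw [show ((0, a + b) : K9 × K9) = (0, a) + (0, b) by simp, map_add, map_add, h, k]) h.2.2.1 h.2.2.2.1
  rw [show v = (v.1, 0) + (0, v.2) by simp, map_add, map_add, a, b]

/-- words -/
def wE (x y : En) (w : List ℕ) : En := (w.map fun i => if i = 0 then tE ii else if i = 1 then x else y).prod

variable {M : Submonoid En} {x y : En} {a c d e : K9}

theorem wE_mem (h : tE ii ∈ M) (hx : x ∈ M) (hy : y ∈ M) (w : List ℕ) : wE x y w ∈ M :=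
  M.list_prod_mem fun f hf => by
    obtain ⟨i, -, rfl⟩ := List.mem_map.1 hf
    split_ifs <;> assumption

theorem w_std : ∀ d, Eq4 (wE (nE d * lE ii 0 * nE (-d)) 1 [0, 1, 0]) (NE d) ∧
    Eq4 (wE (nE d * lE (-ii) 0 * nE (-d)) 1 [0, 1, 1, 0]) (NE d) := by decide +kernel

theorem w_non : ∀ d e, e * star e = -1 → Eq4 (wE (nE d * lE 0 e * nE (-d)) 1 [0, 1, 1, 0, 0, 1, 0]) (NE (d + e)) ∧
    Eq4 (wE (nE d * lE 0 e * nE (-d)) 1 [0, 1, 0, 0, 1, 1, 0]) (NE (d - e)) ∧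
    ∀ u, (wE (NE (d + e)) (NE (d - e)) [0, 0, 1, 0, 2] (0, u)).2 =
      0 * (wE (NE (d + e)) (NE (d - e)) [0, 0, 1, 0, 2] (0, u)).1 +
        d * star (wE (NE (d + e)) (NE (d - e)) [0, 0, 1, 0, 2] (0, u)).1 := by decide +kernel

theorem w_gr : ∀ d u, (NE d (0, u)).2 = 0 * (NE d (0, u)).1 + d * star (NE d (0, u)).1 := by decide +kernel

theorem w_r1 : ∀ c d, (d - c) * star (d - c) = 1 → Eq4 (wE (NE c) (NE d) [0, 1, 2, 0, 2, 1, 0]) (NE (-(c + d))) ∧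
    Eq4 (wE (NE c) (NE d) [1, 2, 0, 1, 2, 0, 1, 2])
      (tE (-ii) * nE ((c - d) ^ 2 * star (c + d) - (c + d)) * dE (ii * (d - c)) ((c - d) ^ 2 * star (ii * (d - c)))) := by
  decide +kernel

theorem w_r2 : ∀ c d, c ≠ d → (d - c) * star (d - c) ≠ 1 → Eq4 (wE (NE c) (NE d) [1, 2, 1])
    (tE 0 * nE ((c - d) ^ 2 * star (c + d) - (c + d)) * dE (ii * (c - d)) ((c - d) ^ 2 * star (ii * (c - d)))) := by
  decide +kernel

theorem w_lE : ∀ a e, om (lE a e (0, 1)) (lE a e (0, ii)) = om (0, 1) (0, ii) →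
    (∀ u ≠ 0, om (0, u) (lE a e (0, u)) ≠ 0) → a = ii ∧ e = 0 ∨ a = -ii ∧ e = 0 ∨ a = 0 ∧ e * star e = -1 := by
  decide +kernel

theorem w_col : ∀ w d : K9, w ≠ 0 → ∃ c, star c = -c ∧ ∀ a b, star a = a → star b = b →
    a * w + c * (b * w) = d * star (b * w) → a = 0 ∧ b = 0 := by decide +kernel

theorem two9 : (2 : K9) ≠ 0 := by decide

variable {G : Type*} [Group G] {X T Y : Subgroup G} {ρ : G → K9 × K9 →+ K9 × K9} {g : G}

/-- the endomorphisms induced by a subgroup -/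
def im3 (r : Rp X ρ) (Y : Subgroup G) : Submonoid En where
  carrier := {f | ∃ g ∈ X, g ∈ Y ∧ ∀ v, ρ g v = f v}
  one_mem' := ⟨1, one_mem _, one_mem _, r.one⟩
  mul_mem' := by
    rintro f k ⟨a, a1, a2, a3⟩ ⟨b, b1, b2, b3⟩
    exact ⟨_, mul_mem a1 b1, mul_mem a2 b2, fun v => by rw [r.mul a a1 b b1, a3, b3]; rfl⟩

namespace Sq

variable (h : Sq 3 X T ρ)
include h

theorem tE_mem (hY : T ≤ Y) : tE ii ∈ im3 h.rp Y :=
  let ⟨t, ht, e⟩ := h.onto ii ii_sk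
  ⟨t, h.syl.le ht, hY ht, e⟩

theorem cj3 (hg : g ∈ X) (af : Af ρ g) (e : Gr ρ g 0 d) : ∃ a e, nE d * lE a e * nE (-d) ∈ im3 h.rp ⊤ ∧
    (a = ii ∧ e = 0 ∨ a = -ii ∧ e = 0 ∨ a = 0 ∧ e * star e = -1) := by
  obtain ⟨t, ht, et⟩ := h.onto ii ii_sk
  have r := h.rp
  have x0 := mul_mem (mul_mem hg (h.syl.le ht)) (inv_mem hg)
  obtain ⟨a, b, q⟩ := exists_lin (f := fun u => (ρ (g * t * g⁻¹) (0, u)).1)
    (fun s t => by rw [← Prod.fst_add, ← map_add, Prod.mk_add_mk, add_zero]) fun l s hl => by rw [h.lin0 x0 hl]; rfl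
  have k : ∀ u, ρ (g * t * g⁻¹) (0, u) = nE d (lE a b (0, u)) := fun u => by
    have := q u
    rw [h.cj hg ht, eq_sW (h.subW ht _)] at this ⊢
    exact Prod.ext (this.trans (zero_add _).symm) (by
      rw [Prod.snd_add, e, zero_mul, zero_add, ← zero_add (ρ g _).1, show (0 : K9) + (ρ g _).1 = _ from this,
        ← zero_add (a * u + _)]; rfl)
  have n : ∀ v w, om (nE d v) (nE d w) = om v w := fun v w => by simp [om]; ring
  refine ⟨a, b, ⟨_, x0, trivial, fun v => ?_⟩, w_lE a b (by rw [← n, ← k, ← k, h.inv _ x0]) fun u u0 c => ?_⟩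
  · obtain ⟨u, q⟩ := af.onto v.1
    have a1 : ρ g (0, u) = nE d (v.1, 0) := Prod.ext q (by rw [e, q, zero_mul]; rfl)
    rw [show v = ρ g (0, u) + (0, v.2 - d * star v.1) by simp [a1], map_add, h.cj hg ht, r.inv_app hg,
      h.fixW ht rfl, sub_self, map_zero, add_zero, k, a1, ← map_add]
    refine congrArg (nE d) (?_ : _ = lE a b (nE (-d) _))
    refine Prod.ext ?_ ?_ <;> simp [sub_eq_add_neg]
  · rw [← n, ← k, show nE d (0, u) = (0, u) by simp, r.mul3 hg (h.syl.le ht) (inv_mem hg), et, ← r.app_inv hg (0, u),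
      h.inv g hg, r.inv_app hg] at c
    have a1 : ∀ v : K9 × K9, om v (tq ii v) = 0 → v.1 = 0 := by decide +kernel
    have a2 := e (ρ g⁻¹ (0, u)).2
    rw [← eq_sW (a1 _ c), r.app_inv hg] at a2
    simp [u0] at a2

variable [Finite X]

theorem aff (hg : g ∈ X) (af : Af ρ g) : (∃ d, NE d ∈ im3 h.rp ⊤) ∧ ((∀ k ∈ X, k ∈ normalizer (T : Set G) → k ∈ Y) →
    (∀ d, NE d ∈ im3 h.rp ⊤ → NE d ∈ im3 h.rp Y) → g ∈ Y) := by
  obtain ⟨a, d, a1, a2⟩ := h.graph hg af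
  obtain ⟨t, ht, et⟩ := h.onto (-a) (by simp [a1])
  have t0 := h.syl.le ht
  have g0 := mul_mem t0 hg
  have g1 : Af ρ (t * g) := fun u c => af u (by simpa [h.rp.mul _ t0 _ hg, et, tq] using c)
  have g2 : Gr ρ (t * g) 0 d := by simpa using h.gr_t hg ht et a2
  obtain ⟨a, e, m, c⟩ := h.cj3 g0 g1 g2
  have w := wE_mem (h.tE_mem le_top) m (one_mem _)
  have k : (∀ k ∈ X, k ∈ normalizer (T : Set G) → k ∈ Y) → ∀ f ∈ im3 h.rp Y,
      (∀ u, (f (0, u)).2 = 0 * (f (0, u)).1 + d * star (f (0, u)).1) → g ∈ Y := fun hN f ⟨y, y0, y1, y2⟩ q => by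
    have := hN _ (mul_mem (inv_mem g0) y0) (h.norm_gr g0 y0 g1 g2 fun u => by rw [y2, q])
    simpa using mul_mem (inv_mem (hN t t0 (le_normalizer ht))) (mul_mem y1 (inv_mem this))
  rcases c with ⟨rfl, rfl⟩ | ⟨rfl, rfl⟩ | ⟨rfl, c⟩
  · have := (w_std d).1.eq ▸ w _
    exact ⟨⟨d, this⟩, fun hN hD => k hN _ (hD d this) (w_gr d)⟩
  · have := (w_std d).2.eq ▸ w _
    exact ⟨⟨d, this⟩, fun hN hD => k hN _ (hD d this) (w_gr d)⟩
  · obtain ⟨c1, c2, c3⟩ := w_non d e c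
    exact ⟨⟨_, c1.eq ▸ w _⟩, fun hN hD => k hN _ (wE_mem (h.tE_mem fun t ht => hN t (h.syl.le ht) (le_normalizer ht))
      (hD _ (c1.eq ▸ w _)) (hD _ (c2.eq ▸ w _)) _) c3⟩

omit [Finite X] in
theorem col3 (hg : g ∈ X) (h1 : ¬ ∀ u, (ρ g (0, u)).1 = 0) (e : ¬ Af ρ g) : ∃ t ∈ T, ∃ w ≠ 0,
    ∀ u, ∃ a b, star a = a ∧ star b = b ∧ ρ (t * g) (0, u) = (b * w, a * w) := by
  obtain ⟨t, ht, u1, u2, w, w0, e1, e2⟩ := h.coll two9 hg h1 e
  have g0 := mul_mem (h.syl.le ht) hg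
  have u0 : u1 ≠ 0 := fun c => w0 (by simpa [c, show ((0, 0) : K9 × K9) = 0 from rfl, eq_comm] using congrArg Prod.snd e1)
  refine ⟨t, ht, w, w0, fun u => ?_⟩
  obtain ⟨a, b, a1, b1, q⟩ := exists_coord (s := u2 / u1) (fun c => w0 (by
    simpa [u0, e1, e2] using congrArg Prod.fst (h.lin0 g0 c u1))) (u / u1)
  refine ⟨a, b, a1, b1, ?_⟩
  rw [show u = a * u1 + b * u2 by field_simp at q; linear_combination q, show ((0, a * u1 + b * u2) : K9 × K9) =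
    (0, a * u1) + (0, b * u2) by simp, map_add, h.lin0 g0 a1, h.lin0 g0 b1, e1, e2]
  simp

theorem exists_NE (hn : ¬ X ≤ normalizer (T : Set G)) (hH : ∀ g ∈ X, ∃ g' ∈ X,
    ∀ v : K9 × K9, ρ g' (-ii * v.1, ii * v.2) = (-ii * (ρ g v).1, ii * (ρ g v).2)) : ∃ d, NE d ∈ im3 h.rp ⊤ := by
  obtain ⟨g, hg, gn⟩ := SetLike.not_le_iff_exists.1 hn
  by_cases e : Af ρ g
  · exact (h.aff (Y := ⊤) hg e).1
  obtain ⟨t, ht, w, w0, q⟩ := h.col3 hg (mt (h.norm hg) gn) e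
  have g0 := mul_mem (h.syl.le ht) hg
  obtain ⟨x, x0, x1⟩ := hH _ g0
  refine (h.aff (Y := ⊤) (mul_mem (inv_mem g0) x0) fun u c => ?_).1
  obtain ⟨a, b, a1, b1, q1⟩ := q (ρ ((t * g)⁻¹ * x) (0, u)).2
  obtain ⟨a', b', a2, b2, q2⟩ := q (-ii * u)
  have q3 := x1 (0, -ii * u)
  have k0 : ∀ u, ((-ii * 0, ii * (-ii * u)) : K9 × K9) = (0, u) := by decide +kernel
  rw [← eq_sW c, ← h.rp.mul _ g0 _ (mul_mem (inv_mem g0) x0), mul_inv_cancel_left] at q1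
  rw [q2, k0, q1] at q3
  have k : ∀ w a b : K9, w ≠ 0 → star a = a → star b = b → (a * w = ii * (b * w) ∨ a * w = -ii * (b * w)) → a = 0 := by
    decide +kernel
  rw [k w a a' w0 a1 a2 (.inl (congrArg Prod.snd q3)), k w b b' w0 b1 b2 (.inr (congrArg Prod.fst q3)), zero_mul] at q1
  exact congrArg Prod.snd (h.rp.inj x0 (q1.trans (map_zero _).symm))

theorem gen3 (ne : ∃ d, NE d ∈ im3 h.rp ⊤) (hN : ∀ k ∈ X, k ∈ normalizer (T : Set G) → k ∈ Y)
    (hD : ∀ d, NE d ∈ im3 h.rp ⊤ → NE d ∈ im3 h.rp Y) : X ≤ Y := fun g hg => by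
  by_cases gn : g ∈ normalizer (T : Set G)
  · exact hN g hg gn
  by_cases e : Af ρ g
  · exact (h.aff hg e).2 hN hD
  obtain ⟨t, ht, w, w0, q⟩ := h.col3 hg (mt (h.norm hg) gn) e
  obtain ⟨d, m⟩ := ne
  obtain ⟨y, y0, y1, y2⟩ := hD d m
  obtain ⟨c, c1, c2⟩ := w_col w d w0
  obtain ⟨s, hs, es⟩ := h.onto c c1
  have g0 := mul_mem (h.syl.le ht) hg
  have g1 := mul_mem (h.syl.le hs) g0
  have := (h.aff (mul_mem (inv_mem y0) g1) fun u k => by
    obtain ⟨a, b, a1, b1, q1⟩ := q u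
    have q2 := w_gr d (ρ (y⁻¹ * (s * (t * g))) (0, u)).2
    rw [← y2, ← eq_sW k, ← h.rp.mul _ y0 _ (mul_mem (inv_mem y0) g1), mul_inv_cancel_left,
      h.rp.mul _ (h.syl.le hs) _ g0, es, q1, zero_mul, zero_add] at q2
    obtain ⟨rfl, rfl⟩ := c2 a b a1 b1 q2
    exact congrArg Prod.snd (h.rp.inj g0 (q1.trans (by simp : _ = ρ (t * g) 0)))).2 hN hD
  have l := fun t ht => inv_mem (hN t (h.syl.le ht) (le_normalizer ht))
  simpa using mul_mem (l t ht) (mul_mem (l s hs) (mul_mem y1 this))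

omit [Finite X] in
theorem r1 (hc : NE c ∈ im3 h.rp ⊤) (hd : NE d ∈ im3 h.rp ⊤) (e : (d - c) * star (d - c) = 1) :
    NE (-(c + d)) ∈ im3 h.rp ⊤ := (w_r1 c d e).1.eq ▸ wE_mem (h.tE_mem le_top) hc hd _

theorem ref {W : K9 → K9 → (K9 ≃+* K9) → Prop} (hN : ∀ k ∈ X, k ∈ normalizer (T : Set G) → ∃ c α β τ, α ≠ 0 ∧ β ≠ 0 ∧
    W α β τ ∧ ∀ v, ρ k v = tq c (α * τ v.1, α * β * star β * τ v.2)) (hc : NE c ∈ im3 h.rp ⊤) (hd : NE d ∈ im3 h.rp ⊤)
    (n : c ≠ d) : (c - d) ^ 2 * star (c + d) = c + d ∧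
      ∃ α β, α ≠ 0 ∧ β ≠ 0 ∧ W α β starRingAut ∧ β * star β * α / star α = (c - d) ^ 2 := by
  obtain ⟨a, α, k, k0, -, k1⟩ : ∃ a α, tE a * nE ((c - d) ^ 2 * star (c + d) - (c + d)) *
      dE α ((c - d) ^ 2 * star α) ∈ im3 h.rp ⊤ := by
    by_cases e : (d - c) * star (d - c) = 1
    · exact ⟨_, _, (w_r1 c d e).2.eq ▸ wE_mem (h.tE_mem le_top) hc hd _⟩
    · exact ⟨_, _, (w_r2 c d n e).eq ▸ wE_mem (h.tE_mem le_top) hc hd _⟩
  obtain ⟨b, γ, β, τ, c0, b0, w, q⟩ := hN k k0 (h.norm k0 fun u => by simp [k1])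
  have q1 := fun v => (q v).symm.trans (k1 v)
  simp only [tE_app, nE_app, dE_app, tq, AddMonoid.End.coe_mul, comp_apply, Prod.mk.injEq] at q1
  obtain rfl : γ = α := by simpa using (q1 (1, 0)).1
  obtain rfl : τ = starRingAut := RingEquiv.ext fun s => mul_left_cancel₀ c0 (q1 (s, 0)).1
  have c1 := star_ne_zero.2 c0
  have q2 := (q1 (1, 0)).2
  have q3 := (q1 (ii, 0)).2
  have q4 := (q1 (0, 1)).2
  simp only [starRingAut_apply, star_zero, star_one, star_mul', star_neg, neg_neg, ii_sk] at q2 q3 q4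
  refine ⟨sub_eq_zero.1 (mul_right_cancel₀ (mul_ne_zero (mul_ne_zero two9 ii_ne) c1) (by
    linear_combination -q3 - ii * q2)), γ, β, c0, b0, w, ?_⟩
  rw [div_eq_iff c1]
  linear_combination q4

end Sq

end CF.FusV
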