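import Cfsg.Agent.FusV.J
import Cfsg.Agent.FusV.K

/-! Saturated fusion systems on a Sylow `3`-subgroup of `SU₄(3)`: the set of shifted Weyl elements. -/

set_option autoImplicit false
set_option linter.style.haveILetI false

namespace CF.FusV

open Cfsg Cfsg.FusionSystem Subgroup CF.Fus CF.FusD Function Sv
open CF.FusU (Uf)

variable {x z : Sv K9} {c d l m α β γ δ ε : K9} {σ τ : K9 ≃+* K9} {E F : FusionSystem (⊤ : Subgroup (Sv K9))}

@[simp] theorem nu_s : (nu d x).s = x.s := rfl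
@[simp] theorem nu_c : (nu d x).c = x.c := rfl
@[simp] theorem nu_u : (nu d x).u = x.u + d * star x.s := rfl
@[simp] theorem nu_z : (nu d x).z = x.z + (star d * x.s ^ 2 + d * star x.s ^ 2) := rfl

theorem nu_J (h : x ∈ sJ K9) : nu d x = x := by ext1 <;> simp [mem_sJ.1 h]
theorem nu_zero (x : Sv K9) : nu 0 x = x := by ext1 <;> simp
theorem piso_nu : PIso (nu d) ⊤ ⊤ := .of_inverse (g := nu (-d)) (mulOn_hom _ ⊤) (fun _ _ => trivial) (fun _ _ => trivial)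
  (fun x _ => by rw [W.nu_nu, neg_add_cancel, nu_zero]) fun x _ => by rw [W.nu_nu, add_neg_cancel, nu_zero]

theorem dg_nu (a0 : α ≠ 0) (x : Sv K9) : dg α β τ (nu d x) = nu (act α β τ d) (dg α β τ x) := by
  have := star_ne_zero.2 a0
  ext1 <;> simp [act, Uf.aut] <;> field_simp

theorem act_eq : act α β τ d = β * star β * α / star α * τ d := by simp only [act]; ring

/-- shifted Weyl elements -/
def ne (ε : K9) (h0 : ε ≠ 0) (h1 : star ε = -ε) (d : K9) (x : Sv K9) : Sv K9 := nu d (nq ε h0 h1 (nu (-d) x))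

theorem mulOn_ne (h0 : ε ≠ 0) (h1 : star ε = -ε) : MulOn (ne ε h0 h1 d) (sQ K9) := fun x hx y hy => by
  simp only [ne, map_mul]
  rw [mulOn_nq h0 h1 (x := nu (-d) x) hx (y := nu (-d) y) hy, map_mul]

theorem mor_ne (h0 : ε ≠ 0) (h1 : star ε = -ε) : Mor F (sQ K9) (ne ε h0 h1 d) ↔ Mor F (sQ K9) (nd d) := by
  have k : ∀ ε h0 h1, Mor F (sQ K9) (ne ε h0 h1 d) → Mor F (sQ K9) (ne (-ε) (neg_ne_zero.2 h0) (by simp [h1]) d) :=
    fun ε h0 h1 h => ((h.iso_self fun x _ => rfl).symm' fun x hx => by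
      rw [ne, ne, W.nu_nu, neg_add_cancel, nu_zero, nq_nq h0 h1 (x := nu (-d) x) hx, W.nu_nu, add_neg_cancel,
        nu_zero]).mor
  rcases W.skew ε h1 with rfl | rfl | rfl
  · exact absurd rfl h0
  · rfl
  · have e : ∀ {a b : K9} {h0 h1 k0 k1}, a = b → ne a h0 h1 d = ne b k0 k1 d := by rintro _ _ _ _ _ _ rfl; rfl
    exact ⟨fun h => show Mor F _ (ne ii ii_ne ii_sk d) from e (show -(ii + ii) = ii by decide) ▸ k _ _ _ h,
      fun h => e (show -ii = ii + ii by decide) ▸ k _ ii_ne ii_sk h⟩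

theorem nd_Z (hz : z ∈ sZ K9) : nd d z = z := by rw [nd, nu_J hz.1, nq_Z _ _ hz, nu_J hz.1]

theorem pq_nd (x : Sv K9) : pq (nd d x) = NE d (pq x) := by
  have e : ∀ s : K9, -(s / ii) = ii * s := by decide +kernel
  simp only [pq, nd, nu_s, nu_u, nq_s, nq_u, e]
  rfl

theorem nd_dg (i : FIso F (dg α β τ) E) (a0 : α ≠ 0) (b0 : β ≠ 0) (h : Mor F (sQ K9) (nd d)) :
    Mor E (sQ K9) (nd (act α β τ d)) := by
  have b1 := star_ne_zero.2 b0
  have c0 := τ.map_ne_zero_iff.2 ii_ne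
  refine (mor_ne (div_ne_zero c0 (mul_ne_zero b0 b1)) (by simp [← Uf.aut, ii_sk, mul_comm, neg_div])).1
    (push i (img_Q i.piso) h fun x _ => ?_)
  rw [nd, dg_nu a0, ne, show -act α β τ d = act α β τ (-d) by simp [act, neg_div], ← dg_nu a0]
  congr 1
  ext1 <;> simp only [nq_s, nq_c, nq_u, nq_z, dg_s, dg_c, dg_u, dg_z, map_mul, map_neg, map_div₀, map_zero, mul_zero] <;>
    field_simp

/-- the action on the parameters -/
def Ac (F : FusionSystem (⊤ : Subgroup (Sv K9))) (l : K9) (τ : K9 ≃+* K9) : Prop :=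
  ∃ α β, α ≠ 0 ∧ β ≠ 0 ∧ Mor F ⊤ (dg α β τ) ∧ β * star β * α / star α = l

theorem ac_one : Ac F 1 1 := ⟨1, 1, one_ne_zero, one_ne_zero, mor_of_eq_self F le_rfl fun x _ => dg_one x, by simp⟩

theorem Ac.mul (h : Ac F l σ) (k : Ac F m τ) : Ac F (l * σ m) (σ * τ) := by
  obtain ⟨α, β, a0, b0, h, rfl⟩ := h
  obtain ⟨γ, δ, c0, d0, k, rfl⟩ := k
  refine ⟨_, _, mul_ne_zero a0 (σ.map_ne_zero_iff.2 c0), mul_ne_zero b0 (σ.map_ne_zero_iff.2 d0), mor_dg_mul h k, ?_⟩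
  simp only [map_mul, map_inv₀, Uf.aut, star_mul', div_eq_mul_inv, mul_inv]
  ring

theorem Ac.nd (h : Ac F l τ) (k : Mor F (sQ K9) (nd d)) : Mor F (sQ K9) (nd (l * τ d)) := by
  obtain ⟨α, β, a0, b0, h, rfl⟩ := h
  exact act_eq ▸ nd_dg h.fiso a0 b0 k

theorem Ac.congr (h : Ac E l τ) (top : ∀ f, Mor E ⊤ f ↔ Mor F ⊤ f) : Ac F l τ :=
  let ⟨α, β, a0, b0, h, e⟩ := h
  ⟨α, β, a0, b0, (top _).1 h, e⟩

theorem Ac.ne (h : Ac F l τ) : l ≠ 0 := by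
  obtain ⟨α, β, a0, b0, -, rfl⟩ := h
  simp [a0, b0]

namespace Sj

variable (h : Sj F 3)
include h

theorem ac_iff (a0 : α ≠ 0) (b0 : β ≠ 0) : Ac F (β * star β * α / star α) τ ↔ Mor F ⊤ (dg α β τ) := by
  refine ⟨fun ⟨γ, δ, c0, d0, m, e⟩ => ?_, fun m => ⟨α, β, a0, b0, m, rfl⟩⟩
  have k : ∀ r n : K9, r ≠ 0 → star n = n → n * r = star r → ∃ μ ≠ 0, μ ^ 2 = r ∧ μ⁻¹ * star μ⁻¹ = n := by
    decide +kernel
  have a1 := star_ne_zero.2 a0
  have c1 := star_ne_zero.2 c0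
  have d1 := star_ne_zero.2 d0
  obtain ⟨μ, m0, m1, m2⟩ := k (α / γ) (β * star β / (δ * star δ)) (div_ne_zero a0 c0) (by simp [mul_comm]) (by
    rw [star_div₀]; field_simp at e ⊢; linear_combination -e)
  have := mor_dg_mul (h.tor m0) m
  rw [RingAut.one_apply, RingAut.one_apply, one_mul, m1, div_mul_cancel₀ _ c0] at this
  exact this.congr fun x _ => dg_congr (by rw [star_mul', mul_mul_mul_comm, m2]; field_simp) x

variable {ρ : MulAut (sQ K9) → K9 × K9 →+ K9 × K9}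

theorem nd_iff (r : AQ F 3 ρ) : NE d ∈ im3 r.sq.rp ⊤ ↔ Mor F (sQ K9) (nd d) := by
  refine ⟨fun ⟨m, m0, _, e⟩ => r.lift (by decide +kernel) (by decide +kernel) (by decide +kernel) (h.tor ii_ne)
    (mulOn_ne ii_ne ii_sk) (fun _ _ => rfl) (fun z => nd_Z) (fun x _ => ?_) m0 fun x hx => ?_, fun k => ?_⟩
  · have e : ∀ d, act (ii ^ 2) ii⁻¹ 1 d = d := by decide +kernel
    have a0 := pow_ne_zero 2 ii_ne
    rw [nd, nd, dg_nu a0, e, ← e (-d), ← dg_nu a0, e]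
    congr 1
    ext1 <;> simp [show ii⁻¹ * (star ii)⁻¹ = 1 by decide +kernel, mul_assoc (ii ^ 2)] <;> ring
  · rw [← r.app m m0.1 x hx, e, pq_nd]
  · obtain ⟨m, m0, e⟩ := aut_X k (fun _ _ => rfl) fun z => nd_Z
    refine ⟨m, m0, trivial, fun v => ?_⟩
    obtain ⟨x, hx, rfl⟩ := pq_sur v
    rw [r.app m m0.1 x hx, e x hx, pq_nd]

theorem exists_nd (hE : F.IsEssential 3 (sQ K9)) : ∃ d, Mor F (sQ K9) (nd d) := by
  obtain ⟨ρ, r⟩ := exists_aq h.sat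
  refine (r.sq.exists_NE (r.mov h.sat hE) fun g hg => ?_).imp fun d => (h.nd_iff r).1
  have := r.cjg (h.tor (μ := 1 + ii) (by decide)) g hg
  rwa [show (1 + ii) ^ 2 * (1 + ii)⁻¹ * star (1 + ii)⁻¹ = ii by decide +kernel, show (1 + ii) ^ 2 = -ii by decide] at this

theorem le3 (n : Mor F (sQ K9) (nd c)) (top : ∀ f, Mor F ⊤ f → Mor E ⊤ f)
    (hD : ∀ d, Mor F (sQ K9) (nd d) → Mor E (sQ K9) (nd d)) : F.autGroup (sQ K9) ≤ E.autGroup (sQ K9) := fun φ hφ => by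
  obtain ⟨ρ, r⟩ := exists_aq h.sat
  have k : ∀ φ ∈ F.autGroup (sQ K9), φ ∈ normalizer (TQ K9 : Set (MulAut (sQ K9))) → φ ∈ E.autGroup (sQ K9) :=
    fun φ h1 h2 =>
      let ⟨g, g1, g2⟩ := ext_top h.sat le_top (fun s _ => norm_Q s) h1 h2
      ((top g g1).mono le_top).aut_mem' fun x hx => (g2 x hx).symm
  obtain ⟨b, b0, b1⟩ := r.frat hφ
  have := r.sq.gen3 ⟨c, (h.nd_iff r).2 n⟩ (fun φ h1 => k φ h1.1) (fun d m => by
    have m1 := (h.nd_iff r).1 m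
    obtain ⟨m, m0, e⟩ := aut_X m1 (fun _ _ => rfl) fun z => nd_Z
    refine ⟨m, m0, (hD d m1).aut_mem' e, fun v => ?_⟩
    obtain ⟨x, hx, rfl⟩ := pq_sur v
    rw [r.app m m0.1 x hx, e x hx, pq_nd]) b0
  simpa using mul_mem (Subgroup.inv_mem _ this) (k _ (mul_mem b0.1 hφ) b1)

theorem r1 (hc : Mor F (sQ K9) (nd c)) (hd : Mor F (sQ K9) (nd d)) (e : (d - c) * star (d - c) = 1) :
    Mor F (sQ K9) (nd (-(c + d))) :=
  let ⟨_, r⟩ := exists_aq h.sat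
  (h.nd_iff r).1 (r.sq.r1 ((h.nd_iff r).2 hc) ((h.nd_iff r).2 hd) e)

theorem ref (hc : Mor F (sQ K9) (nd c)) (hd : Mor F (sQ K9) (nd d)) (n : c ≠ d) :
    (c - d) ^ 2 * star (c + d) = c + d ∧ Ac F ((c - d) ^ 2) starRingAut :=
  let ⟨_, r⟩ := exists_aq h.sat
  r.sq.ref (W := fun α β τ => Mor F ⊤ (dg α β τ)) (r.hN h.toNm) ((h.nd_iff r).2 hc) ((h.nd_iff r).2 hd) n

theorem twist (hc : ∀ l τ, Ac F l τ → l * τ c = c) : ∃ E : FusionSystem (⊤ : Subgroup (Sv K9)),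
    FIso F (nu (-c)) E ∧ Sj E 3 ∧ ∀ d, Mor F (sQ K9) (nd d) → Mor E (sQ K9) (nd (d - c)) := by
  obtain ⟨E, i⟩ := exists_fiso F (piso_nu (d := -c))
  refine ⟨E, i, ⟨h.toNm.fiso i fun α β τ a0 b0 m => ⟨α, β, τ, a0, b0, fun x => ?_⟩, h.two.fiso h.sat i,
    push i (img_J i.piso) h.nj fun x hx => by rw [nu_J hx, nu_J (nj_mem x)]⟩, fun d k =>
    push i (img_Q i.piso) k fun x _ => by
      rw [nd, nd, W.nu_nu, W.nu_nu, show -(d - c) + -c = -d by ring, neg_add_eq_sub]⟩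
  rw [dg_nu a0, act_eq, map_neg, mul_neg, hc _ τ ⟨α, β, a0, b0, m, rfl⟩]

theorem rot : ∃ E : FusionSystem (⊤ : Subgroup (Sv K9)),
    FIso F (dg (1 + ii) 1 1) E ∧ Sj E 3 ∧ ∀ d, Mor F (sQ K9) (nd d) → Mor E (sQ K9) (nd (ii * d)) := by
  have a0 : 1 + ii ≠ 0 := by decide
  have j := piso_dg (τ := 1) a0 one_ne_zero
  obtain ⟨E, i⟩ := exists_fiso F j
  refine ⟨E, i, .of (h.toNm.fiso i fun α β τ c0 d0 m => ⟨(1 + ii) * α / τ (1 + ii), β, τ,
      div_ne_zero (mul_ne_zero a0 c0) (τ.map_ne_zero_iff.2 a0), d0, fun x => ?_⟩) (h.two.fiso h.sat i)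
    (push i (img_J j) h.nj (n := fun x => dg (1 + ii) 1 1 (FusV.nj (pinv _ ⊤ x))) fun x _ => by rw [j.pinv_apply trivial])
    (fun x _ => map_J j (nj_mem _)) fun z hz => ?_, fun d k => ?_⟩
  · rw [dg_dg, dg_dg, div_mul_cancel₀ _ (τ.map_ne_zero_iff.2 a0)]; simp
  · have := map_Z j.symm hz
    simp [this.2.1, this.2.2]
  · have e : ∀ d, act (1 + ii) 1 1 d = ii * d := by decide +kernel
    exact e d ▸ nd_dg i a0 one_ne_zero k

end Sj

theorem rz_ex (h : Sj F 3) {D : List K9} {W : K9 → K9 → (K9 ≃+* K9) → Prop} (w : Wx D W) (hc : c ∈ D)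
    (hW : ∀ α β τ, α ≠ 0 → β ≠ 0 → (W α β τ ↔ Ac F (β * star β * α / star α) τ)) (hD : ∀ d ∈ D, Mor F (sQ K9) (nd d))
    (mx : ∀ E : FusionSystem (⊤ : Subgroup (Sv K9)), Sj E 3 → (∀ f, Mor E ⊤ f ↔ Mor F ⊤ f) →
      (∀ d ∈ D, Mor E (sQ K9) (nd d)) → ∀ d, Mor E (sQ K9) (nd d) → d ∈ D) : Rz F 3 := by
  obtain ⟨G, _, φ, w, k⟩ := w
  refine rz_of h w (fun α β τ a0 b0 => (hW α β τ a0 b0).trans (h.ac_iff a0 b0)) fun E h1 h2 h3 => ?_
  have h4 := two_of h1.sat (by rw [Nat.card_eq_fintype_card, card_K9]; decide)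
  have h5 : Sj E 3 := ⟨h1, h4, (h2 _ _).1 w.nj⟩
  have h6 := fun d hd => (h2 _ _).1 (k d hd)
  exact ⟨h4, le_antisymm (h5.le3 (h6 c hc) (fun f => (h3 f).1) fun d m => hD d (mx E h5 h3 h6 d m))
    (h.le3 (hD c hc) (fun f => (h3 f).2) fun d m => h6 d (mx F h (fun _ => Iff.rfl) hD d m))⟩

theorem rz_ex2 (h : Sj F 3) {D : List K9} {p e e' r : K9} (w1 : Wx D fun a b t => act a b t p = p)
    (w2 : Wx D fun a b t => act a b t e = e ∨ act a b t e = e') (hc : e ∈ D) (hr : Ac F r starRingAut)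
    (k : r * star p = p ∧ -r * star r = -1 ∧ ∀ l, (l * p = p → l = 1) ∧ (l * star p = p → l = r) ∧
      (l ≠ 0 → l * e ∈ D → (l * e = e ∨ l * e = e')) ∧ (l ≠ 0 → l * star e ∈ D → (l * star e = e ∨ l * star e = e')) ∧
      ((l * e = e ∨ l * e = e') → l = 1 ∨ l = -1) ∧ ((l * star e = e ∨ l * star e = e') → l = r ∨ l = -r))
    (hD : ∀ d ∈ D, Mor F (sQ K9) (nd d))
    (mx : ∀ E : FusionSystem (⊤ : Subgroup (Sv K9)), Sj E 3 → (∀ f, Mor E ⊤ f ↔ Mor F ⊤ f) →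
      (∀ d ∈ D, Mor E (sQ K9) (nd d)) → ∀ d, Mor E (sQ K9) (nd d) → d ∈ D) : Rz F 3 := by
  obtain ⟨k1, k2, k⟩ := k
  have a : ∀ l τ, Ac F l τ → l * τ e = e ∨ l * τ e = e' := fun l τ m => by
    have := mx F h (fun _ => Iff.rfl) hD _ (m.nd (hD e hc))
    rcases W.aut_cases τ with rfl | rfl
    exacts [(k l).2.2.1 m.ne this, (k l).2.2.2.1 m.ne this]
  by_cases c : Ac F (-1) 1
  · refine rz_ex h w2 hc (fun α β τ _ _ => ?_) hD mx
    rw [act_eq]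
    generalize β * star β * α / star α = l
    refine ⟨fun q => ?_, a l τ⟩
    rcases W.aut_cases τ with rfl | rfl
    · rcases (k l).2.2.2.2.1 q with rfl | rfl
      exacts [ac_one, c]
    · rcases (k l).2.2.2.2.2 q with rfl | rfl
      exacts [hr, by simpa using c.mul hr]
  refine rz_ex h w1 hc (fun α β τ _ _ => ?_) hD mx
  rw [act_eq]
  generalize β * star β * α / star α = l
  rcases W.aut_cases τ with rfl | rfl
  · refine ⟨fun q => (k l).1 q ▸ ac_one, fun m => ?_⟩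
    rcases (k l).2.2.2.2.1 (a l 1 m) with rfl | rfl
    exacts [one_mul _, absurd m c]
  · refine ⟨fun q => (k l).2.1 q ▸ hr, fun m => ?_⟩
    rcases (k l).2.2.2.2.2 (a l _ m) with rfl | rfl
    · exact k1
    · exact absurd (by
        have := m.mul hr
        rwa [starRingAut_apply, k2, show starRingAut * starRingAut = (1 : K9 ≃+* K9) from
          RingEquiv.ext star_star] at this) c

end CF.FusV
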