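import Cfsg.Agent.FusV.T2
import Mathlib.LinearAlgebra.Matrix.GeneralLinearGroup.Card

/-! The case `q = 2`: the fusion system of `L₄(2)`. -/

set_option autoImplicit false
set_option maxRecDepth 100000
set_option synthInstance.maxSize 1024
set_option linter.style.haveILetI false

namespace CF.FusV

open Cfsg Cfsg.FusionSystem Subgroup CF.Fus CF.FusD Function Sv

namespace Tw

variable {a b : K4} {e : ZMod 2} {E F : FusionSystem (⊤ : Subgroup (Sv K4))}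

/-- standard systems -/
structure St (F : FusionSystem (⊤ : Subgroup (Sv K4))) (a b : K4) : Prop where
  sat : Sat F 2
  q : Mor F (sQ K4) n4
  l : Mor F (sE a) (y a 0)
  r : Mor F (sE b) (y b 1)

theorem le_y (hF : Sat F 2) (a0 : a ≠ 0) (m : Mor F (sE a) (y a e)) {H : Subgroup (MulAut (sE a))}
    (h1 : autInducedBy ⊤ (sE a) ≤ H) (h2 : ∀ β : MulAut (sE a), (∀ x ∈ sE a, fn β x = y a e x) → β ∈ H) :
    F.autGroup (sE a) ≤ H :=
  let ⟨β, h, k⟩ := aut_y m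
  gen hF a0 h1 h (h2 β k) (k z0 z_E ▸ y_z a0)

theorem St.sub (H1 : ∀ P, F.IsEssential 2 P → P = sQ K4 ∨ P = sJ K4 ∨ ∃ a ≠ 0, P = sE a) (H2 : Br F (sQ K4) n4)
    (a0 : a ≠ 0) (b0 : b ≠ 0) (h : St F a b) (k : St E a b) : F.IsSubsystemOf E := by
  have t : ∀ f, Mor F ⊤ f → Mor E ⊤ f ∧ ∀ x ∈ sQ K4, f x ∈ sQ K4 := fun f m =>
    let ⟨t, e⟩ := top_inn h.sat a0 (th_of_y a0 h.l) m
    ⟨(mor_cj E le_rfl (mem_top t)).congr fun x _ => e x, fun _ => map_Q m.iso_top.piso⟩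
  refine h.sat.alperin_sub fun P hP α hα => ?_
  rcases hP with rfl | hP
  · exact (t _ (mor_fn le_rfl hα)).1
  rcases H1 P hP with rfl | rfl | ⟨c, c0, rfl⟩
  · obtain ⟨f, g, m, n, c | c⟩ := H2 α hα
    · exact ((t f m).1.mono le_top).congr c
    · exact ((((t g n).1.mono le_top).comp k.q (t g n).2).comp (t f m).1 fun _ _ => trivial).congr c
  · exact absurd hP (not_J h.sat a0 h.l)
  · obtain ⟨e, m⟩ := exists_y h.sat c0 (th_of_ess h.sat c0 hP)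
    refine mor_fn le_top (le_y h.sat c0 m (autInducedBy_le E le_top) (fun β => Mor.aut_mem' ?_) hα)
    rcases (show ∀ e : ZMod 2, e = 0 ∨ e = 1 by decide) e with rfl | rfl
    · exact (by_contra fun n => not_same h.sat a0 c0 n h.l m : a = c) ▸ k.l
    · exact (by_contra fun n => not_same h.sat b0 c0 n h.r m : b = c) ▸ k.r

/-- unitriangular matrices -/
def mat (x : Sv K4) : Matrix (Fin 4) (Fin 4) (ZMod 2) :=
  !![1, x.s.re, x.u.re + x.c.re, x.z.re + x.u.re * x.s.re + x.u.im * x.s.im + x.c.re * x.s.im;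
    0, 1, x.c.re, x.c.re * x.s.im + x.u.im + x.c.re; 0, 0, 1, x.s.im; 0, 0, 0, 1]

theorem mat_mul (x w : Sv K4) : mat (x * w) = mat x * mat w := by
  have : ∀ x w : Sv K4, mat (x * w) 0 2 = mat w 0 2 + mat x 0 1 * mat w 1 2 + mat x 0 2 ∧
    mat (x * w) 1 3 = mat w 1 3 + mat x 1 2 * mat w 2 3 + mat x 1 3 ∧
    mat (x * w) 0 3 = mat w 0 3 + mat x 0 1 * mat w 1 3 + mat x 0 2 * mat w 2 3 + mat x 0 3 := by decide +kernel
  obtain ⟨h1, h2, h3⟩ := this x w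
  simp only [← Matrix.ext_iff, Fin.forall_fin_succ, IsEmpty.forall_iff, Matrix.mul_apply, Fin.sum_univ_four,
    Fin.succ_zero_eq_one, Fin.succ_one_eq_two, Fin.reduceSucc, h1, h2, h3]
  simp [mat, add_comm]

/-- central automorphisms -/
def zt (d : ZMod 2) : Sv K4 →* Sv K4 := MonoidHom.mk' (fun x => ⟨x.s, x.c, x.u, x.z + ⟨d, 0⟩ * x.c, x.hc, by
    simp [show star (⟨d, 0⟩ : K4) = ⟨d, 0⟩ by revert d; decide]; ring⟩)
  fun x y => by refine Sv.ext rfl rfl rfl ?_; simp; ring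

/-- the embeddings into `L₄(2)` -/
def ph (α : K4) (d : ZMod 2) : Sv K4 →* Matrix (Fin 4) (Fin 4) (ZMod 2) :=
  (⟨⟨mat, by decide +kernel⟩, mat_mul⟩ : Sv K4 →* _).comp ((dg α 1 1).comp (zt d))

/-- elements of order three -/
def gm (d : ZMod 2) : Matrix (Fin 4) (Fin 4) (ZMod 2) :=
  if d = 0 then !![0, 1, 0, 0; 1, 1, 0, 0; 0, 0, 1, 0; 0, 0, 0, 1] else !![1, 0, 0, 0; 0, 1, 0, 0; 0, 0, 0, 1; 0, 0, 1, 1]

theorem exists_st (a0 : a ≠ 0) (b0 : b ≠ 0) (ab : a ≠ b) : ∃ E, St E a b ∧ Rz E 2 := by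
  obtain ⟨α, d, i, h1, h2, h3⟩ := (show ∀ a : K4, a ≠ 0 → ∀ b : K4, b ≠ 0 → a ≠ b → ∃ α d, (∀ x, ph α d x = 1 → x = 1) ∧
    (∀ x : Sv K4, x.s * star a = a * star x.s → gm d * ph α d x = ph α d (y a 0 x) * gm d) ∧
    (∀ x : Sv K4, x.s * star b = b * star x.s → gm (1 + d) * ph α d x = ph α d (y b 1 x) * gm (1 + d)) ∧
    ∀ x : Sv K4, x.c = 0 → !![1, 0, 0, 0; 0, 0, 1, 0; 0, 1, 0, 0; 0, 0, 0, 1] * ph α d x =
      ph α d (n4 x) * !![1, 0, 0, 0; 0, 0, 1, 0; 0, 1, 0, 0; 0, 0, 0, 1] by decide +kernel) a a0 b b0 ab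
  let φ := (ph α d).toHomUnits
  have j : Injective φ := (injective_iff_map_eq_one φ).2 fun x h => i x (congrArg Units.val h)
  have p : PIso φ ⊤ φ.range := φ.range_eq_map ▸ piso_hom φ j ⊤
  obtain ⟨E, c⟩ := exists_fiso (FG ⊤ φ.range le_top) p.symm
  have n : Nat.card φ.range = 2 ^ 6 := by
    rw [← Nat.card_congr (MonoidHom.ofInjective j).toEquiv, Nat.card_eq_fintype_card]; rfl
  have r := (c.symm' fun x hx => p.apply_pinv hx).toReal (p := 2) (SylIn.of_not_dvd le_top (.of_card n) (by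
    have := φ.range.card_mul_index
    rw [n, Matrix.card_GL_field, ZMod.card, Fin.prod_univ_four] at this
    rw [relIndex_top_right]
    norm_num at this
    omega))
  have k : ∀ (A : Matrix (Fin 4) (Fin 4) (ZMod 2)) (P : Subgroup (Sv K4)) (f : Sv K4 → Sv K4), A ^ 6 = 1 →
      (∀ x ∈ P, A * ph α d x = ph α d (f x) * A) → Mor E P f := fun A P f h e =>
    r.mor' le_top (mem_top (Units.ofPowEqOne A 6 h (by decide))) (fun _ _ => trivial) fun x hx =>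
      mul_inv_eq_of_eq_mul (Units.ext (e x hx))
  have g : ∀ d, gm d ^ 6 = 1 := by decide +kernel
  exact ⟨E, ⟨r.sat, k _ _ _ (by decide +kernel) h3, k _ _ _ (g _) h1, k _ _ _ (g _) h2⟩, _, _, _, r⟩

/-- an elementary abelian subgroup of order eight -/
def sR (a : K4) : Subgroup (Sv K4) where
  carrier := {x | x ∈ sE a ∧ x ∈ sQ K4 ∧ x.u * star a = a * star x.u}
  one_mem' := ⟨one_mem _, one_mem _, by simp⟩
  mul_mem' := fun {x w} h k => ⟨mul_mem h.1 k.1, mul_mem h.2.1 k.2.1, by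
    rw [mul_u, mem_sQ.1 k.2.1, mul_zero, add_zero, star_add]; linear_combination h.2.2 + k.2.2⟩
  inv_mem' := fun {x} h => ⟨inv_mem h.1, inv_mem h.2.1, by
    rw [inv_u, mem_sQ.1 h.2.1, mul_zero, zero_sub, star_neg]; linear_combination -h.2.2⟩

theorem sR_cj (a : K4) (t : Sv K4) {x : Sv K4} (h : x ∈ sR a) : t * x * t⁻¹ ∈ sR a := by
  refine ⟨conj_mem_of_norm (nE t) h.1, conj_mem_of_norm (norm_Q t) h.2.1, ?_⟩
  rw [show (t * x * t⁻¹).u = x.u - t.c * x.s by simp [mem_sQ.1 h.2.1]; ring, star_sub, star_mul', t.hc]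
  have := mem_sE.1 h.1
  linear_combination h.2.2 - t.c * this - t.c * a * star x.s * (CharTwo.two_eq_zero (R := K4))

end Tw

open Tw

variable {F : FusionSystem (⊤ : Subgroup (Sv K4))}

theorem not_three (hF : Sat F 2) : ¬ ∀ a : K4, a ≠ 0 → F.IsEssential 2 (sE a) := fun h =>
  not_all hF fun a a0 => th_of_ess hF a0 (h a a0)

theorem rz_b' (H1 : ∀ (E : FusionSystem (⊤ : Subgroup (Sv K4))) P, Sat E 2 → E.IsEssential 2 P →
      P = sQ K4 ∨ P = sJ K4 ∨ ∃ a ≠ 0, P = sE a)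
    (H2 : ∀ E : FusionSystem (⊤ : Subgroup (Sv K4)), Sat E 2 → Mor E (sQ K4) n4 → Br E (sQ K4) n4) (h : Sat F 2)
    (n : F.IsEssential 2 (sQ K4) → Mor F (sQ K4) n4) {a : K4} (a0 : a ≠ 0) (hE : F.IsEssential 2 (sE a))
    (hc : F.core = ⊥) : Rz F 2 := by
  have nb : ∀ R : Subgroup (Sv K4), z0 ∈ R → ¬ F.IsNormal R := fun R z k =>
    absurd (mem_bot.1 (hc.le (le_core k z))) (by decide)
  have ta := th_of_ess h a0 hE
  obtain ⟨e, m⟩ := exists_y h a0 ta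
  have q := n (by_contra fun q => nb (sJ K4) rfl (h.normal_of_ess fun P hP => by
    rcases hP with rfl | hP
    · exact ⟨le_top, fun α _ => mem_stab_of_maps le_top fun _ => map_J (piso_fn α)⟩
    rcases H1 F P h hP with rfl | rfl | ⟨c, c0, rfl⟩
    · exact absurd hP q
    · exact ⟨le_rfl, stab_self.ge.trans' le_top⟩
    · exact ⟨J_le_E, fun α _ => mem_stab_of_maps J_le_E fun _ => fn_J c0 α⟩))
  have fin : ∀ a b, a ≠ 0 → b ≠ 0 → a ≠ b → St F a b → Rz F 2 := fun a b a0 b0 ab s => by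
    obtain ⟨E, k, r⟩ := exists_st a0 b0 ab
    exact eq_of_sub (k.sub (H1 E · k.sat) (H2 E k.sat k.q) a0 b0 s) (s.sub (H1 F · h) (H2 F h q) a0 b0 k) ▸ r
  by_cases c : ∃ b, b ≠ 0 ∧ a ≠ b ∧ Th F b
  · obtain ⟨b, b0, ab, tb⟩ := c
    obtain ⟨d, k⟩ := exists_y h b0 tb
    rcases (show ∀ e d : ZMod 2, e = d ∨ e = 0 ∧ d = 1 ∨ e = 1 ∧ d = 0 by decide) e d with rfl | ⟨rfl, rfl⟩ | ⟨rfl, rfl⟩
    exacts [(not_same h a0 b0 ab m k).elim, fin a b a0 b0 ab ⟨h, q, m, k⟩, fin b a b0 a0 ab.symm ⟨h, q, k, m⟩]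
  have l1 : sR a ≤ sQ K4 := fun _ h => h.2.1
  have l2 : sR a ≤ sE a := fun _ h => h.1
  have t : ∀ f, Mor F ⊤ f → ∀ x ∈ sR a, f x ∈ sR a := fun f m x hx =>
    let ⟨t, e⟩ := top_inn h a0 ta m
    e x ▸ sR_cj a t hx
  refine (nb (sR a) ⟨z_E, rfl, by simp [z0]⟩ (h.normal_of_ess fun P hP => ?_)).elim
  rcases hP with rfl | hP
  · exact ⟨le_top, fun α hα => mem_stab_of_maps le_top (t _ (mor_fn le_rfl hα))⟩
  rcases H1 F P h hP with rfl | rfl | ⟨b, b0, rfl⟩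
  · refine ⟨l1, fun α hα => mem_stab_of_maps l1 fun x hx => ?_⟩
    obtain ⟨f, g, m, n, c | c⟩ := H2 F h q α hα <;> rw [c x hx.2.1]
    · exact t f m x hx
    · have := t g n x hx
      exact t f m _ ⟨by simpa [mem_sE] using this.2.2, rfl, by simpa [CharTwo.neg_eq] using mem_sE.1 this.1⟩
  · exact absurd hP (not_J h a0 m)
  · obtain rfl : a = b := by_contra fun ab => c ⟨b, b0, ab, th_of_ess h b0 hP⟩
    refine ⟨l2, le_y h a0 m (fun β hβ => mem_stab_of_maps l2 fun x hx => ?_)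
      fun β k => mem_stab_of_maps l2 fun x hx => ?_⟩
    · obtain ⟨g, -, c⟩ := mem_autInducedBy'.1 hβ
      exact c x hx.1 ▸ sR_cj a g hx
    · exact k x hx.1 ▸ ⟨y_mem hx.1, (show ∀ a : K4, a ≠ 0 → ∀ e, ∀ x : Sv K4, x.s * star a = a * star x.s → x.c = 0 →
        x.u * star a = a * star x.u → (y a e x).c = 0 ∧ (y a e x).u * star a = a * star (y a e x).u by
          decide +kernel) a a0 e x hx.1 hx.2.1 hx.2.2⟩

theorem rz_b (H1 : ∀ (E : FusionSystem (⊤ : Subgroup (Sv K4))) P, Sat E 2 → E.IsEssential 2 P →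
      P = sQ K4 ∨ P = sJ K4 ∨ ∃ a ≠ 0, P = sE a)
    (H2 : ∀ E : FusionSystem (⊤ : Subgroup (Sv K4)), Sat E 2 → Mor E (sQ K4) n4 → Br E (sQ K4) n4) (h : Nm F 2)
    (n : F.IsEssential 2 (sQ K4) → Mor F (sQ K4) n4) {a : K4} (a0 : a ≠ 0) (hE : F.IsEssential 2 (sE a))
    (hc : F.core = ⊥) : Rz F 2 := rz_b' H1 H2 h.sat n a0 hE hc

end CF.FusV
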