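import Cfsg.Agent.FusV.W3

/-! The five exceptional witnesses `McL`, `McL.2`, `U₆(2)`, `U₆(2).2`, `Co₂`. -/

set_option autoImplicit false
set_option maxRecDepth 100000

namespace CF.FusV

open Cfsg CF.Comp CF.Leech CF.Fus Function MulAction
open CF.FusU (Uf)
open scoped Pointwise

namespace W

/-- the stabiliser of a pair of vectors -/
def G2 (p : K9) : Subgroup Co0 where
  carrier := {g | g • e p = e p ∧ g • e (-p) = e (-p) ∨ g • e p = e (-p) ∧ g • e (-p) = e p}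
  one_mem' := Or.inl ⟨one_smul _ _, one_smul _ _⟩
  mul_mem' := by rintro g h (⟨a, b⟩ | ⟨a, b⟩) (⟨c, d⟩ | ⟨c, d⟩) <;> simp [mul_smul, a, b, c, d]
  inv_mem' := by rintro g (⟨a, b⟩ | ⟨a, b⟩) <;> simp [inv_smul_eq_iff, a, b]

theorem key : ∀ (p : K9) (q : Bool × K9), gs q (false, p) = gam (0 - p) ∧ gs q (false, -p) = gam (0 - -p) ∨
    gs q (false, -p) = gam (0 - p) ∧ gs q (false, p) = gam (0 - -p) → q = (false, 0) := by decide +kernel

theorem wx_of (p : K9) {G : Subgroup Co0} (hG : G ≤ G2 p) (h1 : St2 (e p) (e (-p)) ≤ G) (c : ¬ 3 ^ 7 ∣ Nat.card G)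
    {D : List K9} (hD : ∀ d ∈ D, gam (p - d) ≠ 8 ∧ gam (-p - d) ≠ 8) {W : K9 → K9 → (K9 ≃+* K9) → Prop}
    (w : ∀ g a b τ, a ≠ 0 → b ≠ 0 → (∀ d, g • e d = e (act a b τ d)) → (g ∈ G ↔ W a b τ)) : Wx D W := by
  haveI : Fact (Nat.Prime 3) := ⟨Nat.prime_three⟩
  have k : ∀ x, ψ x ∈ G := fun x => h1 ⟨ψ_fix x _, ψ_fix x _⟩
  have inj : Injective (ψ.codRestrict G k) := fun x y h => ψ_inj (congrArg Subtype.val h)
  refine ⟨G, inferInstance, ψ.codRestrict G k, ⟨inferInstance, inj, .of_not_dvd le_top (.of_surjective pg_Sv _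
    (MonoidHom.rangeRestrict_surjective _)) fun h => c ?_, ⟨⟨F 6, h1 ⟨fixF (by decide) _, fixF (by decide) _⟩⟩,
      fun x hx => Subtype.ext (rl_nj hx)⟩, fun a b τ ha hb h => ?_, fun g hg => ?_⟩, fun d hd => ?_⟩
  · rw [← Subgroup.card_mul_index (ψ.codRestrict G k).range,
      ← Nat.card_congr (MonoidHom.ofInjective inj).toEquiv, card_Sv, pow_succ]
    exact Nat.mul_dvd_mul_left _ (by rwa [Subgroup.relIndex_top_right] at h)
  · obtain ⟨t, ht⟩ := exists_tt ha hb τ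
    exact ⟨⟨t, (w t a b τ ha hb ht.2).2 h⟩, fun x _ => Subtype.ext (ht.1 x)⟩
  · have n : Nr g := fun x => (hg x).imp fun y h => congrArg Subtype.val h
    obtain ⟨q, hq⟩ := n.perm 0
    obtain rfl := key p q ((hG g.2).imp (fun h => ⟨by rw [← dt_es, ← hq, ← dt_e, ← co_dt g (e 0), h.1]; rfl,
      by rw [← dt_es, ← hq, ← dt_e, ← co_dt g (e 0), h.2]; rfl⟩) fun h =>
        ⟨by rw [← dt_es, ← hq, ← dt_e, ← co_dt g (e 0), h.1]; rfl,
          by rw [← dt_es, ← hq, ← dt_e, ← co_dt g (e 0), h.2]; rfl⟩)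
    obtain ⟨s, a, b, τ, t, ha, hb, ht, l⟩ := n.gd hq
    refine ⟨s, a, b, τ, ha, hb, (w t a b τ ha hb ht.2).1 ((mul_mem_cancel_left (k s)).1 (l ▸ g.2)),
      fun x => Subtype.ext ?_⟩
    change (g : Co0) * ψ x * (g : Co0)⁻¹ = ψ _
    rw [l, map_mul, map_mul, map_inv, ← ht.1]
    group
  · obtain ⟨g, a, b⟩ := exists_nd d
    exact ⟨⟨g, h1 ⟨b _ (hD d hd).1, b _ (hD d hd).2⟩⟩, fun x hx => Subtype.ext (a x hx)⟩

theorem act_neg (a b : K9) (τ : K9 ≃+* K9) (d : K9) : act a b τ (-d) = -act a b τ d := by simp [act, neg_div]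

theorem wx_one (p : K9) (c : ¬ 3 ^ 7 ∣ Nat.card (St2 (e p) (e (-p)))) {D : List K9}
    (hD : ∀ d ∈ D, gam (p - d) ≠ 8 ∧ gam (-p - d) ≠ 8) : Wx D fun a b t => act a b t p = p :=
  wx_of p (fun _ h => Or.inl h) le_rfl c hD fun g a b τ _ _ h => by
    rw [mem_St2, h, h, act_neg]
    exact ⟨fun k => e_inj k.1, fun k => by simp [k]⟩

theorem wx_two (p : K9) (hp : p ≠ -p) {n : ℕ} (c : Nat.card (St2 (e p) (e (-p))) = n) (c1 : ¬ 3 ^ 7 ∣ 2 * n)
    {D : List K9} (hD : ∀ d ∈ D, gam (p - d) ≠ 8 ∧ gam (-p - d) ≠ 8) {W : K9 → K9 → (K9 ≃+* K9) → Prop}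
    (w : ∀ a b τ, a ≠ 0 → b ≠ 0 → (act a b τ p = p ∨ act a b τ p = -p ↔ W a b τ)) : Wx D W := by
  refine wx_of p le_rfl (fun _ h => Or.inl h) (fun h => c1 ?_) hD fun g a b τ ha hb h => ?_
  · have a : stabIn (G2 p) (e p) = St2 (e p) (e (-p)) := Subgroup.ext fun g =>
      ⟨fun k => k.1.resolve_right fun l => hp (e_inj (k.2.symm.trans l.1)), fun k => ⟨Or.inl k, k.1⟩⟩
    have b : (orbIn (G2 p) (e p)).ncard ≤ 2 := (Set.ncard_le_ncard (t := {e p, e (-p)}) (by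
      rintro _ ⟨g, k | k, rfl⟩ <;> simp [k.1])).trans ((Set.ncard_insert_le _ _).trans (by simp))
    have d := Nat.card_pos (α := G2 p)
    rw [card_eq_orb_mul (G2 p) (e p), a, c] at h d
    generalize (orbIn (G2 p) (e p)).ncard = m at h b d
    interval_cases m
    · omega
    · exact (one_mul n ▸ h).mul_left 2
    · exact h
  · rw [← w a b τ ha hb]
    change _ ∨ _ ↔ _
    rw [h, h, act_neg]
    exact or_congr ⟨fun k => e_inj k.1, fun k => by simp [k]⟩ ⟨fun k => e_inj k.1, fun k => by simp [k]⟩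

theorem card_mcl : Nat.card (St2 (e (1 - ii)) (e (-(1 - ii)))) = 898128000 := by
  obtain ⟨g, a, b⟩ := exists_smul_VU (u := e (-(1 - ii)) - e (1 - ii)) (v := e (1 - ii))
    (by rw [nm_sub, nm_e, nm_e, dt_e]; decide +kernel) (nm_e _) (by rw [dt_sub_left, dt_e, dt_e]; decide +kernel)
  rw [← card_McL, ← a, ← b, ← Nat.card_congr (St2Equiv g _ _).toEquiv]
  congr 2
  ext k
  rw [mem_St2, mem_St2, smul_sub]
  exact ⟨fun h => ⟨by rw [h.1, h.2], h.1⟩, fun h => ⟨h.2, by simpa [h.2] using h.1⟩⟩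

theorem card_u62 : Nat.card (St2 (e ii) (e (-ii))) = 9196830720 := by
  obtain ⟨g, a, b⟩ := exists_smul_UW (nm_e ii) (nm_e (-ii)) (by rw [dt_e]; decide +kernel)
  rw [← card_U62, ← a, ← b, ← Nat.card_congr (St2Equiv g _ _).toEquiv]

end W

open W

theorem wx_mcl : Wx [1 + ii, -1 - ii] (fun a b t => act a b t (1 - ii) = 1 - ii) :=
  wx_one _ (by rw [card_mcl]; decide) (by decide +kernel)

theorem wx_mcl2 : Wx [1 + ii, -1 - ii] (fun a b t => act a b t (1 + ii) = 1 + ii ∨ act a b t (1 + ii) = -1 - ii) :=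
  wx_two _ (by decide +kernel) card_mcl (by decide) (by decide +kernel) fun a b τ => by
    rcases aut_cases τ with rfl | rfl <;> revert a b <;> decide +kernel

theorem wx_u62 : Wx [0, ii, -ii] (fun a b t => act a b t ii = ii) :=
  wx_one _ (by rw [card_u62]; decide) (by decide +kernel)

theorem wx_u622 : Wx [0, ii, -ii] (fun a b t => act a b t ii = ii ∨ act a b t ii = -ii) :=
  wx_two _ (by decide +kernel) card_u62 (by decide) (by decide +kernel) fun _ _ _ _ _ => Iff.rfl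

theorem wx_co2 : Wx [0, 1, -1, ii, -ii] (fun _ _ _ => True) := by
  have := wx_one 0 (D := [0, 1, -1, ii, -ii]) (by rw [neg_zero, St2, inf_idem, card_stab_32 (nm_e 0)]; decide)
    (by decide +kernel)
  simpa [act] using this

end CF.FusV
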