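import Cfsg.Agent.FusV.L
import Cfsg.Agent.FusV.G2
import Cfsg.Agent.FusV.W
import Cfsg.Agent.FusV.T

/-! Saturated fusion systems on a Sylow `p`-subgroup of `SU₄(q)`: the cases `q = 3` and `q = 2`. -/

set_option autoImplicit false
set_option linter.style.haveILetI false

namespace CF.FusV

open Cfsg Cfsg.FusionSystem Subgroup CF.Fus CF.FusD Function Sv
open CF.FusU (Uf)

section

variable {c d : K9} {E F : FusionSystem (⊤ : Subgroup (Sv K9))} (h : Sj F 3)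
include h

set_option synthInstance.maxSize 1024 in
theorem rz_mcl (h1 : Mor F (sQ K9) (nd (1 + ii))) (h2 : Mor F (sQ K9) (nd (-1 - ii))) : Rz F 3 := by
  refine rz_ex2 h wx_mcl wx_mcl2 (r := -ii) (by simp) ?_ (by decide +kernel) (by simp [h1, h2]) fun E hE _ k d m => ?_
  · simpa only [show (1 + ii - (-1 - ii)) ^ 2 = -ii by decide] using (h.ref h1 h2 (by decide)).2
  have a : ∀ d, (1 + ii ≠ d → (1 + ii - d) ^ 2 * star (1 + ii + d) = 1 + ii + d) → d ∈ [1 + ii, -1 - ii] := by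
    decide +kernel
  exact a d fun n => (hE.ref (k _ (by simp)) m n).1

theorem of_zero (h0 : Mor F (sQ K9) (nd 0)) (h1 : Mor F (sQ K9) (nd d)) :
    d ∈ [0, 1, -1, ii, -ii] ∧ Mor F (sQ K9) (nd (-d)) := by
  have a : ∀ d : K9, (0 ≠ d → (0 - d) ^ 2 * star (0 + d) = 0 + d) →
      d ∈ [0, 1, -1, ii, -ii] ∧ (d = 0 ∨ (d - 0) * star (d - 0) = 1) := by decide +kernel
  obtain ⟨a1, rfl | a2⟩ := a d fun n => (h.ref h0 h1 n).1
  · exact ⟨a1, by rwa [neg_zero]⟩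
  · exact ⟨a1, zero_add d ▸ h.r1 h0 h1 a2⟩

set_option synthInstance.maxSize 1024 in
theorem rz_i (h0 : Mor F (sQ K9) (nd 0)) (h1 : Mor F (sQ K9) (nd ii)) : Rz F 3 := by
  have h2 := (of_zero h h0 h1).2
  have r1 : Ac F (-1) starRingAut := by simpa only [show (0 - ii) ^ 2 = -1 by decide] using (h.ref h0 h1 (by decide)).2
  by_cases c : Mor F (sQ K9) (nd 1)
  · refine rz_ex h wx_co2 (c := 0) (by simp) (fun α β τ a0 b0 => ⟨fun _ => ?_, fun _ => trivial⟩)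
      (by simp [h0, h1, h2, c, (of_zero h h0 c).2]) fun E hE _ k d m => (of_zero hE (k 0 (by simp)) m).1
    have r2 : Ac F 1 starRingAut := by simpa using (h.ref h0 c (by decide)).2
    have r3 : Ac F ii starRingAut := by simpa only [show (1 - ii) ^ 2 = ii by decide] using (h.ref c h1 (by decide)).2
    have r4 : Ac F (-ii) starRingAut := by
      simpa only [show (1 - -ii) ^ 2 = -ii by decide] using (h.ref c h2 (by decide)).2
    have a : ∀ α β : K9, α ≠ 0 → β ≠ 0 → β * star β * α / star α ∈ [1, -1, ii, -ii] := by decide +kernel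
    have b : Ac F (β * star β * α / star α) starRingAut := by
      have := a α β a0 b0
      simp only [List.mem_cons, List.not_mem_nil, or_false] at this
      rcases this with e | e | e | e <;> rwa [e]
    rcases W.aut_cases τ with rfl | rfl
    · have := b.mul r2
      rwa [map_one, mul_one, show starRingAut * starRingAut = (1 : K9 ≃+* K9) from RingEquiv.ext star_star] at this
    · exact b
  refine rz_ex2 h wx_u62 wx_u622 (by simp) r1 (by decide +kernel) (by simp [h0, h1, h2]) fun E hE t k d m => ?_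
  have a : ∀ d ∈ [0, 1, -1, ii, -ii], d ∉ [0, ii, -ii] → d ≠ ii ∧ ((d - ii) ^ 2 * star ii = 1 ∨
    (d - ii) ^ 2 * star (-ii) = 1) := by decide +kernel
  by_contra n
  obtain ⟨a1, a2⟩ := a d (of_zero hE (k 0 (by simp)) m).1 n
  have b := (hE.ref m (k ii (by simp)) a1).2.congr t
  exact c (a2.elim (fun e => e ▸ b.nd h1) fun e => e ▸ b.nd h2)

theorem rz_pt (h0 : Mor F (sQ K9) (nd 0)) (h1 : ∀ d, Mor F (sQ K9) (nd d) → d = 0) : Rz F 3 := by
  have e : ∀ (E : FusionSystem (⊤ : Subgroup (Sv K9))) ε h0 h1,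
      Mor E (sQ K9) (nq ε h0 h1) ↔ Mor E (sQ K9) (nd 0) := fun E ε h0 h1 => by
    rw [← mor_ne h0 h1, show ne ε h0 h1 0 = nq ε h0 h1 from funext fun x => by rw [ne, neg_zero, nu_zero, nu_zero]]
  obtain ⟨G, _, φ, w, k, l⟩ := wt_gen' le_rfl card_K9 star_K9 (fun a b t => Mor F ⊤ (dg a b t))
    (fun _ _ _ _ _ _ => mor_dg_mul) (fun _ _ => h.tor2 fun ε a b => (e F ε a b).2 h0) fun _ _ _ a0 _ => dg_of_pow h.sat a0
  refine rz_of h w (fun _ _ _ _ _ => Iff.rfl) fun E g1 g2 g3 => ?_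
  have g4 := two_of g1.sat (by rw [Nat.card_eq_fintype_card, card_K9]; decide)
  have g5 : Sj E 3 := ⟨g1, g4, (g2 _ _).1 w.nj⟩
  have g6 := (e E _ _ _).1 ((g2 _ _).1 (k ii ii_ne ii_sk))
  refine ⟨g4, le_antisymm (g5.le3 g6 (fun f => (g3 f).1) fun d m => ?_)
    (h.le3 h0 (fun f => (g3 f).2) fun d m => h1 d m ▸ g6)⟩
  obtain ⟨g, q⟩ := (g2 _ _).2 m
  obtain ⟨a, b, τ, q1⟩ := l g fun x hx => ⟨_, rfl, q x hx⟩
  have q2 : ∀ v : K9 × K9, τ v.1 = a * (NE d v).1 + b * (NE d v).2 := fun v => by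
    obtain ⟨x, hx, rfl⟩ := pq_sur v
    rw [← pq_nd]
    exact q1 x hx _ rfl (q x hx)
  have q3 : ∀ a b d : K9, (∀ v ∈ [((1, 0) : K9 × K9), (ii, 0), (0, 1), (0, ii)], v.1 = a * (NE d v).1 + b * (NE d v).2) ∨
      (∀ v ∈ [((1, 0) : K9 × K9), (ii, 0), (0, 1), (0, ii)], star v.1 = a * (NE d v).1 + b * (NE d v).2) → d = 0 := by
    decide +kernel
  rwa [q3 a b d ((W.aut_cases τ).imp (by rintro rfl v -; exact q2 v) (by rintro rfl v -; exact q2 v))]

theorem rz_zero (h0 : Mor F (sQ K9) (nd 0)) : Rz F 3 := by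
  by_cases c : ∀ d, Mor F (sQ K9) (nd d) → d = 0
  · exact rz_pt h h0 c
  obtain ⟨d, m, d0⟩ : ∃ d, Mor F (sQ K9) (nd d) ∧ d ≠ 0 := by simpa using c
  obtain ⟨a1, a2⟩ := of_zero h h0 m
  have k : Mor F (sQ K9) (nd 1) → Rz F 3 := fun m => by
    obtain ⟨E, i, s, q⟩ := h.rot
    exact (rz_i s (mul_zero ii ▸ q 0 h0) (mul_one ii ▸ q 1 m)).of_fiso i
  simp only [List.mem_cons, List.not_mem_nil, or_false] at a1
  rcases a1 with rfl | rfl | rfl | rfl | rfl
  exacts [absurd rfl d0, k m, k (neg_neg (1 : K9) ▸ a2), rz_i h h0 m, rz_i h h0 (neg_neg ii ▸ a2)]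

theorem rz_sj3 (hE : F.IsEssential 3 (sQ K9)) : Rz F 3 := by
  obtain ⟨c, hc⟩ := h.exists_nd hE
  by_cases h0 : Mor F (sQ K9) (nd 0)
  · exact rz_zero h h0
  by_cases h1 : ∀ d, Mor F (sQ K9) (nd d) → d = c
  · obtain ⟨E, i, s, q⟩ := h.twist fun l τ m => h1 _ (m.nd hc)
    exact (rz_zero s (sub_self c ▸ q c hc)).of_fiso i
  obtain ⟨d, hd, n⟩ : ∃ d, Mor F (sQ K9) (nd d) ∧ d ≠ c := by simpa using h1
  have k : ∀ c d, Mor F (sQ K9) (nd c) → Mor F (sQ K9) (nd d) → c ≠ d →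
      (c - d) ^ 2 * star (c + d) = c + d ∧ (d - c) * star (d - c) ≠ 1 := fun c d hc hd n => by
    refine ⟨(h.ref hc hd n).1, fun e => ?_⟩
    have a : ∀ c d : K9, (c - d) ^ 2 * star (c + d) = c + d → (d - c) * star (d - c) = 1 →
      c = 0 ∨ d = 0 ∨ -(c + d) = 0 := by decide +kernel
    rcases a c d (h.ref hc hd n).1 e with rfl | rfl | e1
    exacts [h0 hc, h0 hd, h0 (e1 ▸ h.r1 hc hd e)]
  have k1 : ∀ e, Mor F (sQ K9) (nd e) → e = c ∨ e = d := fun e he => by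
    have a : ∀ c d e : K9, (d - c) ^ 2 * star (d + c) = d + c ∧ (c - d) * star (c - d) ≠ 1 → d ≠ c →
      (e ≠ c → (e - c) ^ 2 * star (e + c) = e + c ∧ (c - e) * star (c - e) ≠ 1) →
      (e ≠ d → (d - e) * star (d - e) ≠ 1) → e = c ∨ e = d := by decide +kernel
    exact a c d e (k d c hd hc n) n (k e c he hc) fun m => (k e d he hd m).2
  obtain ⟨E, i, s, q⟩ := h.twist (c := -(c + d)) fun l τ m => by
    have a : l * τ c ≠ l * τ d := fun e => n (τ.injective (mul_left_cancel₀ m.ne e)).symm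
    rw [map_neg, map_add, mul_neg, mul_add]
    rcases k1 _ (m.nd hc) with e | e <;> rcases k1 _ (m.nd hd) with e' | e'
    exacts [absurd (e.trans e'.symm) a, by rw [e, e'], by rw [e, e', add_comm], absurd (e.trans e'.symm) a]
  refine Rz.of_fiso ?_ i
  have a : ∀ c d : K9, (d - c) * star (d - c) ≠ 1 → c ≠ d →
      (c - -(c + d) = 1 + ii ∧ d - -(c + d) = -1 - ii ∨ d - -(c + d) = 1 + ii ∧ c - -(c + d) = -1 - ii) ∨
      (ii * (c - -(c + d)) = 1 + ii ∧ ii * (d - -(c + d)) = -1 - ii ∨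
        ii * (d - -(c + d)) = 1 + ii ∧ ii * (c - -(c + d)) = -1 - ii) := by decide +kernel
  have q1 := q c hc
  have q2 := q d hd
  rcases a c d (k c d hc hd n.symm).2 n.symm with (⟨a, b⟩ | ⟨a, b⟩) | e
  · exact rz_mcl s (a ▸ q1) (b ▸ q2)
  · exact rz_mcl s (a ▸ q2) (b ▸ q1)
  obtain ⟨D, j, s', q'⟩ := s.rot
  refine Rz.of_fiso ?_ j
  rcases e with ⟨a, b⟩ | ⟨a, b⟩
  · exact rz_mcl s' (a ▸ q' _ q1) (b ▸ q' _ q2)
  · exact rz_mcl s' (a ▸ q' _ q2) (b ▸ q' _ q1)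

end

theorem rz_nine {F : FusionSystem (⊤ : Subgroup (Sv K9))} (hF : Sat F 3) (hc : F.core = ⊥) : Rz F 3 :=
  rz_sj hF hc (two_of hF (by rw [Nat.card_eq_fintype_card, card_K9]; decide)) fun _ => rz_sj3

theorem rz_four {F : FusionSystem (⊤ : Subgroup (Sv K4))} (hF : Sat F 2) (hc : F.core = ⊥) : Rz F 2 := by
  have H : ∀ (E : FusionSystem (⊤ : Subgroup (Sv K4))) P, Sat E 2 → E.IsEssential 2 P →
      P = sQ K4 ∨ P = sJ K4 ∨ ∃ a ≠ 0, P = sE a := fun E P h k => (ess_three h k).imp_right (Or.imp_right And.left)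
  have t : ∀ E : FusionSystem (⊤ : Subgroup (Sv K4)), Sat E 2 → (∀ a ≠ 0, ¬ E.IsEssential 2 (sE a)) → Two E 2 :=
    fun E h k P hP => (H E P h hP).imp_right fun e => e.resolve_right fun ⟨a, a0, e⟩ => k a a0 (e ▸ hP)
  by_cases c : ∀ a ≠ 0, ¬ F.IsEssential 2 (sE a)
  · refine rz_sj hF hc (t F hF c) fun E h hE => rz_gen le_rfl card_K4 star_K4 h hE
      (fun E h k => t E h fun a a0 ha => not_three h fun b b0 => ?_) fun E ρ _ r => r.st_two (by decide)
    obtain ⟨μ, m0, rfl⟩ : ∃ μ ≠ 0, μ ^ 2 * a = b := by revert a0 b0; generalize a = a; revert a b; decide +kernel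
    exact img_E (pow_ne_zero 2 m0) (inv_ne_zero m0) ▸ (k μ m0).fiso.ess h ha
  obtain ⟨a, a0, ha⟩ : ∃ a ≠ 0, F.IsEssential 2 (sE a) := by simpa using c
  obtain ⟨ρ, r⟩ := exists_aq hF
  exact rz_b' H (fun E => br_two (by decide)) hF
    (fun h => r.nq_two (by decide) hF h (r.st_two (by decide)) _ _) a0 ha hc

end CF.FusV
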