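import Cfsg.Agent.FusV.C

/-! The case `q = 2`: automizers of the subgroups `sE a`. -/

set_option autoImplicit false
set_option maxRecDepth 100000
set_option linter.style.haveILetI false

namespace CF.FusV.Tw

open Cfsg Cfsg.FusionSystem Subgroup CF.Fus CF.FusD Function Sv
open CF.FusU (cm mul_cm fn_cm fn_comm)

/-- a generator of the field -/
def om : K4 := ⟨0, 1⟩
/-- all elements -/
def el (v : K4 × K4 × ZMod 2 × ZMod 2) : Sv K4 :=
  ⟨v.1, ⟨v.2.2.1, 0⟩, v.2.1, ⟨v.2.2.2, 0⟩ + v.2.1 * star v.1, by revert v; decide +kernel, by revert v; decide +kernel⟩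

theorem el_bij : Bijective el := by
  have a : ∀ s c u z : K4, star c = -c → star z = -z - s * star u - star s * u →
    c = ⟨c.re, 0⟩ ∧ z = ⟨(z + u * star s).re, 0⟩ + u * star s := by decide +kernel
  exact ⟨by decide +kernel, fun x => ⟨(x.s, x.u, x.c.re, (x.z + x.u * star x.s).re),
    Sv.ext rfl (a _ _ _ _ x.hc x.hz).1.symm rfl (a _ _ _ _ x.hc x.hz).2.symm⟩⟩

instance finS4 : Fintype (Sv K4) := Fintype.ofBijective el el_bij

/-- the central involution -/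
def z0 : Sv K4 := xz 1 one_sk4
/-- coordinates -/
abbrev V4 := ZMod 2 × ZMod 2 × ZMod 2 × ZMod 2
instance finV4 : Fintype V4 := inferInstance
instance decV4 : DecidableEq V4 := inferInstance
/-- coordinates on `J` -/
def co (a : K4) (x : Sv K4) : V4 := (x.c.re, (x.u * star a).im, (x.u * star a).re, x.z.re + (x.u * star a).re)
/-- elements of `J` -/
def un (a : K4) (v : V4) : Sv K4 := ⟨0, ⟨v.1, 0⟩, a * ⟨v.2.2.1, v.2.1⟩, ⟨v.2.2.2 + v.2.2.1, 0⟩,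
  by revert v; decide +kernel, by simp only [star_zero, zero_mul, sub_zero]; revert v; decide +kernel⟩
/-- linear maps commuting with the first unipotent element -/
def Lv (p q v : V4) : V4 := (v.1 * p.1 + v.2.1 * q.1, v.1 * p.2.1 + v.2.1 * q.2.1,
  v.1 * p.2.2.1 + v.2.1 * q.2.2.1 + v.2.2.1 * p.1 + v.2.2.2 * q.1,
  v.1 * p.2.2.2 + v.2.1 * q.2.2.2 + v.2.2.1 * p.2.1 + v.2.2.2 * q.2.1)
/-- unipotent maps -/
def Tv (σ : K4) (v : V4) : V4 := (v.1, v.2.1 + σ.im * v.1, v.2.2.1 + σ.re * v.1,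
  v.2.2.2 + σ.re * v.2.1 + σ.im * v.2.2.1 + (σ.re * σ.im + σ.im) * v.1)
/-- the maps of order three -/
def Yv (e : ZMod 2) : V4 → V4 := Lv (0, 1, e, 1 + e) (1, 1, 1, e)
/-- the automorphisms of order three -/
def y (a : K4) (e : ZMod 2) (x : Sv K4) : Sv K4 := un a (Yv e (co a (x * xs x.s))) * xs x.s

variable {a b : K4} {j t x w : Sv K4} {α β : MulAut (sE a)} {F : FusionSystem (⊤ : Subgroup (Sv K4))}

theorem un_mem (a : K4) (v : V4) : un a v ∈ sJ K4 := rfl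
theorem co_un (a0 : a ≠ 0) (v : V4) : co a (un a v) = v := by revert a v; decide +kernel
theorem un_co (a0 : a ≠ 0) (h : j.s = 0) : un a (co a j) = j := by revert a j; decide +kernel
theorem un_add (a : K4) (v w : V4) : un a (v + w) = un a v * un a w := by revert a v w; decide +kernel
theorem un_z (a : K4) : un a (0, 0, 0, 1) = z0 := by revert a; decide +kernel
theorem co_inj (a0 : a ≠ 0) (h : j.s = 0) (k : x.s = 0) (e : co a j = co a x) : j = x := by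
  rw [← un_co a0 h, e, un_co a0 k]
theorem co_mul (a0 : a ≠ 0) (h : j.s = 0) (k : x.s = 0) : co a (j * x) = co a j + co a x := by
  rw [← un_co a0 h, ← un_co a0 k, ← un_add, co_un a0, co_un a0, co_un a0]
theorem cj_s (t : Sv K4) (h : j.s = 0) : (t * j * t⁻¹).s = 0 := conj_mem_of_norm (norm_J t) h
theorem co_cj (a0 : a ≠ 0) (t : Sv K4) (h : j.s = 0) : co a (t * j * t⁻¹) = Tv (t.s * star a) (co a j) := by
  have : t * j * t⁻¹ = xs t.s * j * (xs t.s)⁻¹ := by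
    refine Sv.ext ?_ ?_ ?_ ?_ <;> simp [h] <;> ring
  rw [this]
  exact (show ∀ a : K4, a ≠ 0 → ∀ j : Sv K4, j.s = 0 → ∀ s, co a (xs s * j * (xs s)⁻¹) = Tv (s * star a) (co a j) by
    decide +kernel) a a0 j h _

theorem xs_E (a : K4) : xs a ∈ sE a := rfl
theorem s_eq (a0 : a ≠ 0) (h : x ∈ sE a) (k : x.s ≠ 0) : x.s = a :=
  (show ∀ a s : K4, a ≠ 0 → s * star a = a * star s → s ≠ 0 → s = a by decide +kernel) _ _ a0 h k
theorem nE (t : Sv K4) : t ∈ normalizer (sE a : Set (Sv K4)) := norm_le (A_le_J.trans J_le_E) t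
theorem xs_sq (s : K4) : xs s * xs s = 1 := by revert s; decide +kernel

theorem nrm (a0 : a ≠ 0) : a * star a = 1 := by revert a; decide +kernel
theorem J_sq (h : j.s = 0) : j * j = 1 := by revert j; decide +kernel

theorem cen_of (a0 : a ≠ 0) (h1 : x.s = a) (h2 : w.s = 0) (h : x * w = w * x) : ∀ e ∈ sE a, e * w = w * e := by
  have c : w.c = 0 := by simpa [h1, h2, a0] using comm_u h
  have d := (A_comm ⟨h2, c⟩).1 h
  exact fun e he => (A_comm ⟨h2, c⟩).2 ((show ∀ a s u : K4, a ≠ 0 → s * star a = a * star s →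
    a * star u = u * star a → s * star u = u * star s by decide +kernel) _ _ _ a0 he (h1 ▸ d))

theorem fn_J (a0 : a ≠ 0) (α : MulAut (sE a)) (h : j.s = 0) : (fn α j).s = 0 := by_contra fun n => by
  obtain ⟨i, i0, i1, i2⟩ := (show ∀ a : K4, a ≠ 0 → ∀ j : Sv K4, j.s = 0 → ∃ i : Sv K4, i.s = 0 ∧
    xs a * i ≠ i * xs a ∧ xs a * (j * i) ≠ j * i * xs a by decide +kernel) a a0 j h
  have j1 : j ∈ sE a := J_le_E h
  have i3 : i ∈ sE a := J_le_E i0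
  have m := mulOn_fn α
  have c : fn α j * fn α i = fn α i * fn α j := by rw [← m j1 i3, ← m i3 j1, J_comm h i0]
  have s := s_eq a0 (fn_mem α j1) n
  have k : ∀ w ∈ sE a, (∀ e ∈ sE a, e * fn α w = fn α w * e) → xs a * w = w * xs a := fun w hw e => by
    simpa using fn_comm α⁻¹ (fn_mem α hw) e (xs_E a)
  by_cases d : (fn α i).s = 0
  · exact i1 (k i i3 (cen_of a0 s d c))
  · refine i2 (k _ (mul_mem j1 i3) (cen_of a0 s ?_ ?_))
    · rw [m j1 i3, mul_s, s, s_eq a0 (fn_mem α i3) d, CharTwo.add_self_eq_zero]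
    · rw [m j1 i3, mul_assoc, ← c]

theorem fn_xs (a0 : a ≠ 0) (α : MulAut (sE a)) : (fn α (xs a)).s = a :=
  s_eq a0 (fn_mem α (xs_E a)) fun e => a0 (by simpa using fn_J a0 α⁻¹ e)

theorem indV {R : V4 → Prop} (h : ∀ v w, R v → R w → R (v + w)) (h1 : R (1, 0, 0, 0)) (h2 : R (0, 1, 0, 0))
    (h3 : R (0, 0, 1, 0)) (h4 : R (0, 0, 0, 1)) (v : V4) : R v := by
  have k : ∀ (b : ZMod 2) e, R e → R (b • e) := fun b e he => by
    rcases (show ∀ (b : ZMod 2) (e : V4), b • e = e ∨ b • e = e + e by decide +kernel) b e with c | c <;> rw [c]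
    exacts [he, h e e he he]
  simpa using h _ _ (h _ _ (h _ _ (k v.1 _ h1) (k v.2.1 _ h2)) (k v.2.2.1 _ h3)) (k v.2.2.2 _ h4)

theorem lin (a0 : a ≠ 0) (α : MulAut (sE a)) : ∃ p q, ∀ j : Sv K4, j.s = 0 → co a (fn α j) = Lv p q (co a j) := by
  have m : ∀ v w, co a (fn α (un a (v + w))) = co a (fn α (un a v)) + co a (fn α (un a w)) := fun v w => by
    rw [un_add, mulOn_fn α (J_le_E (un_mem a v)) (J_le_E (un_mem a w)), co_mul a0 (fn_J a0 α rfl) (fn_J a0 α rfl)]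
  have o := nrm a0
  have c : ∀ v, co a (fn α (un a (Tv 1 v))) = Tv 1 (co a (fn α (un a v))) := fun v => by
    have : un a (Tv 1 v) = xs a * un a v * (xs a)⁻¹ :=
      co_inj a0 rfl (cj_s _ rfl) (by rw [co_cj a0 _ rfl, co_un a0, co_un a0, xs_s, o])
    rw [this, (mulOn_fn α).map_conj (xs_E a) (J_le_E (un_mem a v)), co_cj a0 _ (fn_J a0 α rfl), fn_xs a0, o]
  have c1 := c (1, 0, 0, 0)
  have c2 := c (0, 1, 0, 0)
  rw [show Tv 1 (1, 0, 0, 0) = (1, 0, 0, 0) + (0, 0, 1, 0) by decide +kernel, m] at c1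
  rw [show Tv 1 (0, 1, 0, 0) = (0, 1, 0, 0) + (0, 0, 0, 1) by decide +kernel, m] at c2
  have d : ∀ p q : V4, p = Lv p q (1, 0, 0, 0) ∧ q = Lv p q (0, 1, 0, 0) ∧ p + Lv p q (0, 0, 1, 0) = Tv 1 p ∧
    q + Lv p q (0, 0, 0, 1) = Tv 1 q := by decide +kernel
  refine ⟨co a (fn α (un a (1, 0, 0, 0))), co a (fn α (un a (0, 1, 0, 0))), fun j h => ?_⟩
  rw [← un_co a0 h, co_un a0]
  refine indV (R := fun v => co a (fn α (un a v)) = Lv _ _ v) (fun v w h k => ?_) (d _ _).1 (d _ _).2.1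
    (add_left_cancel (c1.trans (d _ _).2.2.1.symm)) (add_left_cancel (c2.trans (d _ _).2.2.2.symm)) _
  rw [m, h, k]
  simp only [Lv, Prod.fst_add, Prod.snd_add, Prod.mk_add_mk]
  congr 1 <;> [skip; congr 1 <;> [skip; congr 1]] <;> ring

theorem co_z (a0 : a ≠ 0) : co a z0 = (0, 0, 0, 1) := by rw [← un_z a, co_un a0]
theorem mem_Z4 (h : x ∈ sZ K4) : x = 1 ∨ x = z0 := by
  obtain ⟨h1, h2, h3⟩ := h
  revert x
  decide +kernel

theorem split_E (x : Sv K4) : (x * xs x.s).s = 0 ∧ x = x * xs x.s * xs x.s :=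
  ⟨CharTwo.add_self_eq_zero _, by rw [mul_assoc, xs_sq, mul_one]⟩

theorem pow8 (a0 : a ≠ 0) (h : fn α z0 = z0) : α ^ 2 ^ 3 = 1 := by
  obtain ⟨p, q, e⟩ := lin a0 α
  have k : ∀ p q : V4, Lv p q (0, 0, 0, 1) = (0, 0, 0, 1) → (∀ v, Lv p q v = 0 → v = 0) →
    ∀ v, Lv p q (Lv p q (Lv p q (Lv p q v))) = v := by decide +kernel
  have f := fun (γ : MulAut (sE a)) (j : Sv K4) => fn_J (j := j) a0 γ
  have h1 : ∀ j : Sv K4, j.s = 0 → fn (α ^ 4) j = j := fun j hj => co_inj a0 (f _ _ hj) hj (by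
    rw [fn_pow_succ, fn_pow_succ, fn_pow_succ, pow_one, e _ (f _ _ (f _ _ (f _ _ hj))), e _ (f _ _ (f _ _ hj)),
      e _ (f _ _ hj), e _ hj]
    refine k p q (by rw [← co_z a0, ← e _ rfl, h]) (fun v hv => ?_) _
    rw [← co_un a0 v, ← e _ rfl, ← show co a 1 = 0 by simp [co]] at hv
    rw [← co_un a0 v, ((piso_fn α).eq_one_iff (J_le_E (un_mem a v))).1 (co_inj a0 (f _ _ rfl) rfl hv)]
    simp [co])
  have h2 : fn (α ^ 4) (fn (α ^ 4) (xs a)) = xs a := by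
    obtain ⟨b, c⟩ := split_E (fn (α ^ 4) (xs a))
    rw [fn_xs a0] at b c
    generalize fn (α ^ 4) (xs a) * xs a = i at b c
    rw [c, mulOn_fn _ (J_le_E b) (xs_E a), h1 _ b, c, ← mul_assoc, J_sq b, one_mul]
  refine aut_ext fun x hx => ?_
  rw [show α ^ 2 ^ 3 = α ^ 4 * α ^ 4 from pow_add α 4 4, fn_one]
  by_cases d : x.s = 0
  · rw [fn_mul, h1 x d, h1 x d]
  · obtain ⟨b, c⟩ := split_E x
    rw [s_eq a0 hx d] at b c
    rw [c, mulOn_fn _ (J_le_E b) (xs_E a), fn_mul, fn_mul, h1 _ b, h1 _ b, h2]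

theorem sylE (hF : Sat F 2) : SylIn 2 (autInducedBy ⊤ (sE a)) (F.autGroup (sE a)) :=
  hF.syl_of_fn (fn_of_norm F le_top fun t _ => nE t)

theorem fixz (hF : Sat F 2) (a0 : a ≠ 0) (hα : α ∈ F.autGroup (sE a)) (h : fn α z0 = z0) :
    α ∈ autInducedBy ⊤ (sE a) := by
  have s := sylE (a := a) hF
  have z : z0 ∈ sZ K4 := xz_mem _
  rw [← s.max (F.autGroup (sE a) ⊓ fix (sE a) (sZ K4)) (fun β hβ => ⟨s.le hβ, fun x hx => ?_⟩) inf_le_left
    (isPGroup_iff_mem.2 fun β hβ => ⟨3, pow8 a0 (hβ.2 _ z)⟩)]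
  · exact ⟨hα, fun x hx => by rcases mem_Z4 hx with rfl | rfl; exacts [(mulOn_fn α).map_one, h]⟩
  · obtain ⟨g, -, e⟩ := mem_autInducedBy'.1 hβ
    rw [e x (J_le_E hx.1), Z_comm hx, mul_inv_cancel_right]

theorem cA_mem (F : FusionSystem (⊤ : Subgroup (Sv K4))) (P : Subgroup (Sv K4)) (t : Sv K4) : cA P t ∈ F.autGroup P :=
  cA_mem_autGroup F le_top trivial

theorem z_E : z0 ∈ sE a := J_le_E rfl

theorem mv_z (a0 : a ≠ 0) (h : fn α z0 ≠ z0) : ∃ e, co a (fn α z0) = (0, 0, 1, e) := by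
  obtain ⟨p, q, e⟩ := lin a0 α
  have k : ∀ p q : V4, Lv p q (0, 0, 0, 1) ≠ (0, 0, 0, 1) → Lv p q (0, 0, 0, 1) ≠ 0 →
    ∃ e, Lv p q (0, 0, 0, 1) = (0, 0, 1, e) := by decide +kernel
  have c := e z0 rfl
  rw [co_z a0] at c
  rw [c]
  refine k p q (fun d => h (co_inj a0 (fn_J a0 α rfl) rfl (by rw [c, d, co_z a0]))) fun d => ?_
  exact absurd (((piso_fn α).eq_one_iff z_E).1 (co_inj a0 (fn_J a0 α rfl) rfl (by rw [c, d]; simp [co]; rfl))) (by decide)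

theorem om_eq (a0 : a ≠ 0) (σ : K4) : (xs (a * σ)).s * star a = σ := by
  rw [xs_s, mul_right_comm, nrm a0, one_mul]

theorem gen (hF : Sat F 2) (a0 : a ≠ 0) {H : Subgroup (MulAut (sE a))} (h1 : autInducedBy ⊤ (sE a) ≤ H)
    (hβ : β ∈ F.autGroup (sE a)) (h2 : β ∈ H) (h3 : fn β z0 ≠ z0) : F.autGroup (sE a) ≤ H := fun α hα => by
  by_cases c : fn α z0 = z0
  · exact h1 (fixz hF a0 hα c)
  obtain ⟨e, he⟩ := mv_z a0 c
  obtain ⟨f, hf⟩ := mv_z a0 h3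
  obtain ⟨σ, k⟩ := (show ∀ e f, ∃ σ, Tv σ (0, 0, 1, e) = (0, 0, 1, f) by decide +kernel) e f
  have := h1 (fixz hF a0 (mul_mem (inv_mem hβ) (mul_mem (cA_mem F _ (xs (a * σ))) hα)) (by
    rw [fn_mul, fn_mul, fn_cA (nE _) (fn_mem α z_E), co_inj a0 (cj_s _ (fn_J a0 α rfl)) (fn_J a0 β rfl)
      (by rw [co_cj a0 _ (fn_J a0 α rfl), om_eq a0, he, hf, k]), fn_inv_fn]))
  exact (mul_mem_cancel_left (h1 (cA_mem_autInducedBy trivial))).1 ((mul_mem_cancel_left (inv_mem h2)).1 this)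

/-- the automizer of `sE a` is not a `2`-group -/
def Th (F : FusionSystem (⊤ : Subgroup (Sv K4))) (a : K4) : Prop := ∃ α ∈ F.autGroup (sE a), fn α z0 ≠ z0

theorem th_of_ess (hF : Sat F 2) (a0 : a ≠ 0) (h : F.IsEssential 2 (sE a)) : Th F a := by_contra fun c =>
  hF.not_ess_of_pgroup (isPGroup_iff_mem.2 fun α hα => ⟨3, pow8 a0 (by_contra fun d => c ⟨α, hα, d⟩)⟩) h

theorem y_J (e : ZMod 2) (h : j.s = 0) : y a e j = un a (Yv e (co a j)) := by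
  rw [y, h, show xs (0 : K4) = 1 from rfl, mul_one, mul_one]

theorem exists_y (hF : Sat F 2) (a0 : a ≠ 0) (h : Th F a) : ∃ e, Mor F (sE a) (y a e) := by
  obtain ⟨α, hα, h⟩ := h
  have k : ∀ p q : V4, (∀ v, Lv p q (Lv p q v) = v) → Lv p q (0, 0, 0, 1) ≠ (0, 0, 0, 1) →
    ((Tv om ∘ Lv p q)^[3] (0, 0, 0, 1) = (0, 0, 0, 1) → ∃ σ, ∀ v, (Tv om ∘ Lv p q)^[3] v = Tv σ v) →
      ∃ e σ τ, ∀ v, Yv e v = Tv σ (Lv p q (Tv τ v)) := by decide +kernel
  have f := fun (γ : MulAut (sE a)) (j : Sv K4) => fn_J (j := j) a0 γ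
  have ct : ∀ σ, ∀ j : Sv K4, j.s = 0 → co a (fn (cA (sE a) (xs (a * σ))) j) = Tv σ (co a j) := fun σ j hj => by
    rw [fn_cA (nE _) (J_le_E hj), co_cj a0 _ hj, om_eq a0]
  have r0 := mul_mem (mul_mem hα (cA_mem F _ (xs (a * om)))) (inv_mem hα)
  have r1 : fn (α * cA (sE a) (xs (a * om)) * α⁻¹) z0 ≠ z0 := fun c => by
    obtain ⟨e, he⟩ := mv_z (α := α⁻¹) a0 fun d => h (by simpa using (congrArg (fn α) d).symm)
    have := congrArg (fun x => co a (fn α⁻¹ x)) c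
    simp only [fn_mul, fn_inv_fn, ct _ _ (f _ z0 rfl), he] at this
    exact (show ∀ e, Tv om (0, 0, 1, e) ≠ (0, 0, 1, e) by decide +kernel) e this
  have r2 : α * cA (sE a) (xs (a * om)) * α⁻¹ * (α * cA (sE a) (xs (a * om)) * α⁻¹) = 1 := by
    rw [conj_mul, ← cA_mul (nE _) (nE _), xs_sq]; simp
  generalize α * cA (sE a) (xs (a * om)) * α⁻¹ = r at r0 r1 r2
  obtain ⟨p, q, e⟩ := lin a0 r
  have e3 : ∀ v, co a (fn ((cA (sE a) (xs (a * om)) * r) ^ 3) (un a v)) = (Tv om ∘ Lv p q)^[3] v := fun v => by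
    have : ∀ j : Sv K4, j.s = 0 → co a (fn (cA (sE a) (xs (a * om)) * r) j) = (Tv om ∘ Lv p q) (co a j) :=
      fun j hj => by rw [fn_mul, ct _ _ (f _ _ hj), e _ hj]; rfl
    rw [fn_pow_succ, fn_pow_succ, pow_one, this _ (f _ _ (f _ _ rfl)), this _ (f _ _ rfl), this _ rfl, co_un a0]
    rfl
  obtain ⟨d, σ, τ, c⟩ := k p q (fun v => by
      rw [← co_un a0 v, ← e _ rfl, ← e _ (f _ _ rfl), ← fn_mul, r2, fn_one])
    (fun c => r1 (co_inj a0 (f _ _ rfl) rfl (by rw [e _ rfl, co_z a0, c]))) fun c => by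
      obtain ⟨g, -, m⟩ := mem_autInducedBy'.1 (fixz hF a0 (pow_mem (mul_mem (cA_mem F _ (xs (a * om))) r0) 3)
        (co_inj a0 (f _ _ rfl) rfl (by rw [co_z a0, ← c, ← e3, un_z])))
      exact ⟨_, fun v => by rw [← e3, m _ (J_le_E (un_mem a v)), co_cj a0 _ rfl, co_un a0]⟩
  have b0 := mul_mem (mul_mem (cA_mem F _ (xs (a * σ))) r0) (cA_mem F _ (xs (a * τ)))
  have b1 : ∀ j : Sv K4, j.s = 0 → fn (cA (sE a) (xs (a * σ)) * r * cA (sE a) (xs (a * τ))) j = un a (Yv d (co a j)) :=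
    fun j hj => co_inj a0 (f _ _ hj) rfl (by
      rw [co_un a0, c, fn_mul, fn_mul, ct _ _ (f _ _ (f _ _ hj)), e _ (f _ _ hj), ct _ _ hj])
  generalize cA (sE a) (xs (a * σ)) * r * cA (sE a) (xs (a * τ)) = β at b0 b1
  obtain ⟨i, i0, i1⟩ := (show ∀ a : K4, a ≠ 0 → ∀ x : Sv K4, x.s = a → x * x = 1 → ∃ i : Sv K4, i.s = 0 ∧
    i * x * i⁻¹ = xs a by decide +kernel) a a0 _ (fn_xs a0 β) (by
      rw [← mulOn_fn β (xs_E a) (xs_E a), xs_sq, (mulOn_fn β).map_one])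
  refine ⟨d, ((mor_fn le_top b0).cj_comp (mem_top i)).congr fun x hx => ?_⟩
  have i2 : ∀ v, i * un a v * i⁻¹ = un a v := fun v => by rw [J_comm i0 (un_mem a v), mul_inv_cancel_right]
  rw [comp_apply, cj_apply]
  by_cases m : x.s = 0
  · rw [y_J d m, b1 x m, i2]
  · obtain ⟨b, c⟩ := split_E x
    rw [y]
    rw [s_eq a0 hx m] at b c ⊢
    nth_rw 2 [c]
    rw [mulOn_fn β (J_le_E b) (xs_E a), ← conj_mul, b1 _ b, i1, i2]

end CF.FusV.Tw
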