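import Cfsg.Agent.FusV.T1

/-! The case `q = 2`: at most two of the subgroups `sE a` are essential, and then `J` is not. -/

set_option autoImplicit false
set_option maxRecDepth 100000
set_option synthInstance.maxSize 1024
set_option linter.style.haveILetI false

namespace CF.FusV.Tw

open Cfsg Cfsg.FusionSystem Subgroup CF.Fus CF.FusD Function Sv
open CF.FusU (cm mul_cm)

variable {a b : K4} {e : ZMod 2} {j t x w : Sv K4} {f : Sv K4 → Sv K4} {g h : MulAut (sJ K4)}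
  {E F : FusionSystem (⊤ : Subgroup (Sv K4))}

theorem y_s (e : ZMod 2) (x : Sv K4) : (y a e x).s = x.s := zero_add _
theorem y_mem (h : x ∈ sE a) : y a e x ∈ sE a := by rwa [mem_sE, y_s]
theorem y_z (a0 : a ≠ 0) : y a e z0 ≠ z0 := by revert a e; decide +kernel

theorem aut_y (m : Mor F (sE a) (y a e)) : ∃ β ∈ F.autGroup (sE a), ∀ x ∈ sE a, fn β x = y a e x :=
  (m.iso_self fun _ => y_mem).exists_aut

theorem th_of_y (a0 : a ≠ 0) (m : Mor F (sE a) (y a e)) : Th F a :=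
  let ⟨β, h, k⟩ := aut_y m
  ⟨β, h, k z0 z_E ▸ y_z a0⟩

theorem sylJ (hF : Sat F 2) : SylIn 2 (autInducedBy ⊤ (sJ K4)) (F.autGroup (sJ K4)) :=
  hF.syl_of_fn (fn_of_norm F le_top fun t _ => norm_J t)

theorem ord4 (hF : Sat F 2) (m : Mor F (sJ K4) f) (h : ∀ j ∈ sJ K4, f j ∈ sJ K4)
    (h4 : ∀ j ∈ sJ K4, f (f (f (f j))) = j) (hj : j ∈ sJ K4) : f (f j) = j := by
  obtain ⟨η, hη, e⟩ := (m.iso_self h).exists_aut
  obtain ⟨b, -, hb⟩ := (sylJ hF).exists_conj_elt hη (k := 2) (aut_ext fun x hx => by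
    rw [show 2 ^ 2 = 3 + 1 from rfl, fn_pow_succ, fn_pow_succ, fn_pow_succ, pow_one, e _ hx, e _ (h _ hx),
      e _ (h _ (h _ hx)), e _ (h _ (h _ (h _ hx))), h4 _ hx, fn_one])
  obtain ⟨s, -, -, c⟩ := mem_autInducedBy.1 hb
  have : b * (η * η) * b⁻¹ = 1 := by
    rw [← conj_mul, ← c, ← cA_mul (norm_J s) (norm_J s), cA_eq_one_iff (norm_J _)]
    exact fun x hx => J_comm hx (CharTwo.add_self_eq_zero _)
  rw [← e _ (h _ hj), ← e _ hj, ← fn_mul, conj_eq_one_iff.1 this, fn_one]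

theorem not_same (hF : Sat F 2) (a0 : a ≠ 0) (b0 : b ≠ 0) (ab : a ≠ b) (m : Mor F (sE a) (y a e))
    (n : Mor F (sE b) (y b e)) : False := by
  have k : ∀ a : K4, a ≠ 0 → ∀ b : K4, b ≠ 0 → a ≠ b → ∀ e, (∀ v, (Yv e ∘ Tv 1 ∘ co a ∘ un b ∘ Yv e ∘ co b ∘ un a)^[4] v = v) ∧
    ∃ v, (Yv e ∘ Tv 1 ∘ co a ∘ un b ∘ Yv e ∘ co b ∘ un a)^[2] v ≠ v := by decide +kernel
  obtain ⟨k1, v, k2⟩ := k a a0 b b0 ab e
  have c : ∀ v, (y a e ∘ cj (xs a) ∘ y b e) (un a v) = un a ((Yv e ∘ Tv 1 ∘ co a ∘ un b ∘ Yv e ∘ co b ∘ un a) v) := fun v => by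
    simp only [comp_apply, cj_apply]
    rw [y_J (a := b) e rfl, y_J e (cj_s _ rfl), co_cj a0 _ rfl, xs_s, nrm a0]
  have s : ∀ j ∈ sJ K4, y b e j ∈ sJ K4 := fun j h => (y_s e j).trans h
  have := ord4 hF (f := y a e ∘ cj (xs a) ∘ y b e) (((n.mono J_le_E).cj_comp (mem_top _)).comp m fun j h =>
    J_le_E (cj_s _ (s j h))) (fun j h => (y_s e _).trans (cj_s _ (s j h))) (fun j h => by
      rw [← un_co a0 h, c, c, c, c]; exact congrArg _ (k1 _)) (un_mem a v)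
  rw [c, c] at this
  exact k2 ((co_un a0 _).symm.trans ((congrArg (co a) this).trans (co_un a0 v)))

theorem not_all (hF : Sat F 2) : ¬ ∀ a : K4, a ≠ 0 → Th F a := fun h => by
  obtain ⟨e1, m1⟩ := exists_y hF one_ne_zero (h 1 one_ne_zero)
  obtain ⟨e2, m2⟩ := exists_y hF (by decide) (h om (by decide))
  obtain ⟨e3, m3⟩ := exists_y hF (by decide) (h (om + 1) (by decide))
  rcases (show ∀ a b c : ZMod 2, a = b ∨ a = c ∨ b = c by decide) e1 e2 e3 with rfl | rfl | rfl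
  exacts [not_same hF (by decide) (by decide) (by decide) m1 m2, not_same hF (by decide) (by decide) (by decide) m1 m3,
    not_same hF (by decide) (by decide) (by decide) m2 m3]

theorem aut_cases4 (τ : K4 ≃+* K4) : τ = 1 ∨ τ = starRingAut := by
  have a : ∀ y : K4, y * y = y + 1 → y = om ∨ y = star om := by decide +kernel
  have b : ∀ σ : K4 ≃+* K4, τ om = σ om → τ = σ := fun σ h => RingEquiv.ext fun x => by
    rcases (show ∀ x : K4, x = 0 ∨ x = 1 ∨ x = om ∨ x = om + 1 by decide +kernel) x with rfl | rfl | rfl | rfl <;>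
      simp only [map_zero, map_one, map_add, h]
  exact (a (τ om) (by rw [← map_mul, show om * om = om + 1 by decide +kernel, map_add, map_one])).imp (b 1) (b starRingAut)

theorem top_s (h : PIso f ⊤ ⊤) : ∃ σ : K4 → K4, (∀ x, (f x).s = σ x.s ∧ (f x).c = x.c) ∧ (∀ a, a ≠ 0 → σ a ≠ 0) ∧
    (∀ a s, σ s * star (σ a) = σ a * star (σ s) ↔ s * star a = a * star s) ∧
    (Involutive σ ∨ ∀ a, a ≠ 0 → ∀ b, b ≠ 0 → b = a ∨ b = σ a ∨ b = σ (σ a)) := by
  obtain ⟨α, β, τ, a0, b0, e⟩ := exists_dg h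
  refine ⟨fun s => α * τ s, fun x => ⟨(e x).1, ?_⟩, ?_⟩
  · rw [(e x).2, nrm b0, one_mul]
    rcases aut_cases4 τ with rfl | rfl
    exacts [rfl, x.hc.trans (CharTwo.neg_eq _)]
  · clear e
    unfold Involutive
    rcases aut_cases4 τ with rfl | rfl <;> revert α <;> decide +kernel

theorem top_inn (hF : Sat F 2) (a0 : a ≠ 0) (h : Th F a) (m : Mor F ⊤ f) : ∃ t, ∀ x, f x = t * x * t⁻¹ := by
  obtain ⟨σ, s1, s2, s3, s4 | s4⟩ := top_s m.iso_top.piso
  · obtain ⟨k, k1, s, -, k2⟩ := exists_pow_inn hF m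
    have : ∀ (k : ℕ) x, (f^[k] x).s = σ^[k] x.s := fun k x => by
      induction k with
      | zero => rfl
      | succ k ih => rw [iterate_succ_apply', iterate_succ_apply', (s1 _).1, ih]
    refine inn_of_triv hF m fun x => ⟨?_, (s1 x).2⟩
    rw [(s1 x).1, ← s4.iterate_odd (Nat.not_even_iff_odd.1 (mt even_iff_two_dvd.1 k1)), ← this, k2 x trivial]
    simp
  · have tr : ∀ a, Th F a → Th F (σ a) := fun a ⟨α, hα, c⟩ => by
      have i : Iso F (sE a) (sE (σ a)) f := ⟨m.mono le_top, le_antisymm (img_le_iff.2 fun x hx => by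
        rw [mem_sE, (s1 x).1, s3]; exact hx) fun x hx => by
          obtain ⟨z, -, rfl⟩ := m.iso_top.surj (mem_top x)
          exact mem_img_of_mem (by rwa [mem_sE, (s1 z).1, s3] at hx)⟩
      have z : f z0 = z0 := (mem_Z4 (map_Z m.iso_top.piso (xz_mem _))).resolve_left
        (mt (m.piso.eq_one_iff trivial).1 (by decide))
      refine ⟨_, i.autCongr_mem hα, fun d => c (m.inj trivial trivial ?_)⟩
      rw [← i.piso.fn_autCongr α z_E, z, d]
    exact absurd (fun b b0 => by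
      rcases s4 a a0 b b0 with rfl | rfl | rfl
      exacts [h, tr _ h, tr _ (tr _ h)]) (not_all hF)

/-- the centre of `sE u` -/
def zz (u : K4) (d : Sv K4) : Prop := d.s = 0 ∧ d.c = 0 ∧ d.u * star u = u * star d.u
instance decZz (u : K4) (d : Sv K4) : Decidable (zz u d) := inferInstanceAs (Decidable (_ ∧ _))

theorem not_J (hF : Sat F 2) (a0 : a ≠ 0) (m : Mor F (sE a) (y a e)) : ¬ F.IsEssential 2 (sJ K4) := fun hE => by
  obtain ⟨i1, i2⟩ := hF.ess_Gam hE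
  have sy := sylJ hF
  have c0 : ∀ t : Sv K4, t.s ≠ 0 → cA (sJ K4) t ∉ Inn (sJ K4) := fun t n c =>
    n (mem_of_cA_mem_Inn le_top CS_J ⟨trivial, norm_J t⟩ c)
  have l0 := fun (t : Sv K4) n g => mem_Gam_of_elt (a := g) sy (Inn_norm _) i1.le (cA_mem_autInducedBy (mem_top t)) (c0 t n)
  have l1 : ∀ g ∈ F.autGroup (sJ K4), ∀ t : Sv K4, t.s ≠ 0 →
      g * cA (sJ K4) t * g⁻¹ ∈ Gam (F.autGroup (sJ K4)) (autInducedBy ⊤ (sJ K4)) (Inn (sJ K4)) →
      g ∈ Gam (F.autGroup (sJ K4)) (autInducedBy ⊤ (sJ K4)) (Inn (sJ K4)) := fun g hg t n c => by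
    obtain ⟨k, hk⟩ := isPGroup_iff_mem.1 sy.pg _ (cA_mem_autInducedBy (P := sJ K4) (mem_top t))
    obtain ⟨b, b1, b2⟩ := (sy.mono (le_Gam sy.le i1) Gam_le).exists_conj_elt c (k := k) (by rw [conj_pow, hk]; simp)
    exact (mul_mem_cancel_left b1).1 (l0 t n _ (mul_mem (Gam_le b1) hg) (by simpa [mul_assoc] using b2))
  have l2 : ∀ h ∈ F.autGroup (sJ K4), fn h z0 = z0 →
      h ∈ Gam (F.autGroup (sJ K4)) (autInducedBy ⊤ (sJ K4)) (Inn (sJ K4)) := fun h hh hz => by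
    have mu := mulOn_fn h
    obtain ⟨u, u0, u1⟩ : ∃ u, u ≠ 0 ∧ (fn h (xu u)).c = 0 := by
      rcases (show ∀ x y : Sv K4, x.c = 0 ∨ y.c = 0 ∨ (x * y).c = 0 from fun x y => (show ∀ c d : K4, star c = -c →
        star d = -d → c = 0 ∨ d = 0 ∨ c + d = 0 by decide +kernel) _ _ x.hc y.hc) (fn h (xu 1)) (fn h (xu om)) with c | c | c
      exacts [⟨1, one_ne_zero, c⟩, ⟨om, by decide, c⟩, ⟨1 + om, by decide, by
        rwa [← mu rfl rfl, show xu 1 * xu om = xu (1 + om) by decide +kernel] at c⟩]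
    have z4 : ∀ w : Sv K4, w.s = 0 → w.c = 0 → w ≠ 1 → w ≠ z0 → w.u ≠ 0 ∧
      ∀ d, zz w.u d ↔ d = 1 ∨ d = z0 ∨ d = w ∨ d = w * z0 := by decide +kernel
    have x1 : xu u ≠ 1 := fun c => u0 (congrArg Sv.u c)
    have x2 : xu u ≠ z0 := fun c => u0 (congrArg Sv.u c)
    obtain ⟨w0, w1⟩ := z4 _ (fn_mem h rfl) u1 (mt ((piso_fn h).eq_one_iff rfl).1 x1) fun c => x2 (fn_inj h (c.trans hz.symm))
    have zt : ∀ d, zz (fn h (xu u)).u (fn h d) ↔ zz u d := fun d => by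
      have := (z4 (xu u) rfl rfl x1 x2).2 d
      rw [xu_u] at this
      rw [w1, this]
      nth_rw 1 [← mu.map_one, ← hz]
      nth_rw 2 [← hz]
      rw [← mu rfl rfl]
      simp only [(fn_inj h).eq_iff]
    generalize (fn h (xu u)).u = v at w0 zt
    have z5 : ∀ u : K4, ∀ j : Sv K4, j.s = 0 → zz u (cm j (xs u)) ∧ (zz u j → xs u * j * (xs u)⁻¹ = j) := by
      decide +kernel
    have r : ∀ j ∈ sJ K4, fn (h * cA (sJ K4) (xs u) * h⁻¹) j = j * fn h (cm (fn h⁻¹ j) (xs u)) := fun j hj => by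
      rw [fn_mul, fn_mul, fn_cA (norm_J _) (fn_mem _ hj), ← mul_cm, mu (fn_mem _ hj) (cm_A _ _).1, fn_fn_inv]
    have r0 := mul_mem (mul_mem hh (cA_mem F _ (xs u))) (inv_mem hh)
    refine l1 h hh (xs u) u0 (l0 (xs v) w0 _ r0 ?_)
    rw [(conj_cA (norm_J _) (norm_J (xs v))).2 fun j hj => ?_]
    · exact cA_mem_autInducedBy trivial
    have d1 := (z5 v j hj).1
    have d2 := (zt _).2 (z5 u _ (fn_mem h⁻¹ hj)).1
    have d3 : fn (h * cA (sJ K4) (xs u) * h⁻¹) (cm j (xs v)) = cm j (xs v) := by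
      have := (zt (fn h⁻¹ (cm j (xs v)))).1 (by rwa [fn_fn_inv])
      rw [fn_mul, fn_mul, fn_cA (norm_J _) this.1, (z5 u _ this.1).2 this, fn_fn_inv]
    rw [← mul_cm j, mulOn_fn _ hj d1.1, d3, r j hj, ← conj_mul, (z5 v _ d2.1).2 d2, ← mul_cm j, mul_assoc, mul_assoc,
      J_comm d1.1 d2.1]
  have l3 : ∀ g ∈ F.autGroup (sJ K4), (fn g z0).c = 0 →
      g ∈ Gam (F.autGroup (sJ K4)) (autInducedBy ⊤ (sJ K4)) (Inn (sJ K4)) := fun g hg c => by
    obtain ⟨s, s0, s1⟩ := (show ∀ w : Sv K4, w.s = 0 → w.c = 0 → ∃ s, s ≠ 0 ∧ xs s * w * (xs s)⁻¹ = w by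
      decide +kernel) _ (fn_mem g (x := z0) rfl) c
    refine inv_mem_iff.1 (l1 _ (inv_mem hg) (xs s) s0 (l2 _
      (mul_mem (mul_mem (inv_mem hg) (cA_mem F _ _)) (inv_mem (inv_mem hg))) ?_))
    rw [inv_inv, fn_mul, fn_mul, fn_cA (norm_J _) (fn_mem g rfl), s1, fn_inv_fn]
  obtain ⟨η, hη, c⟩ := ((m.mono J_le_E).iso_self fun j h => (y_s e j).trans h).exists_aut
  have l4 := l0 (xs a) a0 η hη (by
    rw [(conj_cA (norm_J _) (norm_J (xs a))).2 fun j hj => ?_]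
    · exact cA_mem_autInducedBy trivial
    rw [c _ (cj_s _ hj), c _ hj, m.mul.map_conj (xs_E a) (J_le_E hj),
      (show ∀ a e, y a e (xs a) = xs a by decide +kernel) a e])
  refine i2 (le_antisymm Gam_le fun g hg => ?_)
  have v := fn_mem g (x := z0) rfl
  rcases (show ∀ a : K4, a ≠ 0 → ∀ e, ∀ v : Sv K4, v.s = 0 → v.c = 0 ∨ (y a e v).c = 0 ∨ (y a e (y a e v)).c = 0 by
    decide +kernel) a a0 e _ v with d | d | d
  · exact l3 g hg d
  · exact (mul_mem_cancel_left l4).1 (l3 _ (mul_mem hη hg) (by rwa [fn_mul, c _ v]))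
  · exact (mul_mem_cancel_left l4).1 ((mul_mem_cancel_left l4).1 (l3 _ (mul_mem hη (mul_mem hη hg))
      (by rwa [fn_mul, fn_mul, c _ (fn_mem η v), c _ v])))

end CF.FusV.Tw
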