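import Cfsg.Agent.FusV.A
import Cfsg.Agent.FusV.WD
import Cfsg.Agent.Schur.Bit
import Cfsg.Agent.Leech.CoTr

/-! The embedding of the Sylow `3`-subgroup of `PSU₄(3)` into `Co0`. -/

set_option autoImplicit false
set_option maxRecDepth 100000
set_option Elab.async false

namespace CF.FusV.W

open Cfsg CF.Comp CF.Schur.Pc CF.Leech Function MulAction
open scoped Pointwise

theorem W2_ind {P : W2 → Prop} (h0 : P 0) (ha : ∀ x y, P x → P y → P (x + y))
    (hq : ∀ q < 24, P (Leech.wd (2 ^ q))) (x : W2) : P x := by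
  rw [← one_smul Co0 x, W2.smul_def]
  refine Finset.sum_induction _ P ha h0 fun q _ => ?_
  rcases CF.Leech.zmod2_cases (x q) with e | e <;> rw [e]
  · rwa [zero_smul]
  · rw [one_smul, one_smul, red_bv]; exact hq _ (idx_lt q)

/-- the matrices modulo 2 -/
noncomputable def rho : Co0 →* Matrix (Fin 24) (Fin 24) (ZMod 2) where
  toFun g := Matrix.of fun i j => (g • Leech.wd (2 ^ j.1)) (pt i.1)
  map_one' := by
    ext i j
    simp [Leech.wd, idx_pt i.2, Nat.testBit_two_pow, Matrix.one_apply, Fin.ext_iff, eq_comm]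
  map_mul' g h := by
    ext i j
    rw [Matrix.of_apply, mul_smul, W2.smul_def, sum_pts, Finset.sum_range, Matrix.mul_apply]
    refine (Finset.sum_apply _ _ _).trans (Finset.sum_congr rfl fun k _ => ?_)
    rw [red_smul, red_bv, idx_pt k.2, mul_comm]
    rfl

theorem rho_eq {g h : Co0} (e : rho g = rho h) : g = h ∨ g = negCo * h := by
  have := eq_one_or_neg_of_W2 (g := h⁻¹ * g) (W2_ind (smul_zero _)
    (fun x y a b => by rw [smul_add, a, b]) fun q hq => by
      rw [mul_smul, inv_smul_eq_iff]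
      funext p
      have := congrFun (congrFun e ⟨idx p, idx_lt p⟩) ⟨q, hq⟩
      simpa [rho, pt_idx] using this)
  rwa [inv_mul_eq_one, inv_mul_eq_iff_eq_mul, negCo_comm, eq_comm] at this

/-- the packed matrices have the listed columns -/
noncomputable def colsOK (As : List (List ℕ)) (ms : List ℕ) (m : ℕ) : Bool :=
  allFrom (fun i => allFrom (fun a => allFrom (fun b => Nat.beq
    (Nat.mod (Nat.shiftRight (nth 0 (nth [] As i) b) a) 2)
    (Nat.mod (Nat.shiftRight (nth (idB 24) ms (2 * i)) (24 * a + b)) 2)) 0 24) 0 24) 0 m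

theorem coW : allCo YW AW = true := by decide +kernel

/-- the listed elements -/
noncomputable def F : ℕ → Co0 := coEl YW

theorem bmW : BM rho MW F := by
  have hc : colsOK AW MW 13 = true := by decide +kernel
  refine bm_of_gens (m := 13) (by decide +kernel) (fun i hi => ?_) fun i hi => coEl_ge' (Ys := YW) i hi
  ext a b
  have h1 : nth 0 (nth [] AW i) b >>> a.1 % 2 = nth (idB 24) MW (2 * i) >>> (24 * a.1 + b.1) % 2 :=
    Comp.beq_iff.1 (allFrom_zero.1 (allFrom_zero.1 (allFrom_zero.1 hc i hi) a a.2) b b.2)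
  show (coEl YW i • Leech.wd (2 ^ b.1)) (pt a.1) = b2z _
  rw [(coEl_spec coW (Ys := YW) hi).2.2 b b.2, Leech.wd, idx_pt a.2, b2z, Nat.testBit_eq_decide_div_mod_eq,
    Nat.testBit_eq_decide_div_mod_eq, ← Nat.shiftRight_eq_div_pow, ← Nat.shiftRight_eq_div_pow, h1]

theorem same {u w : List ℕ} (h : bsame 24 MW u w = true) : ev F u = ev F w ∨ ev F u = negCo * ev F w := by
  rw [bsame, ctx_eq, Comp.beq_iff] at h
  refine rho_eq ?_
  rw [bevK_spec fun y _ => bmW y, bevK_spec fun y _ => bmW y, h]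

theorem repF {i : ℕ} (h : i < 13) : RepM (F i) (nth [] AW i) := (coEl_spec coW (Ys := YW) h).2

/-- numbering of the field -/
def ix (d : K9) : ℕ := 3 * d.re.val + d.im.val

theorem isE : ∀ d : K9, isL (nth 0 EW (ix d)) = true := by decide +kernel

/-- nine minimal vectors -/
noncomputable def e (d : K9) : LL := vl _ (isE d)

/-- inner products -/
def gam (d : K9) : ℤ := if d = 0 then 32 else if d.re = 0 ∨ d.im = 0 then -16 else 8

theorem dt_e (c d : K9) : dt (e c) (e d) = gam (c - d) := by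
  have : ∀ c d : K9, dotIs (nth 0 EW (ix c)) (nth 0 EW (ix d)) (gam (c - d) + 1024).toNat = true ∧
      ((gam (c - d) + 1024).toNat : ℤ) - 1024 = gam (c - d) := by decide +kernel
  exact (dot_vec (this c d).1).trans (this c d).2

theorem nm_e (d : K9) : nm (e d) = 32 := by rw [← dt_self, dt_e, sub_self]; rfl

theorem red_e (d : K9) : red (e d) = Leech.wd (nth 0 CW (ix d)) := by
  have : ∀ d : K9, clsN (nth 0 EW (ix d)) = nth 0 CW (ix d) := by decide +kernel
  rw [← this]; exact red_eq_clsN rfl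

theorem e_inj {c d : K9} (h : e c = e d) : c = d := by
  have : ∀ c d : K9, gam (c - d) = 32 → c = d := by decide +kernel
  exact this c d (by rw [← dt_e, h, dt_self, nm_e])

theorem e_zero : e 0 = bv (pt 0) := Subtype.ext (by decide +kernel)

theorem act_e {i : ℕ} (hi : i < 13) (π : K9 → K9) (h0 : nth 0 (nth [] YW i) 0 = nth 0 EW (ix (π 0))) (d : K9)
    (h : xorSel (nth [] AW i) (nth 0 CW (ix d)) = nth 0 CW (ix (π d)) ∧ gam (π d - π 0) = gam d) :
    F i • e d = e (π d) := by
  have a : F i • e 0 = e (π 0) := Subtype.ext (by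
    rw [e_zero, F, (coEl_spec coW (Ys := YW) hi).1, idx_pt (by decide), h0]; rfl)
  have g0 : ∀ d : K9, gam d ≠ -gam d := by decide +kernel
  refine (eq_or_neg_of_red (x := F i • e d) (y := e (π d)) (by rw [co_nm, nm_e]; decide) (by rw [nm_e]; decide)
    (by rw [red_smul, red_e, red_e, (repF hi).smul_wd, h.1])).resolve_right fun b => g0 d ?_
  have := co_dt (F i) (e d) (e 0)
  rwa [a, b, dt_neg_left, dt_e, dt_e, h.2, sub_zero, eq_comm] at this

theorem fixF {i : ℕ} (hi : i < 7) (d : K9) : F i • e d = e d := by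
  have : ∀ i < 7, nth 0 (nth [] YW i) 0 = nth 0 EW (ix 0) ∧ ∀ d : K9,
      xorSel (nth [] AW i) (nth 0 CW (ix d)) = nth 0 CW (ix d) ∧ gam (d - 0) = gam d := by decide +kernel
  exact act_e (by omega) id (this i hi).1 d ((this i hi).2 d)

/-- the word of an element -/
def wr (x : Sv K9) : List ℕ :=
  List.replicate x.s.re.val 1 ++ List.replicate x.s.im.val 3 ++ List.replicate x.c.im.val 5 ++
    List.replicate (x.u - x.s * x.c).re.val 7 ++ List.replicate (x.u - x.s * x.c).im.val 9 ++
    List.replicate (x.z + x.s * star (x.u - x.s * x.c)).im.val 11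

theorem ev_fix {w : List ℕ} (h : ∀ a ∈ w, a ≤ 14) (d : K9) : ev F w • e d = e d := by
  induction w with
  | nil => exact one_smul _ _
  | cons a w ih =>
    rw [ev_cons, mul_smul, ih fun b hb => h b (List.mem_cons_of_mem _ hb)]
    have := h a List.mem_cons_self
    rcases a with _ | a
    · rw [evL_zero, one_smul]
    · rcases Nat.even_or_odd' a with ⟨i, rfl | rfl⟩
      · rw [evL_odd, fixF (by omega)]
      · rw [evL_even, inv_smul_eq_iff, fixF (by omega)]

theorem wr_fix (x : Sv K9) (d : K9) : ev F (wr x) • e d = e d := ev_fix (fun a h => by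
  simp only [wr, List.mem_append, List.mem_replicate] at h; omega) d

theorem e_ne_neg (d : K9) : e d ≠ -e d := fun h => by
  have := nm_e d
  rw [eq_neg_self h, nm_eq_zero.2 rfl] at this
  cases this

theorem eq_of_fix {g h : Co0} (a : g = h ∨ g = negCo * h) (b : g • e 0 = e 0) (c : h • e 0 = e 0) : g = h :=
  a.resolve_right fun k => e_ne_neg 0 (by rw [k, mul_smul, c, negCo_smul] at b; exact b.symm)

theorem skew : ∀ c : K9, star c = -c → c = 0 ∨ c = ii ∨ c = ii + ii := by decide +kernel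

theorem indK {R : K9 → Prop} (h : ∀ a b, R a → R b → R (a + b)) (h1 : R 1) (h2 : R ii) (a : K9) : R a := by
  have : ∀ a : K9, ∃ b ∈ [1, 1 + 1, 1 + 1 + 1], ∃ c ∈ [ii, ii + ii, ii + ii + ii], a = b + c := by decide +kernel
  obtain ⟨b, hb, c, hc, rfl⟩ := this a
  simp only [List.mem_cons, List.not_mem_nil, or_false] at hb hc
  refine h _ _ ?_ ?_
  · rcases hb with rfl | rfl | rfl
    exacts [h1, h _ _ h1 h1, h _ _ (h _ _ h1 h1) h1]
  · rcases hc with rfl | rfl | rfl
    exacts [h2, h _ _ h2 h2, h _ _ (h _ _ h2 h2) h2]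

section
variable {P : Sv K9 → Prop} (m : ∀ x y, P x → P y → P (x * y))
include m

theorem ind_s (h1 : P (xs 1)) (h2 : P (xs ii)) (s : K9) : P (xs s) :=
  indK (R := fun s => P (xs s)) (fun a b x y => by
    rw [show xs (a + b) = xs a * xs b by ext <;> simp]; exact m _ _ x y) h1 h2 s

theorem ind_u (h1 : P (xu 1)) (h2 : P (xu ii)) (s : K9) : P (xu s) :=
  indK (R := fun s => P (xu s)) (fun a b x y => by
    rw [show xu (a + b) = xu a * xu b by ext <;> simp]; exact m _ _ x y) h1 h2 s

theorem ind_c (h1 : P (xc ii ii_sk)) (c : K9) (h : star c = -c) : P (xc c h) := by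
  have a := m _ _ h1 h1
  rcases skew c h with rfl | rfl | rfl
  · convert m _ _ a h1 using 1; revert h; decide +kernel
  · exact h1
  · convert a using 1; ext <;> simp

theorem ind_z (h1 : P (xz ii ii_sk)) (c : K9) (h : star c = -c) : P (xz c h) := by
  have a := m _ _ h1 h1
  rcases skew c h with rfl | rfl | rfl
  · convert m _ _ a h1 using 1; revert h; decide +kernel
  · exact h1
  · convert a using 1; ext <;> simp

theorem ind (x : Sv K9) (hs : P (xs x.s)) (hc : P (xc x.c x.hc)) (hu : ∀ u, P (xu u)) (hz : P (xz ii ii_sk)) : P x := by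
  have := m _ _ (m _ _ (m _ _ hs hc) (hu (x.u - x.s * x.c)))
    (ind_z m hz (x.z + x.s * star (x.u - x.s * x.c)) (by simp; ring))
  convert this using 1
  refine Sv.ext ?_ ?_ ?_ ?_ <;> simp

theorem ind3 (h1 : P (xs 1)) (h2 : P (xs ii)) (h3 : P (xc ii ii_sk)) (x : Sv K9) : P x := by
  have a : ∀ s, P (xs s * xc ii ii_sk * xs (-s) * xc ii ii_sk * xc ii ii_sk) := fun s =>
    m _ _ (m _ _ (m _ _ (m _ _ (ind_s m h1 h2 _) h3) (ind_s m h1 h2 _)) h3) h3
  have z := m _ _ (a 1) (a (-1))
  refine ind m x (ind_s m h1 h2 _) (ind_c m h3 _ _) (ind_u m ?_ ?_) ?_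
  · convert m _ _ (a (-ii)) z using 1; decide +kernel
  · convert m _ _ (a 1) z using 1; decide +kernel
  · convert m _ _ z z using 1; decide +kernel

end

theorem all_Sv {P : Sv K9 → Prop} (h : ∀ s u : K9, ∀ c ∈ [0, ii, ii + ii], ∀ z ∈ [0, ii, ii + ii],
    ∀ hc hz, P ⟨s, c, u, z - s * star u, hc, hz⟩) (x : Sv K9) : P x := by
  have := h x.s x.u x.c (by simpa using skew _ x.hc) (x.z + x.s * star x.u) (by simpa using skew _ (by simp; ring))
    x.hc (by simp)
  simpa using this

theorem hom_gen : ∀ g ∈ [xs 1, xs ii, xc ii ii_sk], ∀ x, bsame 24 MW (wr (g * x)) (wr g ++ wr x) = true := by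
  have : ∀ s u : K9, ∀ c ∈ [0, ii, ii + ii], ∀ z ∈ [0, ii, ii + ii], ∀ hc hz, ∀ g ∈ [xs 1, xs ii, xc ii ii_sk],
    bsame 24 MW (wr (g * ⟨s, c, u, z - s * star u, hc, hz⟩)) (wr g ++ wr ⟨s, c, u, z - s * star u, hc, hz⟩) = true := by
    decide +kernel
  exact fun g hg x => all_Sv (P := fun x => ∀ g ∈ _, bsame 24 MW (wr (g * x)) (wr g ++ wr x) = true) this x g hg

/-- the embedding -/
noncomputable def ψ : Sv K9 →* Co0 := MonoidHom.mk' (fun x => ev F (wr x)) (by
  have a : ∀ g ∈ [xs 1, xs ii, xc ii ii_sk], ∀ x, ev F (wr (g * x)) = ev F (wr g) * ev F (wr x) := fun g hg x =>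
    eq_of_fix (ev_append F _ _ ▸ same (hom_gen g hg x)) (wr_fix _ _) (by rw [mul_smul, wr_fix, wr_fix])
  exact ind3 (P := fun g => ∀ x, ev F (wr (g * x)) = ev F (wr g) * ev F (wr x))
    (fun g h a b x => by rw [mul_assoc, a, b, a, mul_assoc]) (a _ (by simp)) (a _ (by simp)) (a _ (by simp)))

theorem ψ_fix (x : Sv K9) (d : K9) : ψ x • e d = e d := wr_fix x d

end CF.FusV.W
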