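import Cfsg.Agent.FusV.W2

/-! The normaliser in `Co2` of the Sylow `3`-subgroup. -/

set_option autoImplicit false
set_option maxRecDepth 100000
set_option Elab.async false

namespace CF.FusV.W

open Cfsg CF.Comp CF.Schur.Pc CF.Leech CF.Fus Function MulAction
open CF.FusU (Uf)
open scoped Pointwise

theorem card_Sv : Nat.card (Sv K9) = 3 ^ 6 := by
  let f : Sv K9 ≃ K9 × K9 × {c : K9 // star c = -c} × {c : K9 // star c = -c} :=
    { toFun := fun x => (x.s, x.u, ⟨x.c, x.hc⟩, ⟨x.z + x.s * star x.u, by simp; ring⟩)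
      invFun := fun p => ⟨p.1, p.2.2.1.1, p.2.1, p.2.2.2.1 - p.1 * star p.2.1, p.2.2.1.2, by simp [p.2.2.2.2]⟩
      left_inv := fun x => by refine Sv.ext rfl rfl rfl ?_; simp
      right_inv := fun p => by simp }
  rw [Nat.card_congr f, Nat.card_eq_fintype_card]
  decide +kernel

theorem pg_Sv : IsPGroup 3 (Sv K9) := .of_card card_Sv

/-- a generator of the centre -/
def z0 : Sv K9 := xz ii ii_sk

theorem cen_cases {y : Sv K9} (h : ∀ x, y * x = x * y) : y = 1 ∨ y = z0 ∨ y = z0 * z0 := by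
  obtain ⟨a, b, c⟩ := cen_Q fun x _ => h x
  rcases skew _ (z_sk a) with k | k | k
  · exact Or.inl (Sv.ext a b c k)
  · exact Or.inr (Or.inl (Sv.ext a b c k))
  · exact Or.inr (Or.inr (Sv.ext a b c (k.trans (by decide +kernel))))

theorem ψ_inj : Injective ψ := by
  haveI : Fact (Nat.Prime 3) := ⟨Nat.prime_three⟩
  haveI := pg_Sv.isNilpotent
  refine (MonoidHom.ker_eq_bot_iff ψ).1 (by_contra fun h => ?_)
  obtain ⟨⟨y, h1, h2⟩, h3⟩ := Subgroup.ne_bot_iff_exists_ne_one.1 (CF.Solv.normal_inf_center_ne_bot ψ.ker h)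
  have a : ψ z0 ≠ 1 := fun k => bmW.diff (x := 1) (u := wr z0) (w := []) (by decide +kernel) (congrArg rho k)
  rcases cen_cases fun x => (Subgroup.mem_center_iff.1 h2 x).symm with rfl | rfl | rfl
  · exact h3 rfl
  · exact a h1
  · exact a (by rw [show z0 = z0 * z0 * (z0 * z0) by decide +kernel, map_mul, h1, mul_one])

/-- the eighteen vectors -/
noncomputable def es (p : Bool × K9) : LL := cond p.1 (-e p.2) (e p.2)

/-- their inner products -/
def gs (p q : Bool × K9) : ℤ := if p.1 = q.1 then gam (p.2 - q.2) else -gam (p.2 - q.2)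

theorem dt_es (p q : Bool × K9) : dt (es p) (es q) = gs p q := by
  obtain ⟨_ | _, a⟩ := p <;> obtain ⟨_ | _, b⟩ := q <;> simp [es, gs, dt_neg_left, dt_neg_right, dt_e]

/-- the sum of the images under the first `p` powers -/
noncomputable def nrm (A : List ℕ) (p v : ℕ) : ℕ :=
  Nat.rec (motive := fun _ => ℕ) (nat_lit 0) (fun _ r => force r fun r => Nat.xor v (xorSel A r)) p

theorem wd_nrm {b : Co0} {A : List ℕ} (h : RepM b A) (p v : ℕ) :
    Leech.wd (nrm A p v) = ∑ i ∈ Finset.range p, b ^ i • Leech.wd v := by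
  induction p with
  | zero => exact wd_zero
  | succ p ih =>
    change Leech.wd (force (nrm A p v) fun r => Nat.xor v (xorSel A r)) = _
    rw [force_eq, wd_xor, ← h.smul_wd, ih, Finset.sum_range_succ', Finset.smul_sum, pow_zero,
      one_smul, add_comm]
    simp only [pow_succ', mul_smul]

/-- classes of fixed vectors -/
noncomputable def cl (k : ℕ) : ℕ := xorSel [nth 0 CW 0, nth 0 CW 3, nth 0 CW 1, nth 0 CW 4] k

theorem fix_es {v : LL} (hv : nm v = 32) (h : ∀ x, ψ x • v = v) : ∃ p, v = es p := by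
  have hb := (repF (i := 0) (by decide)).mul (repF (i := 2) (by decide))
  have key : ∀ x : W2, ∃ k < 16, Leech.wd (cl k) = ∑ i ∈ Finset.range 9, (F 0 * F 2) ^ i • x := by
    refine W2_ind ⟨0, by decide, by
      rw [show cl 0 = 0 by decide +kernel]; simpa using wd_zero⟩ ?_ fun q hq => ?_
    · rintro x y ⟨k, a, c⟩ ⟨l, b, d⟩
      have : ∀ k < 16, ∀ l < 16, cl (k ^^^ l) = Nat.xor (cl k) (cl l) := by decide +kernel
      exact ⟨_, Nat.xor_lt_two_pow (n := 4) a b, by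
        simp only [this k a l b, wd_xor, c, d, smul_add, Finset.sum_add_distrib]⟩
    · have : ∀ q < 24, nth 0 KW q < 16 ∧ cl (nth 0 KW q) =
        nrm (lmap (xorSel (nth [] AW 0)) (nth [] AW 2)) 9 (2 ^ q) := by decide +kernel
      exact ⟨_, (this q hq).1, by rw [(this q hq).2, wd_nrm hb]⟩
  obtain ⟨k, a, b⟩ := key (red v)
  have c : F 0 * F 2 ∈ stabilizer Co0 v := by
    have := h (xs 1 * xc ii ii_sk)
    rwa [map_mul, show ψ (xs 1) = F 0 from ev_single F 0, show ψ (xc ii ii_sk) = F 2 from ev_single F 2] at this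
  have d : ∀ i : ℕ, (F 0 * F 2) ^ i • red v = red v := fun i => by rw [← red_smul, pow_mem c i]
  simp only [d, Finset.sum_const, Finset.card_range] at b
  rw [show 9 = 4 + 4 + 1 from rfl, succ_nsmul, add_nsmul, W2.add_self, zero_add] at b
  have : ∀ k < 16, (∃ d : K9, cl k = nth 0 CW (ix d)) ∨ ∃ c d : K9, gam (c - d) ≠ -16 ∧
    cl k = Nat.xor (nth 0 CW (ix c)) (nth 0 CW (ix d)) := by decide +kernel
  rcases this k a with ⟨d, m⟩ | ⟨c, d, m, n⟩
  · exact (eq_or_neg_of_red (x := v) (y := e d) (by omega) (by rw [nm_e]; decide) (by rw [← b, m, red_e])).elim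
      (fun k => ⟨(false, d), k⟩) fun k => ⟨(true, d), k⟩
  · have g : ∀ d : K9, gam d ≠ -16 → gam d = 32 ∨ gam d = 8 := by decide +kernel
    have p := nm_sub (e c) (e d)
    have := g _ m
    rw [nm_e, nm_e, dt_e] at p
    rcases eq_or_neg_of_red (x := v) (y := e c - e d) (by omega) (by omega)
      (by rw [← b, n, wd_xor, red_sub, red_e, red_e]) with rfl | rfl
    · omega
    · rw [nm_neg] at hv; omega

/-- elements of the normaliser -/
def Nr (g : Co0) : Prop := ∀ x, ∃ y, g * ψ x * g⁻¹ = ψ y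

theorem Nr.surj {g : Co0} (h : Nr g) (y : Sv K9) : ∃ x, g * ψ x * g⁻¹ = ψ y := by
  choose f hf using h
  obtain ⟨x, rfl⟩ := Finite.surjective_of_injective (f := f) (fun a b k => ψ_inj (by
    simpa using (hf a).trans ((congrArg ψ k).trans (hf b).symm))) y
  exact ⟨x, hf x⟩

theorem Nr.perm {g : Co0} (h : Nr g) (d : K9) : ∃ p, g • e d = es p := fix_es (by rw [co_nm, nm_e]) fun y => by
  obtain ⟨x, k⟩ := h.surj y
  rw [← k, mul_smul, inv_smul_smul, mul_smul, ψ_fix]

theorem Nr.inv_mul {g h : Co0} (a : Nr g) (b : Nr h) : Nr (g⁻¹ * h) := fun x => by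
  obtain ⟨y, k⟩ := b x
  obtain ⟨z, l⟩ := a.surj y
  exact ⟨z, by rw [← mul_left_cancel_iff (a := g), ← mul_right_cancel_iff (a := g⁻¹), l, ← k]; group⟩

/-- the pointwise stabiliser -/
noncomputable def K0 : Subgroup Co0 := stabIn (St3 (e (1 + ii) - e 0) (e 0) (e (-ii))) (e (-1))

theorem mem_K0 {g : Co0} (a : g • e 0 = e 0) (b : g • e (1 + ii) = e (1 + ii)) (c : g • e (-ii) = e (-ii))
    (d : g • e (-1) = e (-1)) : g ∈ K0 := ⟨mem_St3.2 ⟨by rw [smul_sub, a, b], a, c⟩, d⟩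

theorem mem_K0' {g : Co0} (a : ∀ d, g • e d = e d) : g ∈ K0 := mem_K0 (a _) (a _) (a _) (a _)

theorem card_K0 : Nat.card K0 ≤ 29160 := by
  have hu : nm (e (1 + ii) - e 0) = 48 := by rw [nm_sub, nm_e, nm_e, dt_e]; decide +kernel
  have h : dt (e (1 + ii) - e 0) (e 0) = -24 := by rw [dt_sub_left, dt_e, dt_e]; decide +kernel
  have hx : e (-ii) ∈ M2 (e (1 + ii) - e 0) 24 (e 0) (-16) :=
    ⟨nm_e _, by rw [dt_sub_left, dt_e, dt_e]; decide +kernel, by rw [dt_e]; decide +kernel⟩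
  obtain ⟨a, b⟩ := (tr_U43 hu (nm_e 0) h hx).1
  obtain ⟨g, g1, g2, g3⟩ := exists_smul_VUX hu (nm_e 0) h hx
  refine card_stabIn_le (s := 112) (b _ ⟨nm_e _, by rw [dt_sub_left, dt_e, dt_e]; decide +kernel,
    by rw [dt_e]; decide +kernel, by rw [dt_e]; decide +kernel⟩).ge a.ge (by decide) ?_
  rw [Nat.card_congr (St3Equiv g _ _ _).toEquiv, g1, g2, g3, card_U43]

theorem card_mul_le {G ι : Type*} [Group G] [Finite G] {H K : Subgroup G} (hK : K ≤ H) (k : ι → G)
    (hk : ∀ i, k i ∈ H) (inj : ∀ i j, (k i)⁻¹ * k j ∈ K → i = j) : Nat.card ι * Nat.card K ≤ Nat.card H := by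
  rw [← Nat.card_prod]
  refine Nat.card_le_card_of_injective (fun p : ι × K => (⟨k p.1 * p.2, mul_mem (hk _) (hK p.2.2)⟩ : H)) ?_
  rintro ⟨i, a⟩ ⟨j, b⟩ h
  have h : k i * a = k j * b := congrArg Subtype.val h
  obtain rfl := inj i j (by
    rw [show (k i)⁻¹ * k j = a * (b : G)⁻¹ by rw [inv_mul_eq_iff_eq_mul, ← mul_assoc, h, mul_inv_cancel_right]]
    exact mul_mem a.2 (inv_mem b.2))
  rw [Subtype.ext (mul_left_cancel h)]

theorem Tt.fix {h : Co0} (t : Tt h ii (1 + ii) 1) (d : K9) : h • e d = e d := by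
  rw [t.2]; congr 1; revert d; decide +kernel

theorem card_C : Nat.card ↥(K0 ⊓ Subgroup.centralizer {ψ z0}) ≤ 1458 := by
  obtain ⟨h, t⟩ := exists_tt (a := ii) (b := 1 + ii) (by decide) (by decide) 1
  let z : Bool → Sv K9 := fun b => cond b (dg ii (1 + ii) 1 z0) z0
  let k : Option K9 × Bool → Co0 := fun p => (p.1.elim 1 fun a => ψ (xs a) * F 6) * cond p.2 h 1
  let m : Option K9 × Bool → Sv K9 := fun p => p.1.elim (z p.2) fun a => xs a * nj (z p.2) * (xs a)⁻¹
  have a : ∀ b, cond b h 1 * ψ z0 * (cond b h 1)⁻¹ = ψ (z b) := fun b => by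
    cases b
    exacts [by simp [z], t.1 _]
  have b : ∀ p, k p * ψ z0 * (k p)⁻¹ = ψ (m p) := by
    rintro ⟨_ | c, b⟩
    · simpa [k, m] using a b
    · have : z b ∈ sJ K9 := by revert b; change ∀ b, (z b).s = 0; decide +kernel
      simp only [k, m, Option.elim, map_mul, map_inv, ← rl_nj this, ← a]
      group
  have := card_mul_le (H := K0) (K := K0 ⊓ Subgroup.centralizer {ψ z0}) inf_le_left k (fun p => mul_mem (by
      rcases p with ⟨_ | c, b⟩
      exacts [one_mem _, mul_mem (mem_K0' (ψ_fix _)) (mem_K0' (fixF (by decide)))]) (by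
      rcases p with ⟨c, _ | _⟩
      exacts [one_mem _, mem_K0' t.fix])) fun i j l => by
    have l := Subgroup.mem_centralizer_singleton_iff.1 l.2
    have inj : ∀ i j, m i = m j → i = j := by decide +kernel
    refine inj i j (ψ_inj ?_)
    rw [← b, ← b, show k j * ψ z0 = k i * ((k i)⁻¹ * k j * ψ z0) by group, l]
    group
  rw [show Nat.card (Option K9 × Bool) = 20 by rw [Nat.card_eq_fintype_card]; decide +kernel] at this
  have := card_K0
  omega

/-- the structure of elements of the normaliser -/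
def Gd (g : Co0) : Prop := ∃ s a b τ t, a ≠ 0 ∧ b ≠ 0 ∧ Tt t a b τ ∧ g = ψ s * t

theorem Gd.left {t g : Co0} {a b : K9} {τ : K9 ≃+* K9} (h : Tt t a b τ) (ha : a ≠ 0) (hb : b ≠ 0)
    (k : Gd (t⁻¹ * g)) : Gd g := by
  obtain ⟨s, c, d, σ, u, hc, hd, k, l⟩ := k
  refine ⟨dg a b τ s, _, _, _, _, mul_ne_zero ha (by simpa), mul_ne_zero hb (by simpa), h.mul k, ?_⟩
  rw [← h.1, inv_mul_eq_iff_eq_mul.1 l]; group

theorem gd_C {g : Co0} (a : g ∈ K0) (b : g * ψ z0 * g⁻¹ = ψ z0) : Gd g := by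
  obtain ⟨h, t⟩ := exists_tt (a := ii) (b := 1 + ii) (by decide) (by decide) 1
  have t2 := t.mul t
  by_cases c : g ∈ ψ.range
  · obtain ⟨s, rfl⟩ := c
    exact ⟨s, 1, 1, 1, 1, one_ne_zero, one_ne_zero, ⟨fun x => by simp [dg_one], fun d => by simp [act]⟩, by simp⟩
  by_cases d : g * (h * h)⁻¹ ∈ ψ.range
  · obtain ⟨s, d⟩ := d
    exact ⟨s, _, _, _, _, by decide +kernel, by decide +kernel, t2, by rw [d]; group⟩
  have f : h * h ∉ ψ.range := by
    rintro ⟨s, f⟩
    have := t2.1 (xs 1)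
    rw [← f, ← map_mul, ← map_inv, ← map_mul] at this
    have := congrArg Sv.s (ψ_inj this)
    simp only [Sv.mul_s, Sv.inv_s, add_neg_cancel_comm] at this
    revert this; decide +kernel
  have := card_mul_le (H := K0 ⊓ Subgroup.centralizer {ψ z0}) (K := ψ.range) (by
      rintro _ ⟨s, rfl⟩
      exact ⟨mem_K0' (ψ_fix s), Subgroup.mem_centralizer_singleton_iff.2 (by
        rw [← map_mul, ← map_mul, Z_comm (z := z0) (xz_mem _)])⟩) ![1, (h * h)⁻¹, g⁻¹] (fun i => by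
      fin_cases i
      · exact one_mem _
      · refine inv_mem ⟨mul_mem (mem_K0' t.fix) (mem_K0' t.fix), Subgroup.mem_centralizer_singleton_iff.2 ?_⟩
        rw [← mul_inv_eq_iff_eq_mul, t2.1]; exact congrArg ψ (by decide +kernel)
      · exact inv_mem ⟨a, Subgroup.mem_centralizer_singleton_iff.2 (mul_inv_eq_iff_eq_mul.1 b)⟩) fun i j l => by
    have l' := inv_mem l
    fin_cases i <;> fin_cases j <;> simp_all
  rw [← Nat.card_congr (MonoidHom.ofInjective ψ_inj).toEquiv, card_Sv, Nat.card_eq_fintype_card, Fintype.card_fin] at this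
  have := card_C
  omega

theorem Tt.nr {t : Co0} {a b : K9} {τ : K9 ≃+* K9} (h : Tt t a b τ) : Nr t := fun x => ⟨_, h.1 x⟩

theorem gd_K0 {g : Co0} (a : g ∈ K0) (b : Nr g) : Gd g := by
  obtain ⟨y, c⟩ := b z0
  rcases cen_cases (y := y) fun x => ψ_inj (by
    obtain ⟨w, d⟩ := b.surj x
    have := congrArg ψ (Z_comm (z := z0) (xz_mem _) w)
    rw [map_mul, map_mul] at this
    rw [map_mul, map_mul, ← c, ← d]
    calc _ = g * (ψ z0 * ψ w) * g⁻¹ := by group
      _ = _ := by rw [← this]; group) with rfl | rfl | rfl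
  · exact absurd (ψ_inj (a₁ := z0) (a₂ := 1) (by simpa using c)) (by decide +kernel)
  · exact gd_C a c
  · obtain ⟨h, t⟩ := exists_tt (a := ii) (b := 1 + ii) (by decide) (by decide) 1
    refine .left t (by decide) (by decide) (gd_C (mul_mem (inv_mem (mem_K0' t.fix)) a) ?_)
    rw [show z0 * z0 = dg ii (1 + ii) 1 z0 by decide +kernel, ← t.1] at c
    calc _ = h⁻¹ * (g * ψ z0 * g⁻¹) * h := by group
      _ = _ := by rw [c]; group

theorem Nr.gd {g : Co0} (h : Nr g) (h0 : g • e 0 = e 0) : Gd g := by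
  obtain ⟨p, hp⟩ := h.perm (1 + ii)
  obtain ⟨q, hq⟩ := h.perm (-ii)
  obtain ⟨r, hr⟩ := h.perm (-1)
  have key : ∀ p : Bool × K9, gs p (false, 0) = gam (1 + ii - 0) → ∀ q, gs q (false, 0) = gam (-ii - 0) →
      gs p q = gam (1 + ii - -ii) → ∀ r, gs r (false, 0) = gam (-1 - 0) → gs p r = gam (1 + ii - -1) →
      gs q r = gam (-ii - -1) → ∃ a : K9, a ≠ 0 ∧ ∃ b : K9, b ≠ 0 ∧ ∃ τ ∈ [1, starRingAut],
        p = (false, act a b τ (1 + ii)) ∧ q = (false, act a b τ (-ii)) ∧ r = (false, act a b τ (-1)) := by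
    decide +kernel
  have h0' : g • e 0 = es (false, 0) := h0
  obtain ⟨a, ha, b, hb, τ, -, rfl, rfl, rfl⟩ := key p (by rw [← dt_es, ← hp, ← h0', co_dt, dt_e])
    q (by rw [← dt_es, ← hq, ← h0', co_dt, dt_e]) (by rw [← dt_es, ← hp, ← hq, co_dt, dt_e])
    r (by rw [← dt_es, ← hr, ← h0', co_dt, dt_e]) (by rw [← dt_es, ← hp, ← hr, co_dt, dt_e])
    (by rw [← dt_es, ← hq, ← hr, co_dt, dt_e])
  obtain ⟨t, k⟩ := exists_tt ha hb τ
  refine .left k ha hb (gd_K0 (mem_K0 ?_ ?_ ?_ ?_) (k.nr.inv_mul h)) <;> rw [mul_smul, inv_smul_eq_iff, k.2]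
  exacts [by rw [h0]; simp [act], hp, hq, hr]

end CF.FusV.W
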